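import Cfsg.Agent.Lib.Fusion.RankThree.Setup
import Cfsg.Agent.Lib.Fusion.RankThree.Line

/-!
Automorphisms of a subgroup of a finite `p`-group stabilising series, and sections of bounded rank.
-/

set_option autoImplicit false
set_option linter.unusedSectionVars false
set_option linter.style.haveILetI false

namespace Cfsg.Agent.Fusion.RankThree.Normal

open Cfsg Cfsg.Agent.Fusion Cfsg.Agent.Fusion.Basic Cfsg.Agent.Fusion.Saturation
open Cfsg.Agent.Fusion.RankThree
open Subgroup (zpowers closure mem_zpowers mem_zpowers_iff)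

variable {X : Type*} [Group X] [Finite X] {p : ℕ} [hp : Fact p.Prime] {E D : Subgroup X}

/-! ### Functions of automorphisms -/

theorem af_mul (a : MulAut E) {u v : X} (hu : u ∈ E) (hv : v ∈ E) :
    autFun a (u * v) = autFun a u * autFun a v :=
  autFun_isHom a u hu v hv

theorem af_one' (a : MulAut E) : autFun a 1 = 1 := (autFun_isHom a).map_one

theorem af_inv (a : MulAut E) {v : X} (hv : v ∈ E) : autFun a v⁻¹ = (autFun a v)⁻¹ :=
  (autFun_isHom a).map_inv hv

theorem af_pow (a : MulAut E) {v : X} (hv : v ∈ E) (n : ℕ) : autFun a (v ^ n) = autFun a v ^ n := by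
  induction n with
  | zero => rw [pow_zero, pow_zero, af_one']
  | succ n ih => rw [pow_succ, pow_succ, af_mul a (pow_mem hv n) hv, ih]

theorem af_zpow (a : MulAut E) {v : X} (hv : v ∈ E) (n : ℤ) : autFun a (v ^ n) = autFun a v ^ n := by
  rcases n with n | n
  · rw [Int.ofNat_eq_natCast, zpow_natCast, zpow_natCast, af_pow a hv]
  · rw [zpow_negSucc, zpow_negSucc, af_inv a (pow_mem hv _), af_pow a hv]

theorem af_cm (a : MulAut E) {u v : X} (hu : u ∈ E) (hv : v ∈ E) :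
    autFun a (cm u v) = cm (autFun a u) (autFun a v) := by
  rw [cm_def, cm_def, af_mul a (mul_mem (mul_mem (inv_mem hu) (inv_mem hv)) hu) hv,
    af_mul a (mul_mem (inv_mem hu) (inv_mem hv)) hu, af_mul a (inv_mem hu) (inv_mem hv), af_inv a hu,
    af_inv a hv]

theorem af_eq_of_step {C : Subgroup X} (a : MulAut E) {v : X} (h : v⁻¹ * autFun a v ∈ C) :
    ∃ c ∈ C, autFun a v = v * c :=
  ⟨_, h, (mul_inv_cancel_left v _).symm⟩

/-! ### Series -/

/-- Automorphisms generated by stabilisers of a series stabilise it. -/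
theorem stab_closure {C : ℕ → Subgroup X} {n : ℕ} (hmono : ∀ i < n, C i ≤ C (i + 1))
    (hCE : ∀ i ≤ n, C i ≤ E) {s : Set (MulAut E)}
    (hs : ∀ a ∈ s, ∀ i < n, ∀ v ∈ C (i + 1), v⁻¹ * autFun a v ∈ C i) :
    ∀ a ∈ closure s, ∀ i < n, ∀ v ∈ C (i + 1), v⁻¹ * autFun a v ∈ C i := by
  have hmul : ∀ a b : MulAut E, (∀ i < n, ∀ v ∈ C (i + 1), v⁻¹ * autFun a v ∈ C i) →
      (∀ i < n, ∀ v ∈ C (i + 1), v⁻¹ * autFun b v ∈ C i) →
      ∀ i < n, ∀ v ∈ C (i + 1), v⁻¹ * autFun (a * b) v ∈ C i := by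
    intro a b ha hb i hi v hv
    obtain ⟨c, hc, hce⟩ := af_eq_of_step b (hb i hi v hv)
    have hc' : c ∈ C (i + 1) := hmono i hi hc
    have hpres : autFun a c ∈ C i := by
      rcases Nat.eq_zero_or_pos i with h | h
      · subst h
        have h1 := ha 0 hi c hc'
        have := mul_mem hc h1
        rwa [mul_inv_cancel_left] at this
      · obtain ⟨j, rfl⟩ := Nat.exists_eq_add_of_le' h
        have h1 := hmono j (by omega) (ha j (by omega) c hc)
        have := mul_mem hc h1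
        rwa [mul_inv_cancel_left] at this
    rw [autFun_mul, hce, af_mul a (hCE _ hi hv) (hCE _ hi hc'), ← mul_assoc]
    exact mul_mem (ha i hi v hv) hpres
  intro a ha
  induction ha using Subgroup.closure_induction with
  | mem a ha => exact hs a ha
  | one => intro i _ v _; rw [autFun_one, id, inv_mul_cancel]; exact one_mem _
  | mul a b _ _ iha ihb => exact hmul a b iha ihb
  | inv a _ iha =>
    have hpow : ∀ m : ℕ, ∀ i < n, ∀ v ∈ C (i + 1), v⁻¹ * autFun (a ^ m) v ∈ C i := by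
      intro m
      induction m with
      | zero => intro i _ v _; rw [pow_zero, autFun_one, id, inv_mul_cancel]; exact one_mem _
      | succ m ih => rw [pow_succ]; exact hmul _ _ ih iha
    haveI : Finite (MulAut E) := Finite.of_injective _ DFunLike.coe_injective
    obtain ⟨m, hm⟩ : ∃ m : ℕ, a ^ m = a⁻¹ := by
      refine ⟨orderOf a - 1, eq_inv_of_mul_eq_one_left ?_⟩
      rw [← pow_succ, Nat.sub_add_cancel (orderOf_pos a), pow_orderOf_eq_one]
    rw [← hm]
    exact hpow m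

/-- Automorphisms stabilising a series form a `p`-group. -/
theorem isPGroup_of_stab (hX : IsPGroup p X) {C : ℕ → Subgroup X} {n : ℕ} (h0 : C 0 = ⊥) (hn : C n = E)
    (hmono : ∀ i < n, C i ≤ C (i + 1)) (hCE : ∀ i ≤ n, C i ≤ E) {s : Set (MulAut E)}
    (hs : ∀ a ∈ s, ∀ i < n, ∀ v ∈ C (i + 1), v⁻¹ * autFun a v ∈ C i) : IsPGroup p (closure s) := by
  intro a
  obtain ⟨k, hk⟩ := Normal.exists_pow_eq_one_of_stabilizes (p := p) (hX.to_subgroup E)
    (fun i => (C i).subgroupOf E) n (by simp only [h0, Subgroup.bot_subgroupOf])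
    (by simp only [hn, Subgroup.subgroupOf_self]) (fun i hi => Subgroup.comap_mono (hmono i hi))
    (a : MulAut E) fun i hi v hv => by
      rw [Subgroup.mem_subgroupOf] at hv ⊢
      rw [Subgroup.coe_mul, Subgroup.coe_inv, ← autFun_apply]
      exact stab_closure hmono hCE hs a a.2 i hi v hv
  exact ⟨k, Subtype.ext (by simpa using hk)⟩

theorem isPGroup_stab2 (hX : IsPGroup p X) {T : Subgroup X} (hT : T ≤ E) {s : Set (MulAut E)}
    (h1 : ∀ a ∈ s, ∀ v ∈ T, autFun a v = v) (h2 : ∀ a ∈ s, ∀ v ∈ E, v⁻¹ * autFun a v ∈ T) :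
    IsPGroup p (closure s) := by
  refine isPGroup_of_stab hX (C := fun i => match i with | 0 => ⊥ | 1 => T | _ => E) (n := 2) rfl rfl
    (fun i hi => ?_) (fun i hi => ?_) fun a ha i hi v hv => ?_
  · interval_cases i
    exacts [bot_le, hT]
  · interval_cases i
    exacts [bot_le, hT, le_rfl]
  · interval_cases i
    · exact Subgroup.mem_bot.2 (by rw [h1 a ha v hv, inv_mul_cancel])
    · exact h2 a ha v hv

theorem isPGroup_stab3 (hX : IsPGroup p X) {C T : Subgroup X} (hC : C ≤ T) (hT : T ≤ E)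
    {s : Set (MulAut E)} (h1 : ∀ a ∈ s, ∀ v ∈ C, autFun a v = v)
    (h2 : ∀ a ∈ s, ∀ v ∈ T, v⁻¹ * autFun a v ∈ C) (h3 : ∀ a ∈ s, ∀ v ∈ E, v⁻¹ * autFun a v ∈ T) :
    IsPGroup p (closure s) := by
  refine isPGroup_of_stab hX (C := fun i => match i with | 0 => ⊥ | 1 => C | 2 => T | _ => E) (n := 3)
    rfl rfl (fun i hi => ?_) (fun i hi => ?_) fun a ha i hi v hv => ?_
  · interval_cases i
    exacts [bot_le, hC, hT]
  · interval_cases i
    exacts [bot_le, hC.trans hT, hT, le_rfl]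
  · interval_cases i
    · exact Subgroup.mem_bot.2 (by rw [h1 a ha v hv, inv_mul_cancel])
    · exact h2 a ha v hv
    · exact h3 a ha v hv

/-- A `p`-element fixes the cosets in a step of index at most `p`. -/
theorem step {C : Subgroup X} (hC : C ≤ E) (hD : D ≤ E) (hidx : C.relIndex D ≤ p) {a : MulAut E}
    (hpC : ∀ v ∈ C, autFun a v ∈ C) (hpD : ∀ v ∈ D, autFun a v ∈ D) {k : ℕ} (hk : a ^ p ^ k = 1) :
    ∀ v ∈ D, v⁻¹ * autFun a v ∈ C := by
  intro v hv
  have h := EssentialShape.step_fixed (p := p) (C := C.subgroupOf E) (D := D.subgroupOf E) (α := a) (k := k)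
    (by
      rw [← Subgroup.relIndex_map_map_of_injective _ _ E.subtype_injective,
        Subgroup.map_subgroupOf_eq_of_le hC, Subgroup.map_subgroupOf_eq_of_le hD]
      exact hidx)
    (fun x hx => by rw [Subgroup.mem_subgroupOf] at hx ⊢; rw [← autFun_apply]; exact hpC _ hx)
    (fun x hx => by rw [Subgroup.mem_subgroupOf] at hx ⊢; rw [← autFun_apply]; exact hpD _ hx)
    hk ⟨v, hD hv⟩ (Subgroup.mem_subgroupOf.2 hv)
  rw [Subgroup.mem_subgroupOf, Subgroup.coe_mul, Subgroup.coe_inv, ← autFun_apply] at h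
  exact h

/-- The automorphisms preserving `D`. -/
def preserve (E D : Subgroup X) : Subgroup (MulAut E) where
  carrier := {a | (∀ v ∈ D, autFun a v ∈ D) ∧ ∀ v ∈ D, autFun a⁻¹ v ∈ D}
  one_mem' := ⟨fun v hv => by simpa [autFun_one] using hv,
    fun v hv => by simpa [autFun_one] using hv⟩
  mul_mem' := by
    rintro a b ⟨ha, ha'⟩ ⟨hb, hb'⟩
    refine ⟨fun v hv => by rw [autFun_mul]; exact ha _ (hb v hv), fun v hv => ?_⟩
    rw [mul_inv_rev, autFun_mul]
    exact hb' _ (ha' v hv)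
  inv_mem' := by
    rintro a ⟨ha, ha'⟩
    exact ⟨ha', fun v hv => by rw [inv_inv]; exact ha v hv⟩

theorem mem_preserve_of {a : MulAut E} (h : ∀ v ∈ D, autFun a v ∈ D) : a ∈ preserve E D := by
  refine ⟨h, fun v hv => ?_⟩
  obtain ⟨y, hy⟩ := Finite.surjective_of_injective (f := fun y : D => (⟨autFun a y, h y y.2⟩ : D))
    (fun u w he => Subtype.ext (by
      have := congrArg (autFun a⁻¹) (congrArg Subtype.val he)
      simpa only [autFun_inv_apply] using this)) ⟨v, hv⟩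
  rw [show v = autFun a y from (congrArg Subtype.val hy).symm, autFun_inv_apply]
  exact y.2

theorem af_mem_preserve {a : MulAut E} (h : a ∈ preserve E D) {v : X} (hv : v ∈ D) : autFun a v ∈ D :=
  h.1 v hv

/-- Restriction to an invariant subgroup. -/
noncomputable def restr (hD : D ≤ E) : preserve E D →* MulAut D where
  toFun a :=
    { toFun := fun v => ⟨autFun (a : MulAut E) v, a.2.1 v v.2⟩
      invFun := fun v => ⟨autFun (a : MulAut E)⁻¹ v, a.2.2 v v.2⟩
      left_inv := fun v => Subtype.ext (autFun_inv_apply _ _)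
      right_inv := fun v => Subtype.ext (autFun_apply_inv _ _)
      map_mul' := fun u v => Subtype.ext (af_mul _ (hD u.2) (hD v.2)) }
  map_one' := MulEquiv.ext fun v => Subtype.ext (by
    show autFun ((1 : preserve E D) : MulAut E) v = v
    rw [Subgroup.coe_one, autFun_one]; rfl)
  map_mul' a b := MulEquiv.ext fun v => Subtype.ext (autFun_mul _ _ _)

theorem restr_apply (hD : D ≤ E) (a : preserve E D) {v : X} (hv : v ∈ D) :
    autFun (restr hD a) v = autFun (a : MulAut E) v := by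
  rw [autFun_of_mem _ hv]; rfl

/-- Stabilisers of a series in an invariant subgroup have `p`-powers that fix it. -/
theorem exists_pow_fix (hX : IsPGroup p X) (hD : D ≤ E) {C : ℕ → Subgroup X} {n : ℕ} (h0 : C 0 = ⊥)
    (hn : C n = D) (hmono : ∀ i < n, C i ≤ C (i + 1)) (hCD : ∀ i ≤ n, C i ≤ D) {s : Set (MulAut E)}
    (hpres : ∀ a ∈ s, ∀ v ∈ D, autFun a v ∈ D)
    (hs : ∀ a ∈ s, ∀ i < n, ∀ v ∈ C (i + 1), v⁻¹ * autFun a v ∈ C i) :
    ∀ a ∈ closure s, ∃ k : ℕ, ∀ v ∈ D, autFun (a ^ p ^ k) v = v := by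
  intro a ha
  have hsub : closure s ≤ preserve E D := (Subgroup.closure_le _).2 fun b hb => mem_preserve_of (hpres b hb)
  let s' : Set (MulAut D) := {b | ∃ c : preserve E D, (c : MulAut E) ∈ s ∧ restr hD c = b}
  have hs' : ∀ b ∈ s', ∀ i < n, ∀ v ∈ C (i + 1), v⁻¹ * autFun b v ∈ C i := by
    rintro _ ⟨c, hc, rfl⟩ i hi v hv
    rw [restr_apply hD c (hCD _ hi hv)]
    exact hs _ hc i hi v hv
  have hmem : ∀ c, c ∈ closure s → ∀ hcp : c ∈ preserve E D, restr hD ⟨c, hcp⟩ ∈ closure s' := by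
    intro c hc
    induction hc using Subgroup.closure_induction with
    | mem c hc => intro hcp; exact Subgroup.subset_closure ⟨⟨c, hcp⟩, hc, rfl⟩
    | one => intro hcp; rw [show (⟨1, hcp⟩ : preserve E D) = 1 from rfl, map_one]; exact one_mem _
    | mul c d hc hd ihc ihd =>
      intro hcp
      rw [show (⟨c * d, hcp⟩ : preserve E D) = ⟨c, hsub hc⟩ * ⟨d, hsub hd⟩ from rfl, map_mul]
      exact mul_mem (ihc _) (ihd _)
    | inv c hc ihc =>
      intro hcp
      rw [show (⟨c⁻¹, hcp⟩ : preserve E D) = ⟨c, hsub hc⟩⁻¹ from rfl, map_inv]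
      exact inv_mem (ihc _)
  obtain ⟨k, hk⟩ := isPGroup_of_stab hX h0 hn hmono hCD hs' ⟨_, hmem a ha (hsub ha)⟩
  refine ⟨k, fun v hv => ?_⟩
  have h1 : restr hD (⟨a, hsub ha⟩ ^ p ^ k) = 1 := by rw [map_pow]; exact congrArg Subtype.val hk
  have h2 := restr_apply hD (⟨a, hsub ha⟩ ^ p ^ k) hv
  rw [h1, autFun_one, SubgroupClass.coe_pow] at h2
  exact h2.symm

/-! ### Rank -/

/-- An elementary abelian section has order at most `p ^ 3`. -/
theorem sect_card_le (hsr : SectionalPRankLE p 3 X) {N H : Subgroup X} (hN : N ≤ H)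
    (hc : ∀ a ∈ H, ∀ b ∈ H, cm a b ∈ N) (hpow : ∀ a ∈ H, a ^ p ∈ N) :
    Nat.card H ≤ p ^ 3 * Nat.card N := by
  haveI : (N.subgroupOf H).Normal := by
    refine ⟨fun v hv g => ?_⟩
    rw [Subgroup.mem_subgroupOf] at hv ⊢
    have h1 := mul_mem hv (hc v v.2 (g : X)⁻¹ (inv_mem g.2))
    rw [cm_def, show (v : X) * ((v : X)⁻¹ * (g : X)⁻¹⁻¹ * v * (g : X)⁻¹) = g * v * (g : X)⁻¹ by group] at h1
    simpa using h1
  have h := RankThree.relIndex_le (sectional_subgroup hsr H) (N := N.subgroupOf H) (A := ⊤)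
    (fun a _ b _ => by
      rw [Subgroup.mem_subgroupOf, show ((cm a b : H) : X) = cm (a : X) b from map_cm H.subtype _ _]
      exact hc a a.2 b b.2)
    (fun a _ => by rw [Subgroup.mem_subgroupOf, SubgroupClass.coe_pow]; exact hpow a a.2)
  rw [Subgroup.relIndex_top_right] at h
  have h1 := (N.subgroupOf H).card_mul_index
  rw [Nat.card_congr (Subgroup.subgroupOfEquivOfLe hN).toEquiv] at h1
  rw [← h1, mul_comm]
  exact Nat.mul_le_mul_right _ h

theorem elem_le (hsr : SectionalPRankLE p 3 X) {B : Subgroup X} (hB : Elem p B) :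
    Nat.card B ≤ p ^ 3 := by
  have h := sect_card_le hsr (p := p) (bot_le : (⊥ : Subgroup X) ≤ B)
    (fun a ha b hb => Subgroup.mem_bot.2 (cm_eq_one_iff.2 (hB.1 a ha b hb)))
    (fun a ha => Subgroup.mem_bot.2 (hB.2 a ha))
  rwa [Subgroup.card_bot, mul_one] at h

/-- Four independent elements in an elementary abelian section. -/
theorem sect_four (hX : IsPGroup p X) (hsr : SectionalPRankLE p 3 X) {N H : Subgroup X} (hN : N ≤ H)
    (hc : ∀ a ∈ H, ∀ b ∈ H, cm a b ∈ N) (hpow : ∀ a ∈ H, a ^ p ∈ N) {a b c d : X} (ha : a ∈ H)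
    (hb : b ∈ H) (hc' : c ∈ H) (hd : d ∈ H) (h1 : a ∉ N) (h2 : b ∉ N ⊔ zpowers a)
    (h3 : c ∉ N ⊔ zpowers a ⊔ zpowers b) (h4 : d ∉ N ⊔ zpowers a ⊔ zpowers b ⊔ zpowers c) : False := by
  have hle : N ⊔ zpowers a ⊔ zpowers b ⊔ zpowers c ⊔ zpowers d ≤ H := by
    simp only [sup_le_iff, Subgroup.zpowers_le]
    exact ⟨⟨⟨⟨hN, ha⟩, hb⟩, hc'⟩, hd⟩
  have e1 := mul_card_le_sup hX h1
  have e2 := mul_card_le_sup hX h2
  have e3 := mul_card_le_sup hX h3
  have e4 := mul_card_le_sup hX h4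
  have e5 := Subgroup.card_le_of_le hle
  have e6 := sect_card_le hsr hN hc hpow
  have hN0 : 0 < Nat.card N := Nat.card_pos
  have h5 : p * (p * (p * (p * Nat.card N))) ≤ p ^ 3 * Nat.card N :=
    le_trans (le_trans (Nat.mul_le_mul_left p (le_trans (Nat.mul_le_mul_left p (le_trans
      (Nat.mul_le_mul_left p e1) e2)) e3)) e4) (e5.trans e6)
  have h6 : p ^ 4 * Nat.card N ≤ p ^ 3 * Nat.card N := by
    calc p ^ 4 * Nat.card N = p * (p * (p * (p * Nat.card N))) := by ring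
      _ ≤ _ := h5
  have := (Nat.pow_le_pow_iff_right hp.out.one_lt).1 (Nat.le_of_mul_le_mul_right h6 hN0)
  omega

theorem pow_mul_one (hp2 : p ≠ 2) {a b : X} (ha : Commute (cm b a) a) (hb : Commute (cm b a) b)
    (hc : (cm b a) ^ p = 1) (hap : a ^ p = 1) (hbp : b ^ p = 1) : (a * b) ^ p = 1 := by
  rw [mul_pow_class_two_eq hp.out hp2 ha hb hc, hap, hbp, one_mul]

theorem exists_of_mem_sup_comm {a b v : X} (h : Commute a b) (hv : v ∈ zpowers a ⊔ zpowers b) :
    ∃ i j : ℤ, v = a ^ i * b ^ j := by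
  have hn : zpowers b ≤ Subgroup.normalizer (zpowers a : Set X) := by
    refine le_trans ?_ (Subgroup.centralizer_le_normalizer _)
    rw [Subgroup.zpowers_le, Subgroup.mem_centralizer_iff]
    rintro _ ⟨i, rfl⟩
    exact (h.zpow_left i).eq
  have h1 : v ∈ ((zpowers a ⊔ zpowers b : Subgroup X) : Set X) := hv
  rw [Subgroup.coe_mul_of_right_le_normalizer_left _ _ hn] at h1
  obtain ⟨_, ⟨i, rfl⟩, _, ⟨j, rfl⟩, rfl⟩ := h1
  exact ⟨i, j, rfl⟩

/-- Three elements with commutators in a central elementary group of order `p ^ 2`. -/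
theorem no_three (hX : IsPGroup p X) (hp2 : p ≠ 2) (hsr : SectionalPRankLE p 3 X) {U : Subgroup X}
    (hU : Elem p U) (hUc : Nat.card U = p ^ 2) {w1 w2 w3 : X} (hp1 : w1 ^ p = 1) (hp2' : w2 ^ p = 1)
    (hp3 : w3 ^ p = 1) (hc1 : ∀ u ∈ U, Commute w1 u) (hc2 : ∀ u ∈ U, Commute w2 u)
    (hc3 : ∀ u ∈ U, Commute w3 u) (h12 : cm w1 w2 ∈ U) (h13 : cm w1 w3 ∈ U) (h23 : cm w2 w3 ∈ U)
    (h1 : w1 ∉ U) (h2 : w2 ∉ U ⊔ zpowers w1) (h3 : w3 ∉ U ⊔ zpowers w1 ⊔ zpowers w2) : False := by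
  have hpp := hp.out
  -- commuting independent pair
  have key : ∀ a b : X, a ^ p = 1 → b ^ p = 1 → (∀ u ∈ U, Commute a u) → (∀ u ∈ U, Commute b u) →
      Commute a b → a ∉ U → b ∉ U ⊔ zpowers a → False := by
    intro a b hap hbp hac hbc hab haU hbU
    have e1 := hU.sup_zpowers (x := a) hac hap
    have e2 : Elem p (U ⊔ zpowers a ⊔ zpowers b) := e1.sup_zpowers (fun v hv => by
      have hle : U ⊔ zpowers a ≤ Subgroup.centralizer {b} := by
        refine sup_le (fun u hu => Subgroup.mem_centralizer_singleton_iff.2 (hbc u hu).symm.eq) ?_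
        rw [Subgroup.zpowers_le]
        exact Subgroup.mem_centralizer_singleton_iff.2 hab.eq
      exact (Commute.symm (Subgroup.mem_centralizer_singleton_iff.1 (hle hv)))) hbp
    have h4 := elem_le hsr e2
    have h5 := le_trans (Nat.mul_le_mul_left p (mul_card_le_sup hX haU)) (mul_card_le_sup hX hbU)
    rw [hUc] at h5
    have h6 : p ^ 4 ≤ p ^ 3 := le_trans (le_of_eq (by ring)) (h5.trans h4)
    have := (Nat.pow_le_pow_iff_right hpp.one_lt).1 h6
    omega
  set c1 := cm w1 w2 with hc1d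
  set c2 := cm w1 w3 with hc2d
  have hw3n : ∀ k : ℤ, w3 * w2 ^ k ∉ U ⊔ zpowers w1 := fun k h => h3 (by
    have h' := mul_mem (Subgroup.mem_sup_left h : w3 * w2 ^ k ∈ U ⊔ zpowers w1 ⊔ zpowers w2)
      (Subgroup.mem_sup_right (zpow_mem (mem_zpowers w2) (-k)))
    rwa [zpow_neg, mul_inv_cancel_right] at h')
  by_cases hc10 : c1 = 1
  · exact key w1 w2 hp1 hp2' hc1 hc2 (cm_eq_one_iff.1 hc10) h1 h2
  by_cases hc2in : c2 ∈ zpowers c1
  · obtain ⟨k, hk⟩ := mem_zpowers_iff.1 hc2in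
    refine key w1 (w3 * w2 ^ (-k)) hp1 ?_ hc1 (fun u hu => (hc3 u hu).mul_left ((hc2 u hu).zpow_left _))
      (cm_eq_one_iff.1 ?_) h1 (hw3n _)
    · have h' : cm (w2 ^ (-k)) w3 = cm w2 w3 ^ (-k) := cm_pow_left (hc2 _ h23).symm _
      refine pow_mul_one hp2 ?_ ?_ ?_ hp3 (by rw [← zpow_natCast, ← zpow_mul, mul_comm, zpow_mul,
        zpow_natCast, hp2', one_zpow])
      · rw [h']; exact (hc3 _ h23).symm.zpow_left _
      · rw [h']; exact ((hc2 _ h23).symm.zpow_left _).zpow_right _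
      · rw [h']; exact hU.2 _ (zpow_mem h23 _)
    · rw [cm_mul_right, cm_pow_right (hc2 _ h12).symm, ← hc1d, ← hc2d,
        show (w2 ^ (-k))⁻¹ * c2 * w2 ^ (-k) = c2 by
          rw [mul_assoc, ((hc2 c2 h13).symm.zpow_right (-k)).eq, inv_mul_cancel_left],
        ← hk, ← zpow_add, neg_add_cancel, zpow_zero]
  · have hgen : zpowers c1 ⊔ zpowers c2 = U := by
      refine Subgroup.eq_of_le_of_card_ge (sup_le (Subgroup.zpowers_le.2 h12) (Subgroup.zpowers_le.2 h13)) ?_
      refine le_trans ?_ (mul_card_le_sup hX hc2in)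
      rw [hUc, Nat.card_zpowers, orderOf_eq_prime (hU.2 _ h12) hc10, pow_two]
    obtain ⟨i, j, h23'⟩ := exists_of_mem_sup_comm (hU.1 _ h12 _ h13) (hgen.ge h23)
    set a := w2 * w1 ^ (-j) with ha
    set b := w3 * w1 ^ i with hb
    have hw1 : ∀ n : ℤ, (w1 ^ n) ^ p = 1 := fun n => by
      rw [← zpow_natCast, ← zpow_mul, mul_comm, zpow_mul, zpow_natCast, hp1, one_zpow]
    have hclass : ∀ (w : X), (∀ u ∈ U, Commute w u) → cm w1 w ∈ U → w ^ p = 1 → ∀ n : ℤ,
        (w * w1 ^ n) ^ p = 1 := by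
      intro w hw hwU hwp n
      have h' : cm (w1 ^ n) w = cm w1 w ^ n := cm_pow_left (hc1 _ hwU).symm n
      refine pow_mul_one hp2 ?_ ?_ ?_ hwp (hw1 n)
      · rw [h']; exact (hw _ hwU).symm.zpow_left _
      · rw [h']; exact ((hc1 _ hwU).symm.zpow_left _).zpow_right _
      · rw [h']; exact hU.2 _ (zpow_mem hwU _)
    refine key a b (hclass w2 hc2 h12 hp2' _) (hclass w3 hc3 h13 hp3 _)
      (fun u hu => (hc2 u hu).mul_left ((hc1 u hu).zpow_left _))
      (fun u hu => (hc3 u hu).mul_left ((hc1 u hu).zpow_left _)) (cm_eq_one_iff.1 ?_) (fun h => h2 ?_) fun h => h3 ?_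
    · have hfix : ∀ z ∈ U, ∀ w : X, (∀ u ∈ U, Commute w u) → w⁻¹ * z * w = z := fun z hz w hw => by
        rw [mul_assoc, ← (hw z hz).eq, inv_mul_cancel_left]
      have e1 : cm w2 (w1 ^ i) = c1 ^ (-i) := by
        rw [cm_swap (w1 ^ i) w2, cm_pow_left (hc1 _ h12).symm, ← hc1d, zpow_neg]
      have e2 : cm (w1 ^ (-j)) w3 = c2 ^ (-j) := cm_pow_left (hc1 _ h13).symm _
      have e3 : cm (w1 ^ (-j)) (w1 ^ i) = 1 := cm_eq_one_iff.2 ((Commute.refl w1).zpow_zpow _ _)
      rw [ha, hb, cm_mul_left, cm_mul_right, cm_mul_right, e1, e2, e3, one_mul,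
        hfix _ h23 _ (fun u hu => (hc1 u hu).zpow_left _),
        hfix _ (mul_mem (zpow_mem h12 _) h23) _ (fun u hu => (hc1 u hu).zpow_left _),
        hfix _ (zpow_mem h13 _) _ (fun u hu => (hc1 u hu).zpow_left _), h23', ← mul_assoc, ← zpow_add,
        neg_add_cancel, zpow_zero, one_mul, ← zpow_add, add_neg_cancel, zpow_zero]
    · have h' := mul_mem (Subgroup.mem_sup_left h : a ∈ U ⊔ zpowers w1)
        (Subgroup.mem_sup_right (zpow_mem (mem_zpowers w1) j) : w1 ^ j ∈ U ⊔ zpowers w1)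
      rwa [ha, zpow_neg, inv_mul_cancel_right] at h'
    · have hle : U ⊔ zpowers a ≤ U ⊔ zpowers w1 ⊔ zpowers w2 :=
        sup_le (le_sup_left.trans le_sup_left) (Subgroup.zpowers_le.2 (mul_mem
          (Subgroup.mem_sup_right (mem_zpowers w2))
          (Subgroup.mem_sup_left (Subgroup.mem_sup_right (zpow_mem (mem_zpowers w1) _)))))
      have h' := mul_mem (hle h) (inv_mem (Subgroup.mem_sup_left (Subgroup.mem_sup_right
        (zpow_mem (mem_zpowers w1) i)) : w1 ^ i ∈ U ⊔ zpowers w1 ⊔ zpowers w2))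
      rwa [hb, mul_inv_cancel_right] at h'

end Cfsg.Agent.Fusion.RankThree.Normal
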