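import Cfsg.Agent.Lib.Fusion.RankThree.Normal.Other

/-!
An elementary abelian normal subgroup of order `p ^ 3` above a block of order `p ^ 2`.
-/

set_option autoImplicit false
set_option linter.unusedSectionVars false
set_option linter.style.haveILetI false

namespace Cfsg.Agent.Fusion.RankThree.Normal

open Cfsg Cfsg.FusionSystem
open Cfsg.Agent.Fusion Cfsg.Agent.Fusion.Basic Cfsg.Agent.Fusion.Saturation
open Cfsg.Agent.Fusion.RankThree
open Subgroup (zpowers closure mem_zpowers mem_zpowers_iff normalizer)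

variable {X : Type*} [Group X] [Finite X] {p : ℕ} [hp : Fact p.Prime] {F : FusionSystem (⊤ : Subgroup X)}
  {E : Subgroup X}

/-- Commutators in a closure with commutators of generators central. -/
theorem cm_closure_mem {s : Set X} {N : Subgroup X} (hc : ∀ n ∈ N, ∀ a ∈ s, Commute n a)
    (h : ∀ a ∈ s, ∀ b ∈ s, cm a b ∈ N) : ∀ a ∈ closure s, ∀ b ∈ closure s, cm a b ∈ N := by
  have hc' : ∀ n ∈ N, ∀ a ∈ closure s, Commute n a := by
    intro n hn a ha
    induction ha using Subgroup.closure_induction with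
    | mem a ha => exact hc n hn a ha
    | one => exact Commute.one_right n
    | mul a b _ _ iha ihb => exact iha.mul_right ihb
    | inv a _ iha => exact iha.inv_right
  have h1 : ∀ a ∈ s, ∀ b ∈ closure s, cm a b ∈ N := by
    intro a ha b hb
    induction hb using Subgroup.closure_induction with
    | mem b hb => exact h a ha b hb
    | one => rw [cm_one_right]; exact one_mem _
    | mul b d _ hd ihb ihd =>
      rw [cm_mul_right, mul_assoc d⁻¹, (hc' _ ihb d hd).eq, inv_mul_cancel_left]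
      exact mul_mem ihd ihb
    | inv b hb ihb =>
      have e : cm a b⁻¹ = b * (cm a b)⁻¹ * b⁻¹ := by rw [cm_def, cm_def]; group
      rw [e, ← (hc' _ (inv_mem ihb) b hb).eq, mul_inv_cancel_right]
      exact inv_mem ihb
  intro a ha b hb
  induction ha using Subgroup.closure_induction with
  | mem a ha => exact h1 a ha b hb
  | one => rw [cm_one_left]; exact one_mem _
  | mul a d _ hd iha ihd =>
    rw [cm_mul_left, mul_assoc d⁻¹, (hc' _ iha d hd).eq, inv_mul_cancel_left]
    exact mul_mem iha ihd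
  | inv a ha iha =>
    have e : cm a⁻¹ b = a * (cm a b)⁻¹ * a⁻¹ := by rw [cm_def, cm_def]; group
    rw [e, ← (hc' _ (inv_mem iha) a ha).eq, mul_inv_cancel_right]
    exact inv_mem iha

/-- Exponent `p` in class two. -/
theorem pow_closure (hp2 : p ≠ 2) {s : Set X} {N : Subgroup X} (hN : Elem p N)
    (hc : ∀ n ∈ N, ∀ a ∈ s, Commute n a) (h : ∀ a ∈ s, ∀ b ∈ s, cm a b ∈ N) (hs : ∀ a ∈ s, a ^ p = 1) :
    ∀ a ∈ closure s, a ^ p = 1 := by
  have hcm := cm_closure_mem hc h
  have hc' : ∀ n ∈ N, ∀ a ∈ closure s, Commute n a := by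
    intro n hn a ha
    induction ha using Subgroup.closure_induction with
    | mem a ha => exact hc n hn a ha
    | one => exact Commute.one_right n
    | mul a b _ _ iha ihb => exact iha.mul_right ihb
    | inv a _ iha => exact iha.inv_right
  intro a ha
  induction ha using Subgroup.closure_induction with
  | mem a ha => exact hs a ha
  | one => exact one_pow p
  | mul a b ha hb iha ihb =>
    exact pow_mul_one hp2 (hc' _ (hcm b hb a ha) a ha) (hc' _ (hcm b hb a ha) b hb)
      (hN.2 _ (hcm b hb a ha)) iha ihb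
  | inv a _ iha => rw [inv_pow, iha, inv_one]

/-- Commutators fall into a normal subgroup of index at most `p` in a normal subgroup. -/
theorem cm_mem_of_index (hX : IsPGroup p X) {U W : Subgroup X} [U.Normal] [W.Normal] (hUW : U ≤ W)
    (hidx : U.relIndex W ≤ p) (g : X) {w : X} (hw : w ∈ W) : cm w g ∈ U := by
  obtain ⟨k, hk⟩ := hX g⁻¹
  have h := step (p := p) (E := W) (a := cA W g⁻¹) (k := k) hUW le_rfl hidx
    (fun v hv => by rw [cA_apply _ (hUW hv)]; exact Subgroup.Normal.conj_mem ‹U.Normal› v hv g⁻¹)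
    (fun v hv => autFun_mem _ hv) (by rw [cA_eq, ← map_pow, hk, map_one]) w hw
  rw [cA_apply _ hw, inv_inv] at h
  rwa [cm_def, mul_assoc _ g⁻¹, mul_assoc _ (g⁻¹ * w)]

section Moved

variable {W : Subgroup X} (hH : Hyp p F) (hM : Moved p F E) (h2 : Nat.card (omegaZ p E) = p ^ 2)
  (hW : Elem p W) (hWc : Nat.card W = p ^ 3) (hUW : omegaZ p E ≤ W) (hWE : W ≤ E) [hWn : W.Normal]
  [hEn : E.Normal]
include hH hM h2 hW hWc hUW hWE hEn

theorem block_relIndex : (omegaZ p E).relIndex W = p := by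
  have h := Subgroup.relIndex_mul_relIndex (⊥ : Subgroup X) _ _ bot_le hUW
  rw [Subgroup.relIndex_bot_left, Subgroup.relIndex_bot_left, h2, hWc, pow_succ p 2] at h
  exact Nat.eq_of_mul_eq_mul_left (pow_pos hp.out.pos 2) h

/-- The block is invariant under the automizer. -/
theorem block_inv : AInv F E W := by
  set U := omegaZ p E with hU
  have hUa := ainv_omegaZ (p := p) (F := F) (E := E)
  have hnorm : ∀ a ∈ F.autGroup E, ∀ e ∈ E, ∀ w ∈ W, ∃ w' ∈ W, e * autFun a w * e⁻¹ = autFun a w' := by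
    intro a _ e he w hw
    have he' := autFun_mem a⁻¹ he
    refine ⟨autFun a⁻¹ e * w * (autFun a⁻¹ e)⁻¹, hWn.conj_mem w hw _, ?_⟩
    rw [af_mul a (mul_mem he' (hWE hw)) (inv_mem he'), af_mul a he' (hWE hw), af_inv a he',
      autFun_apply_inv]
  -- commutators of two images
  have hkey : ∀ a ∈ F.autGroup E, ∀ v ∈ W, ∀ w ∈ W, cm v (autFun a w) ∈ U := by
    intro a ha v hv w hw
    let W' : Subgroup X :=
      { carrier := {z | z ∈ E ∧ autFun a⁻¹ z ∈ W}
        one_mem' := ⟨one_mem _, by rw [af_one']; exact one_mem _⟩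
        mul_mem' := by
          rintro y z ⟨hy, hy'⟩ ⟨hz, hz'⟩
          exact ⟨mul_mem hy hz, by rw [af_mul _ hy hz]; exact mul_mem hy' hz'⟩
        inv_mem' := by
          rintro y ⟨hy, hy'⟩
          exact ⟨inv_mem hy, by rw [af_inv _ hy]; exact inv_mem hy'⟩ }
    have haw : autFun a w ∈ W' := ⟨autFun_mem a (hWE hw), by rw [autFun_inv_apply]; exact hw⟩
    have hcW : cm v (autFun a w) ∈ W := cm_mem hv _
    have hcW' : cm v (autFun a w) ∈ W' := by
      obtain ⟨w', hw', he⟩ := hnorm a ha v⁻¹ (inv_mem (hWE hv)) _ (inv_mem hw)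
      rw [af_inv a (hWE hw), inv_inv] at he
      refine ⟨hWE hcW, ?_⟩
      rw [cm_def, he, af_mul _ (autFun_mem a (hWE hw')) (autFun_mem a (hWE hw)), autFun_inv_apply,
        autFun_inv_apply]
      exact mul_mem hw' hw
    by_cases hle : W ≤ W'
    · have h1 : autFun a⁻¹ v ∈ W := (hle hv).2
      have h3 := (hW.1 _ h1 _ hw).map (MonoidHom.id X)
      rw [cm_eq_one_iff.2 ?_]
      · exact one_mem _
      have h4 := congrArg (autFun a) h3.eq
      simp only [MonoidHom.id_apply] at h4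
      rw [af_mul a (hWE h1) (hWE hw), af_mul a (hWE hw) (hWE h1), autFun_apply_inv] at h4
      exact h4
    · have hUW' : U ≤ W ⊓ W' := le_inf hUW fun u hu =>
        ⟨hu.1, hUW (hUa.2 _ (inv_mem ha) u hu)⟩
      have hlt : W ⊓ W' < W := lt_of_le_of_ne inf_le_left fun e => hle (e ▸ inf_le_right)
      have h3 := mul_card_le (hH.grp.to_subgroup W) hlt
      rw [hWc] at h3
      have h4 : U = W ⊓ W' := Subgroup.eq_of_le_of_card_ge hUW' (by
        rw [h2]
        refine Nat.le_of_mul_le_mul_left (h3.trans (le_of_eq ?_)) hp.out.pos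
        ring)
      rw [h4]
      exact ⟨hcW, hcW'⟩
  have hkey2 : ∀ a ∈ F.autGroup E, ∀ b ∈ F.autGroup E, ∀ v ∈ W, ∀ w ∈ W,
      cm (autFun a v) (autFun b w) ∈ U := by
    intro a ha b hb v hv w hw
    have h1 := hUa.2 a ha _ (hkey _ (mul_mem (inv_mem ha) hb) v hv w hw)
    rwa [af_cm a (hWE hv) (autFun_mem _ (hWE hw)), autFun_mul, autFun_apply_inv] at h1
  by_contra hcon
  obtain ⟨a, ha, w', hw', hw2⟩ : ∃ a ∈ F.autGroup E, ∃ w ∈ W, autFun a w ∉ W := by
    by_contra h
    push Not at h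
    exact hcon ⟨hWE, h⟩
  obtain ⟨w1, hw1, hw1U⟩ : ∃ w ∈ W, w ∉ U := SetLike.not_le_iff_exists.1 fun hle => by
    have := Subgroup.card_le_of_le hle
    rw [h2, hWc] at this
    have := (Nat.pow_le_pow_iff_right hp.out.one_lt).1 this
    omega
  have hWeq : U ⊔ zpowers w1 = W := by
    refine Subgroup.eq_of_le_of_card_ge (sup_le hUW (Subgroup.zpowers_le.2 hw1)) ?_
    refine le_trans (le_of_eq ?_) (mul_card_le_sup hH.grp hw1U)
    rw [hWc, h2]; ring
  set w2 := autFun a w' with hw2d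
  have hexp : ∀ b ∈ F.autGroup E, ∀ w ∈ W, autFun b w ^ p = 1 := fun b _ w hw => by
    rw [← af_pow b (hWE hw), hW.2 w hw, af_one']
  have hcen : ∀ b ∈ F.autGroup E, ∀ w ∈ W, ∀ u ∈ U, Commute (autFun b w) u :=
    fun b _ w hw u hu => (hu.2.2 _ (autFun_mem b (hWE hw))).symm
  have hone : w1 = autFun (1 : MulAut E) w1 := by rw [autFun_one]; rfl
  by_cases hall : ∀ b ∈ F.autGroup E, ∀ w ∈ W, autFun b w ∈ U ⊔ zpowers w1 ⊔ zpowers w2
  · set B := U ⊔ zpowers w1 ⊔ zpowers w2 with hB
    set c := cm w1 w2 with hc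
    have hcU : c ∈ U := by rw [hc, hone]; exact hkey2 _ (one_mem _) _ ha _ hw1 _ hw'
    have hBcl : B = closure ((U : Set X) ∪ {w1, w2}) := by
      rw [hB, Subgroup.closure_union, Subgroup.closure_eq, Set.insert_eq, Subgroup.closure_union,
        ← Subgroup.zpowers_eq_closure, ← Subgroup.zpowers_eq_closure, sup_assoc]
    have hBE : B ≤ E := sup_le (sup_le omegaZ_le (Subgroup.zpowers_le.2 (hWE hw1)))
      (Subgroup.zpowers_le.2 (autFun_mem a (hWE hw')))
    have hsU : ∀ z ∈ (U : Set X) ∪ {w1, w2}, z ∈ E ∧ ∀ u ∈ U, Commute u z := by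
      intro z hz
      have hzE : z ∈ E := hBE (hBcl ▸ Subgroup.subset_closure hz)
      exact ⟨hzE, fun u hu => hu.2.2 z hzE⟩
    have hcm : ∀ z ∈ B, ∀ y ∈ B, cm z y ∈ zpowers c := by
      rw [hBcl]
      refine cm_closure_mem (fun n hn z hz => (hsU z hz).2 n (Subgroup.zpowers_le.2 hcU hn)) ?_
      rintro z (hz | rfl | rfl) y (hy | rfl | rfl)
      all_goals first
        | (rw [cm_eq_one_iff.2 ((hsU _ (Or.inl hy)).2 _ hz)]; exact one_mem _)
        | (rw [cm_self]; exact one_mem _)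
        | exact mem_zpowers c
        | (rw [cm_eq_one_iff.2 ((hz : _ ∈ U).2.2 _ (hsU _ (by simp)).1)]; exact one_mem _)
        | (rw [cm_eq_one_iff.2 ((hy : _ ∈ U).2.2 _ (hsU _ (by simp)).1).symm]; exact one_mem _)
        | (rw [cm_swap]; exact inv_mem (mem_zpowers c))
    have hc1 : c ≠ 1 := by
      intro h0
      have hel : Elem p B := by
        rw [hB, hWeq]
        refine hW.sup_zpowers (fun b hb => ?_) (hexp a ha w' hw')
        refine (cm_eq_one_iff.1 ?_).symm
        have hb' : b ∈ B := by rw [hB, hWeq]; exact Subgroup.mem_sup_left hb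
        have hw2' : w2 ∈ B := Subgroup.mem_sup_right (mem_zpowers _)
        have := hcm b hb' w2 hw2'
        rwa [h0, Subgroup.zpowers_one_eq_bot, Subgroup.mem_bot] at this
      have h5 := mul_card_le_sup hH.grp (A := W) hw2
      have h6 := elem_le hH.rank hel
      rw [hB, hWeq] at h6
      rw [hWc, ← pow_succ'] at h5
      have := (Nat.pow_le_pow_iff_right hp.out.one_lt).1 (h5.trans h6)
      omega
    have hDinv : AInv F E (zpowers c) := by
      refine ⟨(Subgroup.zpowers_le.2 hcU).trans omegaZ_le, fun b hb v hv => ?_⟩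
      obtain ⟨n, rfl⟩ := mem_zpowers_iff.1 hv
      rw [af_zpow b (omegaZ_le hcU)]
      refine zpow_mem ?_ n
      rw [hc, af_cm b (hWE hw1) (autFun_mem a (hWE hw'))]
      refine hcm _ (hall b hb w1 hw1) _ ?_
      rw [← autFun_mul]
      exact hall _ (mul_mem hb ha) w' hw'
    have heq := irreducible_two hH hM h2 hDinv (Subgroup.zpowers_le.2 hcU)
      (fun e => hc1 (Subgroup.zpowers_eq_bot.1 e))
    rw [hU, ← heq, Nat.card_zpowers, orderOf_eq_prime (elem_omegaZ.2 c hcU) hc1] at h2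
    exact absurd h2.symm (lt_self_pow₀ hp.out.one_lt one_lt_two).ne'
  · push Not at hall
    obtain ⟨b, hb, w'', hw'', hw3⟩ := hall
    exact no_three hH.grp hH.odd hH.rank elem_omegaZ h2 (hW.2 _ hw1) (hexp a ha w' hw') (hexp b hb w'' hw'')
      (fun u hu => (hu.2.2 w1 (hWE hw1)).symm) (hcen a ha w' hw') (hcen b hb w'' hw'')
      (by rw [hone]; exact hkey2 _ (one_mem _) _ ha _ hw1 _ hw') (hkey b hb _ hw1 _ hw'')
      (hkey2 _ ha _ hb _ hw' _ hw'') hw1U (fun h => hw2 (hWeq.le h)) hw3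

/-- The commutator with an element outside the centre covers the block. -/
theorem block_surj {w : X} (hw : w ∈ W) (hwU : w ∉ omegaZ p E) {u : X} (hu : u ∈ omegaZ p E) :
    ∃ v ∈ E, cm v w = u := by
  set U := omegaZ p E with hUd
  haveI : U.Normal := ainv_omegaZ.normal (F := F)
  have hmem : ∀ v, cm v w ∈ U := fun v => by
    rw [cm_swap]
    exact inv_mem (cm_mem_of_index hH.grp hUW (block_relIndex hH hM h2 hW hWc hUW hWE).le v hw)
  let f : E →* U :=
    MonoidHom.mk' (fun v => ⟨cm (v : X) w, hmem v⟩) fun v v' => Subtype.ext (by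
      show cm ((v : X) * v') w = cm (v : X) w * cm (v' : X) w
      rw [cm_mul_left, mul_assoc (v' : X)⁻¹, ((hmem v).2.2 _ v'.2).eq, inv_mul_cancel_left])
  set I := f.range.map U.subtype
  have hIU : I ≤ U := Subgroup.map_subtype_le _
  have hWeq : U ⊔ zpowers w = W := by
    refine Subgroup.eq_of_le_of_card_ge (sup_le hUW (Subgroup.zpowers_le.2 hw)) ?_
    refine le_trans (le_of_eq ?_) (mul_card_le_sup hH.grp hwU)
    rw [hWc, h2]; ring
  have hI : AInv F E I := by
    refine ⟨hIU.trans omegaZ_le, ?_⟩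
    rintro a ha _ ⟨_, ⟨v, rfl⟩, rfl⟩
    show autFun a (cm (v : X) w) ∈ I
    rw [af_cm a v.2 (hWE hw)]
    obtain ⟨u', hu', z, hz, he⟩ :=
      Subgroup.mem_sup_of_normal_left.1 (hWeq.ge ((block_inv hH hM h2 hW hWc hUW hWE).2 a ha w hw))
    obtain ⟨n, rfl⟩ := mem_zpowers_iff.1 hz
    have hv' := autFun_mem a v.2
    rw [← he, cm_mul_right, cm_eq_one_iff.2 (hu'.2.2 _ hv').symm,
      cm_pow_right ((hmem _).2.2 w (hWE hw)), mul_one, inv_mul_cancel, mul_one]
    exact ⟨_, ⟨⟨_, hv'⟩ ^ n, rfl⟩, by rw [map_zpow, map_zpow]; rfl⟩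
  have hI1 : I ≠ ⊥ := by
    intro h
    refine hwU ⟨hWE hw, hW.2 w hw, fun v hv => ?_⟩
    have h1 : cm v w ∈ I := ⟨_, ⟨⟨v, hv⟩, rfl⟩, rfl⟩
    rw [h, Subgroup.mem_bot, cm_eq_one_iff] at h1
    exact h1.symm
  obtain ⟨_, ⟨v, rfl⟩, hv⟩ := (irreducible_two hH hM h2 hI hIU hI1).ge hu
  exact ⟨v, v.2, hv⟩

/-- No subgroup of index `p` of the essential subgroup centralises the block. -/
theorem block_index {T : Subgroup X} (hidx : T.relIndex E ≤ p)
    (hTW : ∀ t ∈ T, ∀ w ∈ W, Commute t w) : False := by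
  obtain ⟨w, hw, hwU⟩ : ∃ w ∈ W, w ∉ omegaZ p E := SetLike.not_le_iff_exists.1 fun hle => by
    have := Subgroup.card_le_of_le hle
    rw [h2, hWc] at this
    have := (Nat.pow_le_pow_iff_right hp.out.one_lt).1 this
    omega
  haveI : (omegaZ p E).Normal := ainv_omegaZ.normal (F := F)
  have hmem : ∀ v, cm v w ∈ omegaZ p E := fun v => by
    rw [cm_swap]
    exact inv_mem (cm_mem_of_index hH.grp hUW (block_relIndex hH hM h2 hW hWc hUW hWE).le v hw)
  let f : E →* omegaZ p E :=
    MonoidHom.mk' (fun v => ⟨cm (v : X) w, hmem v⟩) fun v v' => Subtype.ext (by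
      show cm ((v : X) * v') w = cm (v : X) w * cm (v' : X) w
      rw [cm_mul_left, mul_assoc (v' : X)⁻¹, ((hmem v).2.2 _ v'.2).eq, inv_mul_cancel_left])
  have hsurj : Function.Surjective f := fun u => by
    obtain ⟨v, hv, hvu⟩ := block_surj hH hM h2 hW hWc hUW hWE hw hwU u.2
    exact ⟨⟨v, hv⟩, Subtype.ext hvu⟩
  have hker : T.subgroupOf E ≤ f.ker := fun t ht => MonoidHom.mem_ker.2 (Subtype.ext
    (cm_eq_one_iff.2 (hTW _ (Subgroup.mem_subgroupOf.1 ht) _ hw)))
  have h3 := (Nat.le_of_dvd (Nat.pos_of_ne_zero Subgroup.index_ne_zero_of_finite)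
    (Subgroup.index_dvd_of_le hker)).trans hidx
  rw [Subgroup.index_ker, MonoidHom.range_eq_top.2 hsurj, Subgroup.card_top, h2] at h3
  exact absurd h3 (not_le.2 (lt_self_pow₀ hp.out.one_lt one_lt_two))

end Moved

end Cfsg.Agent.Fusion.RankThree.Normal
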