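import Cfsg.Agent.Lib.Fusion.RankThree.Section
import Cfsg.Agent.Techniques.Critical
import Cfsg.Agent.OddLocal.Coprime
import Cfsg.Agent.Lib.Fusion.Saturation

/-!
A characteristic subgroup of exponent `p` and class two that detects `p'`-automorphisms.
-/

set_option autoImplicit false
set_option linter.unusedSectionVars false
set_option linter.style.haveILetI false

namespace Cfsg.Agent.Fusion.RankThree.Normal

open Cfsg.Agent.Fusion.RankThree
open Subgroup (zpowers mem_zpowers mem_zpowers_iff centralizer)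
open scoped commutatorElement

variable {T : Type*} [Group T] [Finite T] {p : ℕ} [hp : Fact p.Prime]

theorem exists_detecting (hT : IsPGroup p T) (hp2 : p ≠ 2) :
    ∃ D : Subgroup T, (∀ σ : MulAut T, ∀ v ∈ D, σ v ∈ D) ∧ (∀ v ∈ D, v ^ p = 1) ∧
      (∀ u ∈ D, ∀ v ∈ D, ∀ d ∈ D, Commute (cm u v) d) ∧
      ∀ σ : MulAut T, (∀ v ∈ D, σ v = v) → ∃ j : ℕ, σ ^ p ^ j = 1 := by
  obtain ⟨H, hHc, -, hHT, hHC⟩ := Techniques.Critical.exists_critical hT
  haveI := hHc
  have hcmH : ∀ u ∈ H, ∀ v : T, cm u v ∈ H ⊓ centralizer (H : Set T) := fun u hu v => by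
    refine hHT ?_
    rw [show cm u v = ⁅u⁻¹, v⁻¹⁆ by rw [cm_def, commutatorElement_def]; group]
    exact Subgroup.commutator_mem_commutator (inv_mem hu) (Subgroup.mem_top _)
  have hcen : ∀ u ∈ H, ∀ v : T, ∀ d ∈ H, Commute (cm u v) d := fun u hu v d hd =>
    (Subgroup.mem_centralizer_iff.1 (hcmH u hu v).2 d hd).symm
  let D : Subgroup T :=
    { carrier := {v | v ∈ H ∧ v ^ p = 1}
      one_mem' := ⟨one_mem _, one_pow p⟩
      mul_mem' := by
        rintro u v ⟨hu, hu'⟩ ⟨hv, hv'⟩
        refine ⟨mul_mem hu hv, ?_⟩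
        have hc : (cm v u) ^ p = 1 := by
          have h1 := cm_pow_left (hcen v hv u v hv) (p : ℤ)
          rw [zpow_natCast, hv', cm_one_left, zpow_natCast] at h1
          exact h1.symm
        rw [mul_pow_class_two_eq hp.out hp2 (hcen v hv u u hu) (hcen v hv u v hv) hc, hu', hv', one_mul]
      inv_mem' := by
        rintro u ⟨hu, hu'⟩
        exact ⟨inv_mem hu, by rw [inv_pow, hu', inv_one]⟩ }
  have hchar : ∀ σ : MulAut T, ∀ v ∈ H, σ v ∈ H := fun σ v hv =>
    Subgroup.characteristic_iff_map_le.1 hHc σ ⟨v, hv, rfl⟩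
  refine ⟨D, fun σ v hv => ⟨hchar σ v hv.1, by rw [← map_pow, hv.2, map_one]⟩, fun v hv => hv.2,
    fun u hu v _ d hd => hcen u hu.1 v d hd.1, fun σ hσ => ?_⟩
  haveI : Finite (MulAut T) := Finite.of_injective _ DFunLike.coe_injective
  set n := orderOf σ with hn
  have hn0 : n ≠ 0 := (orderOf_pos σ).ne'
  refine ⟨n.factorization p, ?_⟩
  set τ := σ ^ p ^ n.factorization p with hτ
  have hord : orderOf τ = ordCompl[p] n := by
    rw [hτ, orderOf_pow' _ (pow_pos hp.out.pos _).ne', ← hn, Nat.gcd_eq_right (Nat.ordProj_dvd n p)]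
  have hcop : Nat.Coprime (orderOf τ) p := by
    rw [hord]
    exact (hp.out.coprime_iff_not_dvd.2 (Nat.not_dvd_ordCompl hp.out hn0)).symm
  have hτD : ∀ v ∈ D, τ v = v := fun v hv =>
    (MulAction.stabilizer (MulAut T) v).pow_mem (show σ ∈ _ from hσ v hv) _
  -- the automorphism fixes the critical subgroup
  have hτH : ∀ v ∈ H, τ v = v := by
    let G := T ⋊[MonoidHom.id (MulAut T)] MulAut T
    haveI : Finite G := Finite.of_equiv _ SemidirectProduct.equivProd.symm
    let i : T →* G := SemidirectProduct.inl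
    let j : MulAut T →* G := SemidirectProduct.inr
    have hji : ∀ (c : MulAut T) (v : T), j c * i v = i (c v) * j c := fun c v => by
      show SemidirectProduct.inr c * SemidirectProduct.inl v = SemidirectProduct.inl (c v) * SemidirectProduct.inr c
      have h := SemidirectProduct.inl_aut (φ := MonoidHom.id (MulAut T)) c v
      rw [MonoidHom.id_apply] at h
      rw [h, map_inv, inv_mul_cancel_right]
    have hj : Function.Injective j := SemidirectProduct.inr_injective
    have hle := OddLocal.Coprime.le_centralizer_of_fix_order_p (G := G) hp2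
      (P := H.map i) (A := zpowers (j τ)) ((hT.to_subgroup H).map i) ?_
      (by rw [Nat.card_zpowers, orderOf_injective j hj]; exact hcop) ?_
    · intro v hv
      have h1 := Subgroup.mem_centralizer_iff.1 (hle (mem_zpowers (j τ))) (i v) ⟨v, hv, rfl⟩
      rw [hji] at h1
      exact SemidirectProduct.inl_injective (mul_right_cancel h1.symm)
    · rw [Subgroup.zpowers_le]
      refine Cfsg.Agent.Fusion.Saturation.mem_normalizer_of_forall ?_
      rintro _ ⟨v, hv, rfl⟩
      exact ⟨τ v, hchar τ v hv, by rw [hji, mul_inv_cancel_right]⟩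
    · rintro _ ⟨v, hv, rfl⟩ hvp a ha
      have hv' : v ^ p = 1 := SemidirectProduct.inl_injective (φ := MonoidHom.id (MulAut T)) (by
        rw [map_pow, map_one]; exact hvp)
      obtain ⟨k, rfl⟩ := mem_zpowers_iff.1 ha
      rw [← map_zpow, hji, show (τ ^ k) v = v from
        (MulAction.stabilizer (MulAut T) v).zpow_mem (show τ ∈ _ from hτD v ⟨hv, hv'⟩) k]
  -- and so the whole group
  refine MulEquiv.ext fun t => ?_
  set c := t⁻¹ * τ t with hc
  have hcH : c ∈ H := hHC (Subgroup.mem_centralizer_iff.2 fun h hh => by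
    have h1 : t * h * t⁻¹ ∈ H := (inferInstance : H.Normal).conj_mem h hh t
    have h2 := hτH _ h1
    rw [map_mul, map_mul, map_inv, hτH h hh] at h2
    calc h * c = t⁻¹ * (t * h * t⁻¹) * τ t := by rw [hc]; group
      _ = t⁻¹ * (τ t * h * (τ t)⁻¹) * τ t := by rw [h2]
      _ = c * h := by rw [hc]; group)
  have hτt : τ t = t * c := (mul_inv_cancel_left t _).symm
  have hpow : ∀ m : ℕ, (τ ^ m) t = t * c ^ m := by
    intro m
    induction m with
    | zero => simp
    | succ m ih => rw [pow_succ', MulAut.mul_apply, ih, map_mul, map_pow, hτH c hcH, hτt, pow_succ', mul_assoc]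
  have h1 : c ^ orderOf τ = 1 := by
    have h2 := hpow (orderOf τ)
    rw [pow_orderOf_eq_one, MulAut.one_apply, left_eq_mul] at h2
    exact h2
  have h3 : c = 1 := by
    obtain ⟨k, hk⟩ := hT c
    exact orderOf_eq_one_iff.1 (Nat.dvd_one.1 ((hcop.pow_right k).gcd_eq_one ▸
      Nat.dvd_gcd (orderOf_dvd_of_pow_eq_one h1) (orderOf_dvd_of_pow_eq_one hk)))
  rw [hτt, h3, mul_one]
  rfl

end Cfsg.Agent.Fusion.RankThree.Normal
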