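import Cfsg.Agent.Lib.Fusion.RankThree.Normal.Conf
import Cfsg.Agent.Lib.Fusion.RankThree.Normal.Omega1

/-!
The block of `E1` is not invariant in the other essential subgroup.
-/

set_option autoImplicit false
set_option linter.unusedSectionVars false
set_option linter.style.haveILetI false

namespace Cfsg.Agent.Fusion.RankThree.Normal

open Cfsg Cfsg.FusionSystem
open Cfsg.Agent.Fusion Cfsg.Agent.Fusion.Basic Cfsg.Agent.Fusion.Saturation
open Cfsg.Agent.Fusion.RankThree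
open Subgroup (zpowers closure mem_zpowers mem_zpowers_iff normalizer)

variable {X : Type*} [Group X] [Finite X] {p : ℕ} [hp : Fact p.Prime] {F : FusionSystem (⊤ : Subgroup X)}
  {E E1 : Subgroup X}

set_option maxHeartbeats 2000000 in
theorem case_inv (hH : Hyp p F) (hC : Conf p F E1 E) (hinv : AInv F E (omegaZ p E1)) : False := by
  have hE := hC.two.right
  have hE1 := hC.two.left
  haveI hEn := hC.two.rightN
  haveI hE1n := hC.two.leftN
  set U := omegaZ p E1 with hU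
  haveI hUn : U.Normal := hinv.normal
  set Z := omegaX p X with hZ
  set T := E ⊓ E1 with hTdef
  have hTE : T ≤ E := inf_le_left
  have hUT : U ≤ T := hC.block_le hH
  have hUtc : ∀ u ∈ U, ∀ t ∈ T, Commute u t := fun u hu t ht => hu.2.2 t ht.2
  have hTiff : ∀ e ∈ E, (∀ u ∈ U, Commute u e) ↔ e ∈ T := fun e he => hC.comm_iff hH he
  have hTa : AInv F E T := by
    refine ⟨hTE, fun a ha t ht => (hTiff _ (autFun_mem a ht.1)).1 fun u hu => ?_⟩
    have h1 := hinv.2 _ (inv_mem ha) u hu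
    have h2 := congrArg (autFun a) (hUtc _ h1 t ht).eq
    rw [af_mul a (hinv.1 h1) ht.1, af_mul a ht.1 (hinv.1 h1), autFun_apply_inv] at h2
    exact h2
  obtain ⟨x, hxE1, hxE⟩ := hC.two.exists_notMem hH
  obtain ⟨g, hg, hgR⟩ := exists_conj hH hE hxE
  set α := cA E x with hα
  set β := g * α * g⁻¹ with hβ
  have hαA : α ∈ F.autGroup E := cA_mem x
  have hβA : β ∈ F.autGroup E := mul_mem (mul_mem hg hαA) (inv_mem hg)
  obtain ⟨k, hk⟩ := exists_pow_cA hH hE x
  have hk' : β ^ p ^ k = 1 := by rw [hβ, conj_pow, hk, mul_one, mul_inv_cancel]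
  have hαU : ∀ u ∈ U, autFun α u = u := fun u hu => by
    rw [hα, cA_apply x (hinv.1 hu), (hu.2.2 x hxE1).symm.eq, mul_inv_cancel_right]
  have hβU : ∀ u ∈ U, autFun β u = u := fun u hu => by
    rw [hβ, autFun_mul, autFun_mul, hαU _ (hinv.2 _ (inv_mem hg) u hu), autFun_apply_inv]
  have hTidx : T.relIndex E ≤ p := (hC.two.relIndex_inf hH).le
  set L := closure ({α, β} : Set (MulAut E)) with hL
  have hαL : α ∈ L := Subgroup.subset_closure (Or.inl rfl)
  have hβL : β ∈ L := Subgroup.subset_closure (Or.inr rfl)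
  have hLA : L ≤ F.autGroup E := (Subgroup.closure_le _).2 (by rintro _ (rfl | rfl); exacts [hαA, hβA])
  have hLU : ∀ σ ∈ L, ∀ u ∈ U, autFun σ u = u := by
    intro σ hσ
    induction hσ using Subgroup.closure_induction with
    | mem c hc => rcases hc with rfl | rfl; exacts [hαU, hβU]
    | one => intro v _; rw [autFun_one]; rfl
    | mul c d _ _ ihc ihd => intro v hv; rw [autFun_mul, ihd v hv, ihc v hv]
    | inv c _ ihc => intro v hv; conv_lhs => rw [← ihc v hv, autFun_inv_apply]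
  have hstepT : ∀ c ∈ F.autGroup E, c ^ p ^ k = 1 → ∀ v ∈ E, v⁻¹ * autFun c v ∈ T := fun c hc hck =>
    step hTE le_rfl hTidx (fun v hv => hTa.2 c hc v hv) (fun v hv => autFun_mem _ hv) hck
  have hLT : ∀ σ ∈ L, ∀ v ∈ E, v⁻¹ * autFun σ v ∈ T := by
    intro σ hσ
    induction hσ using Subgroup.closure_induction with
    | mem c hc => rcases hc with rfl | rfl; exacts [hstepT _ hαA hk, hstepT _ hβA hk']
    | one => intro v _; rw [autFun_one, id, inv_mul_cancel]; exact one_mem _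
    | mul c d hc' _ ihc ihd =>
      intro v hv
      rw [autFun_mul]
      have h3 := mul_mem (ihd v hv) (ihc _ (autFun_mem d hv))
      rwa [mul_assoc, mul_inv_cancel_left] at h3
    | inv c hc' ihc =>
      intro v hv
      have h3 := inv_mem (ihc _ (autFun_mem c⁻¹ hv))
      rwa [autFun_apply_inv, mul_inv_rev, inv_inv] at h3
  -- the detecting subgroup
  obtain ⟨D0, hD0c, hD0p, hD0cl, hD0det⟩ := exists_detecting (hH.grp.to_subgroup T) hH.odd
  set D := D0.map T.subtype with hD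
  have hDT : D ≤ T := Subgroup.map_subtype_le _
  have hAp : ∀ a ∈ F.autGroup E, a ∈ preserve E T := fun a ha => mem_preserve_of (hTa.2 a ha)
  have hDa : AInv F E D := by
    refine ⟨hDT.trans hTE, fun a ha v hv => ?_⟩
    obtain ⟨w, hw, rfl⟩ := hv
    refine ⟨_, hD0c (restr hTE ⟨a, hAp a ha⟩) w hw, ?_⟩
    show ((restr hTE ⟨a, hAp a ha⟩ w : T) : X) = autFun a w
    rw [← autFun_apply, restr_apply hTE _ w.2]
  haveI : D.Normal := hDa.normal
  have hdet : ∀ σ ∈ L, (∀ v ∈ D, autFun σ v = v) → ∃ j : ℕ, σ ^ p ^ j = 1 := by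
    intro σ hσ hfix
    set σ' : preserve E T := ⟨σ, hAp σ (hLA hσ)⟩
    obtain ⟨j, hj⟩ := hD0det (restr hTE σ') fun w hw => Subtype.ext (by
      rw [← autFun_apply, restr_apply hTE _ w.2]
      exact hfix _ ⟨w, hw, rfl⟩)
    have hfixT : ∀ v ∈ T, autFun (σ ^ p ^ j) v = v := fun v hv => by
      have h1 := restr_apply hTE (σ' ^ p ^ j) hv
      rw [map_pow, hj, autFun_one, SubgroupClass.coe_pow] at h1
      exact h1.symm
    obtain ⟨i, hi⟩ := isPGroup_stab2 (p := p) hH.grp hTE (s := {σ ^ p ^ j})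
      (fun c hc => by rw [Set.mem_singleton_iff.1 hc]; exact hfixT)
      (fun c hc => by rw [Set.mem_singleton_iff.1 hc]; exact hLT _ (pow_mem hσ _))
      ⟨_, Subgroup.subset_closure rfl⟩
    exact ⟨j + i, by rw [pow_add, pow_mul]; exact congrArg Subtype.val hi⟩
  -- the product with the block
  set D1 := U ⊔ D with hD1
  have hD1a : AInv F E D1 := hinv.sup hDa
  haveI : D1.Normal := hD1a.normal
  have hD1T : D1 ≤ T := sup_le hUT hDT
  have hDU : D ≤ D1 := le_sup_right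
  have hUD : U ≤ D1 := le_sup_left
  have hdec : ∀ d ∈ D1, ∃ u ∈ U, ∃ v ∈ D, d = u * v := fun d hd => by
    obtain ⟨u, hu, v, hv, rfl⟩ := Subgroup.mem_sup_of_normal_left.1 hd
    exact ⟨u, hu, v, hv, rfl⟩
  have hUd : ∀ u ∈ U, ∀ d ∈ D1, Commute u d := fun u hu d hd => hUtc u hu d (hD1T hd)
  have hD1p : ∀ d ∈ D1, d ^ p = 1 := by
    intro d hd
    obtain ⟨u, hu, v, hv, rfl⟩ := hdec d hd
    obtain ⟨w, hw, rfl⟩ := hv
    show (u * (w : X)) ^ p = 1
    rw [(hUtc u hu _ w.2).mul_pow, hu.2.1, one_mul]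
    exact congrArg Subtype.val (hD0p w hw)
  have hDcl : ∀ u ∈ D, ∀ v ∈ D, ∀ d ∈ D, Commute (cm u v) d := by
    rintro _ ⟨u, hu, rfl⟩ _ ⟨v, hv, rfl⟩ _ ⟨d, hd, rfl⟩
    rw [← map_cm]
    exact (hD0cl u hu v hv d hd).map _
  have hcmD : ∀ d ∈ D1, ∀ d' ∈ D1, ∀ e ∈ D1, Commute (cm d d') e := by
    intro d hd d' hd' e he
    obtain ⟨u, hu, v, hv, rfl⟩ := hdec d hd
    obtain ⟨u', hu', v', hv', rfl⟩ := hdec d' hd'
    obtain ⟨u'', hu'', v'', hv'', rfl⟩ := hdec e he
    have hT1 : cm v v' ∈ T := mul_mem (mul_mem (mul_mem (inv_mem (hDT hv)) (inv_mem (hDT hv'))) (hDT hv))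
      (hDT hv')
    have h1 : cm (u * v) (u' * v') = cm v v' := by
      rw [cm_mul_left, cm_eq_one_iff.2 (hUd u hu _ hd'), cm_mul_right,
        cm_eq_one_iff.2 (hUd u' hu' _ (hDU hv)).symm]
      group
    rw [h1]
    exact (hUtc u'' hu'' _ hT1).symm.mul_right (hDcl v hv v' hv' v'' hv'')
  have hnp : ¬ ∀ σ ∈ L, ∃ j : ℕ, ∀ v ∈ D1, autFun (σ ^ p ^ j) v = v := by
    intro hall
    refine pair_not_pgroup hH hE hxE hg hgR fun σ => ?_
    obtain ⟨j, hj⟩ := hall σ σ.2
    obtain ⟨i, hi⟩ := hdet _ (pow_mem σ.2 (p ^ j)) fun v hv => hj v (hDU hv)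
    exact ⟨j + i, Subtype.ext (by rw [SubgroupClass.coe_pow, pow_add, pow_mul, hi]; rfl)⟩
  have hseries : ∀ D' : Subgroup X, U ≤ D' → D' ≤ D1 → U.relIndex D' ≤ p → D'.relIndex D1 ≤ p →
      (∀ v ∈ D', autFun α v ∈ D') → (∀ v ∈ D', autFun β v ∈ D') → False := by
    intro D' hU' hD' hi1 hi2 hpa hpb
    refine hnp fun σ hσ => exists_pow_fix hH.grp (hD1T.trans hTE)
      (C := fun i => match i with | 0 => ⊥ | 1 => U | 2 => D' | _ => D1) (n := 3) rfl rfl ?_ ?_ ?_ ?_ σ hσ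
    · intro i hi
      interval_cases i
      exacts [bot_le, hU', hD']
    · intro i hi
      interval_cases i
      exacts [bot_le, hUD, hD', le_rfl]
    · rintro c (rfl | rfl) v hv
      exacts [hD1a.2 _ hαA v hv, hD1a.2 _ hβA v hv]
    · rintro c (rfl | rfl) i hi v hv <;> interval_cases i
      · exact Subgroup.mem_bot.2 (by rw [hαU v hv, inv_mul_cancel])
      · exact step (hinv.1) (hD'.trans (hD1T.trans hTE)) hi1
          (fun v hv => by rw [hαU v hv]; exact hv) hpa hk v hv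
      · exact step (hD'.trans (hD1T.trans hTE)) (hD1T.trans hTE) hi2 hpa (hD1a.2 _ hαA) hk v hv
      · exact Subgroup.mem_bot.2 (by rw [hβU v hv, inv_mul_cancel])
      · exact step (hinv.1) (hD'.trans (hD1T.trans hTE)) hi1
          (fun v hv => by rw [hβU v hv]; exact hv) hpb hk' v hv
      · exact step (hD'.trans (hD1T.trans hTE)) (hD1T.trans hTE) hi2 hpb (hD1a.2 _ hβA) hk' v hv
  have hrelle : ∀ A B : Subgroup X, A ≤ B → Nat.card B ≤ p * Nat.card A → A.relIndex B ≤ p := by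
    intro A B hAB hc
    have h := Subgroup.relIndex_mul_relIndex (⊥ : Subgroup X) A B bot_le hAB
    rw [Subgroup.relIndex_bot_left, Subgroup.relIndex_bot_left] at h
    rw [← h, mul_comm p] at hc
    exact Nat.le_of_mul_le_mul_left hc Nat.card_pos
  -- it is not abelian
  obtain ⟨a, ha, b, hb, hab⟩ : ∃ a ∈ D1, ∃ b ∈ D1, ¬ Commute a b := by
    by_contra hcon
    push Not at hcon
    have h1 := elem_le hH.rank (p := p) (B := D1) ⟨hcon, hD1p⟩
    refine hseries D1 hUD le_rfl (hrelle _ _ hUD (h1.trans ?_))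
      (by rw [Subgroup.relIndex_self]; exact hp.out.one_lt.le) (hD1a.2 _ hαA) (hD1a.2 _ hβA)
    rw [pow_succ' p 2]
    exact Nat.mul_le_mul_left p (card_omega_ge hH hC.moved)
  let Zc : Subgroup X :=
    { carrier := {d | d ∈ D1 ∧ ∀ e ∈ D1, Commute d e}
      one_mem' := ⟨one_mem _, fun e _ => Commute.one_left e⟩
      mul_mem' := by
        rintro u v ⟨hu, hu'⟩ ⟨hv, hv'⟩
        exact ⟨mul_mem hu hv, fun e he => (hu' e he).mul_left (hv' e he)⟩
      inv_mem' := by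
        rintro u ⟨hu, hu'⟩
        exact ⟨inv_mem hu, fun e he => (hu' e he).inv_left⟩ }
  have haZc : a ∉ Zc := fun h => hab (h.2 b hb)
  have hUZc : U ≤ Zc := fun u hu => ⟨hUD hu, hUd u hu⟩
  have hel : Elem p (Zc ⊔ zpowers a) :=
    Elem.sup_zpowers (B := Zc) ⟨fun u hu v hv => hu.2 v hv.1, fun u hu => hD1p u hu.1⟩
      (fun v hv => (hv.2 a ha).symm) (hD1p a ha)
  have hZc2 : Nat.card Zc ≤ p ^ 2 := by
    have h1 := (mul_card_le_sup hH.grp haZc).trans (elem_le hH.rank hel)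
    rw [pow_succ' p 2] at h1
    exact Nat.le_of_mul_le_mul_left h1 hp.out.pos
  have hUc : Nat.card U = p ^ 2 :=
    le_antisymm ((Subgroup.card_le_of_le hUZc).trans hZc2) (card_omega_ge hH hC.moved)
  have hZcU : Zc = U := (Subgroup.eq_of_le_of_card_ge hUZc (hZc2.trans hUc.ge)).symm
  have hZp : Nat.card Z = p := by
    rcases card_omega hH hC.moved with ⟨h, -⟩ | h
    · exact h
    · rw [← hU, hUc] at h
      exact absurd (Nat.pow_right_injective hp.out.two_le h) (by norm_num)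
  have hcmU : ∀ d ∈ D1, ∀ e ∈ D1, cm d e ∈ U := fun d hd e he => hZcU ▸
    (⟨mul_mem (mul_mem (mul_mem (inv_mem hd) (inv_mem he)) hd) he, hcmD d hd e he⟩ : cm d e ∈ Zc)
  have hUb : U ⊔ zpowers a ≤ Subgroup.centralizer {a} := by
    refine sup_le (fun u hu => Subgroup.mem_centralizer_singleton_iff.2 (hUd u hu a ha).eq) ?_
    rw [Subgroup.zpowers_le]
    exact Subgroup.mem_centralizer_singleton_iff.2 rfl
  have haU : a ∉ U := fun h => hab (hUd a h b hb)
  have hbU : b ∉ U ⊔ zpowers a := fun h => hab (Subgroup.mem_centralizer_singleton_iff.1 (hUb h)).symm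
  have hgen : D1 = U ⊔ zpowers a ⊔ zpowers b := by
    refine le_antisymm (fun d hd => ?_) (sup_le (sup_le hUD (Subgroup.zpowers_le.2 ha)) (Subgroup.zpowers_le.2 hb))
    by_contra hd'
    exact no_three hH.grp hH.odd hH.rank elem_omegaZ hUc (hD1p a ha) (hD1p b hb) (hD1p d hd)
      (fun u hu => (hUd u hu a ha).symm) (fun u hu => (hUd u hu b hb).symm) (fun u hu => (hUd u hu d hd).symm)
      (hcmU a ha b hb) (hcmU a ha d hd) (hcmU b hb d hd) haU hbU hd'
  have hD1card : Nat.card D1 ≤ p ^ 4 := by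
    have key : ∀ (B : Subgroup X) [B.Normal] (v : X), v ^ p = 1 →
        Nat.card (B ⊔ zpowers v : Subgroup X) ≤ p * Nat.card B := by
      intro B _ v hv
      have h := Subgroup.relIndex_mul_relIndex (⊥ : Subgroup X) B (B ⊔ zpowers v) bot_le le_sup_left
      rw [Subgroup.relIndex_bot_left, Subgroup.relIndex_bot_left] at h
      rw [← h, mul_comm]
      refine Nat.mul_le_mul_right _ ?_
      rw [sup_comm, Subgroup.relIndex_sup_right]
      calc B.relIndex (zpowers v) ≤ (⊥ : Subgroup X).relIndex (zpowers v) :=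
            Nat.le_of_dvd (by rw [Subgroup.relIndex_bot_left]; exact Nat.card_pos)
              (Subgroup.relIndex_dvd_of_le_left _ bot_le)
        _ ≤ p := by
          rw [Subgroup.relIndex_bot_left, Nat.card_zpowers]
          exact Nat.le_of_dvd hp.out.pos (orderOf_dvd_of_pow_eq_one hv)
    have h1 := key U a (hD1p a ha)
    rw [hUc] at h1
    have h2 : Nat.card D1 ≤ p * Nat.card (U ⊔ zpowers a : Subgroup X) := by
      set B := U ⊔ zpowers a
      have hBD : B ≤ D1 := sup_le hUD (Subgroup.zpowers_le.2 ha)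
      haveI hBn : (B.subgroupOf D1).Normal := by
        refine ⟨fun v hv w => ?_⟩
        rw [Subgroup.mem_subgroupOf] at hv ⊢
        have h3 : cm (v : X) (w : X)⁻¹ ∈ B := Subgroup.mem_sup_left (hcmU _ v.2 _ (inv_mem w.2))
        have h4 := mul_mem hv h3
        rw [cm_def, show (v : X) * ((v : X)⁻¹ * (w : X)⁻¹⁻¹ * v * (w : X)⁻¹) = w * v * (w : X)⁻¹ by group] at h4
        simpa using h4
      have htop : B.subgroupOf D1 ⊔ zpowers (⟨b, hb⟩ : D1) = ⊤ := by
        refine Subgroup.map_injective D1.subtype_injective ?_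
        rw [Subgroup.map_sup, Subgroup.map_subgroupOf_eq_of_le hBD, MonoidHom.map_zpowers,
          ← MonoidHom.range_eq_map, Subgroup.range_subtype]
        exact hgen.symm
      have h3 := (B.subgroupOf D1).card_mul_index
      rw [Nat.card_congr (Subgroup.subgroupOfEquivOfLe hBD).toEquiv] at h3
      rw [← h3, mul_comm]
      refine Nat.mul_le_mul_right _ ?_
      rw [← Subgroup.relIndex_top_right, ← htop, sup_comm, Subgroup.relIndex_sup_right]
      calc (B.subgroupOf D1).relIndex (zpowers (⟨b, hb⟩ : D1))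
            ≤ (⊥ : Subgroup D1).relIndex (zpowers (⟨b, hb⟩ : D1)) :=
            Nat.le_of_dvd (by rw [Subgroup.relIndex_bot_left]; exact Nat.card_pos)
              (Subgroup.relIndex_dvd_of_le_left _ bot_le)
        _ ≤ p := by
          rw [Subgroup.relIndex_bot_left, Nat.card_zpowers]
          exact Nat.le_of_dvd hp.out.pos (orderOf_dvd_of_pow_eq_one (Subtype.ext (by simpa using hD1p b hb)))
    calc Nat.card D1 ≤ p * (p * p ^ 2) := h2.trans (Nat.mul_le_mul_left p h1)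
      _ = p ^ 4 := by ring
  have hirr : ∀ D' : Subgroup X, U < D' → D' ≤ D1 → (∀ v ∈ D', autFun α v ∈ D') →
      (∀ v ∈ D', autFun β v ∈ D') → D' = D1 := by
    intro D' hlt hD' hpa hpb
    by_contra hne
    have h1 := mul_card_le (hH.grp.to_subgroup D') hlt
    have h2 := mul_card_le (hH.grp.to_subgroup D1) (lt_of_le_of_ne hD' hne)
    rw [hUc] at h1
    refine hseries D' hlt.le hD' (hrelle _ _ hlt.le ?_) (hrelle _ _ hD' ?_) hpa hpb
    · rw [hUc]
      refine Nat.le_of_mul_le_mul_left ?_ hp.out.pos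
      exact (h2.trans hD1card).trans (le_of_eq (by ring))
    · exact hD1card.trans (le_trans (le_of_eq (by ring)) (Nat.mul_le_mul_left p h1))
  -- `E` centralises the product modulo the block
  have hUE : ∀ d ∈ D1, ∀ e ∈ E, cm d e ∈ U := by
    let D' : Subgroup X :=
      { carrier := {d | d ∈ D1 ∧ ∀ e ∈ E, cm d e ∈ U}
        one_mem' := ⟨one_mem _, fun e _ => by rw [cm_one_left]; exact one_mem _⟩
        mul_mem' := by
          rintro u v ⟨hu, hu'⟩ ⟨hv, hv'⟩
          refine ⟨mul_mem hu hv, fun e he => ?_⟩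
          rw [cm_mul_left]
          exact mul_mem (by simpa using hUn.conj_mem _ (hu' e he) v⁻¹) (hv' e he)
        inv_mem' := by
          rintro u ⟨hu, hu'⟩
          refine ⟨inv_mem hu, fun e he => ?_⟩
          rw [show cm u⁻¹ e = u * (cm u e)⁻¹ * u⁻¹ by rw [cm_def, cm_def]; group]
          exact hUn.conj_mem _ (inv_mem (hu' e he)) u }
    have hpres : ∀ c ∈ F.autGroup E, ∀ v ∈ D', autFun c v ∈ D' := by
      rintro c hc v ⟨hv, hv'⟩
      refine ⟨hD1a.2 c hc v hv, fun e he => ?_⟩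
      have h1 := hinv.2 c hc _ (hv' _ (autFun_mem c⁻¹ he))
      rwa [af_cm c (hD1a.1 hv) (autFun_mem _ he), autFun_apply_inv] at h1
    have hlt : U < D' := by
      refine lt_of_le_of_ne (fun u hu => ⟨hUD hu, fun e _ => cm_mem hu e⟩) fun heq => ?_
      set π := QuotientGroup.mk' U
      haveI : (D1.map π).Normal := Subgroup.Normal.map inferInstance _ (QuotientGroup.mk'_surjective _)
      have hne : D1.map π ≠ ⊥ := fun h => by
        rw [Subgroup.map_eq_bot_iff, QuotientGroup.ker_mk'] at h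
        exact haU (h ha)
      haveI := (hH.grp.to_quotient U).isNilpotent
      obtain ⟨z, hz, hz1⟩ := (Subgroup.bot_or_exists_ne_one _).resolve_left (Solvable.Basics.inf_center_ne_bot hne)
      obtain ⟨d, hd, rfl⟩ := hz.1
      refine hz1 ((QuotientGroup.eq_one_iff d).2 (heq.ge ?_))
      refine ⟨hd, fun e _ => mk_cm_eq_one_iff.1 ?_⟩
      exact (Subgroup.mem_center_iff.1 hz.2 _).symm
    have := hirr D' hlt (fun d hd => hd.1) (hpres α hαA) (hpres β hβA)
    exact fun d hd => (this.ge hd).2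
  set c0 := cm a b with hc0
  have hc0U : c0 ∈ U := hcmU a ha b hb
  have hc01 : c0 ≠ 1 := fun h => hab (cm_eq_one_iff.1 h)
  obtain ⟨e0, he0E, he0E1⟩ := (hC.two.symm hH).exists_notMem hH
  have hc0Z : c0 ∈ Z := by
    refine hC.mem_omegaX_of_comm hH hc0U he0E he0E1 ?_
    have ea : e0⁻¹ * a * e0 = a * cm a e0 := conj_eq_mul_cm a e0
    have eb : e0⁻¹ * b * e0 = b * cm b e0 := conj_eq_mul_cm b e0
    have h1 : e0⁻¹ * c0 * e0 = cm (e0⁻¹ * a * e0) (e0⁻¹ * b * e0) := by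
      rw [hc0, cm_def, cm_def]; group
    have ha' := hUE a ha e0 he0E
    have hb' := hUE b hb e0 he0E
    rw [ea, eb, cm_mul_left, cm_eq_one_iff.2 (hUd _ ha' _ (mul_mem hb (hUD hb'))), mul_one, cm_mul_right,
      cm_eq_one_iff.2 (hUd _ hb' a ha).symm, one_mul] at h1
    have h2 : ∀ w ∈ U, w⁻¹ * c0 * w = c0 := fun w hw => by
      rw [mul_assoc, (hUd c0 hc0U w (hUD hw)).eq, inv_mul_cancel_left]
    rw [← hc0, h2 _ hb', h2 _ ha', mul_assoc, inv_mul_eq_iff_eq_mul] at h1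
    exact h1
  have hZgen : zpowers c0 = Z := Subgroup.eq_of_le_of_card_ge (Subgroup.zpowers_le.2 hc0Z)
    (by rw [hZp, Nat.card_zpowers, orderOf_eq_prime (hc0U.2.1) hc01])
  have hZc : ∀ z ∈ Z, ∀ v : X, Commute z v := fun z hz v => hz.2.2 v (Subgroup.mem_top v)
  have hZU : Z ≤ U := omegaX_le hH hE1
  haveI hZn : Z.Normal := ⟨fun z hz v => by rw [← (hZc z hz v).eq, mul_inv_cancel_right]; exact hz⟩
  have hcmZ : ∀ d ∈ D1, ∀ e ∈ D1, cm d e ∈ Z := by
    have h0 : D1 = closure ((U : Set X) ∪ {a, b}) := by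
      rw [hgen, Subgroup.closure_union, Subgroup.closure_eq, Set.insert_eq, Subgroup.closure_union,
        ← Subgroup.zpowers_eq_closure, ← Subgroup.zpowers_eq_closure, sup_assoc]
    have hs : ∀ v ∈ (U : Set X) ∪ {a, b}, v ∈ D1 := fun v hv => h0.ge (Subgroup.subset_closure hv)
    rw [h0]
    refine cm_closure_mem (fun n hn v _ => hZc n hn v) ?_
    rintro u (hu | rfl | rfl) v (hv | rfl | rfl)
    all_goals first
      | (rw [cm_eq_one_iff.2 (hUd _ hu _ (hs _ (Or.inl hv)))]; exact one_mem _)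
      | (rw [cm_self]; exact one_mem _)
      | (rw [cm_eq_one_iff.2 (hUd _ hu _ (hs _ (Or.inr (by simp))))]; exact one_mem _)
      | (rw [cm_eq_one_iff.2 (hUd _ hv _ (hs _ (Or.inr (by simp)))).symm]; exact one_mem _)
      | exact hc0Z
      | (rw [cm_swap]; exact inv_mem hc0Z)
  have hUdec : ∀ q ∈ U, q ∉ Z → ∀ w ∈ U, ∃ i : ℤ, w * q ^ i ∈ Z := by
    intro q hq hqZ w hw
    have hsup : Z ⊔ zpowers q = U := Subgroup.eq_of_le_of_card_ge (sup_le hZU (Subgroup.zpowers_le.2 hq))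
      (le_trans (le_of_eq (by rw [hUc, hZp, pow_two])) (mul_card_le_sup hH.grp hqZ))
    obtain ⟨z, hz, y, hy, rfl⟩ := Subgroup.mem_sup_of_normal_left.1 (hsup.ge hw)
    obtain ⟨i, rfl⟩ := mem_zpowers_iff.1 hy
    exact ⟨-i, by rw [zpow_neg, mul_inv_cancel_right]; exact hz⟩
  have hcmr : ∀ d ∈ D1, ∀ t ∈ T, ∀ t' ∈ T, cm d (t * t') = cm d t' * cm d t := fun d hd t ht t' ht' => by
    rw [cm_mul_right, mul_assoc t'⁻¹, (hUtc _ (hUE d hd t ht.1) t' ht').eq, inv_mul_cancel_left]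
  have hcml : ∀ d ∈ D1, ∀ d' ∈ D1, ∀ e ∈ E, cm (d * d') e = cm d e * cm d' e := fun d hd d' hd' e he => by
    rw [cm_mul_left, mul_assoc d'⁻¹, (hUd _ (hUE d hd e he) d' hd').eq, inv_mul_cancel_left]
  have hcmlz : ∀ d ∈ D1, ∀ e ∈ E, ∀ i : ℤ, cm (d ^ i) e = cm d e ^ i := fun d hd e he i =>
    cm_pow_left (hUd _ (hUE d hd e he) d hd) i
  -- combination killed modulo the centre
  have hcomb : ∀ e ∈ E, ∃ d ∈ D1, d ∉ U ∧ cm d e ∈ Z := by
    intro e he
    by_cases h1 : cm a e ∈ Z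
    · exact ⟨a, ha, haU, h1⟩
    obtain ⟨i, hi⟩ := hUdec _ (hUE a ha e he) h1 _ (hUE b hb e he)
    refine ⟨b * a ^ i, mul_mem hb (zpow_mem ha i), fun h => hbU ?_, ?_⟩
    · have h' := mul_mem (Subgroup.mem_sup_left h : b * a ^ i ∈ U ⊔ zpowers a)
        (inv_mem (Subgroup.mem_sup_right (zpow_mem (mem_zpowers a) i) : a ^ i ∈ U ⊔ zpowers a))
      rwa [mul_inv_cancel_right] at h'
    · rw [hcml b hb _ (zpow_mem ha i) e he, hcmlz a ha e he]
      exact hi
  have hsubZ : ∀ e : X, e ∈ E → ∀ d, d ∈ D1 → cm d e ∈ Z → cm d⁻¹ e ∈ Z := fun e he d hd h => by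
    rw [← zpow_neg_one, hcmlz d hd e he]
    exact zpow_mem h _
  -- `T` centralises modulo the centre
  have hTZ : ∀ d ∈ D1, ∀ t ∈ T, cm d t ∈ Z := by
    let D'' : Subgroup X :=
      { carrier := {d | d ∈ D1 ∧ ∀ t ∈ T, cm d t ∈ Z}
        one_mem' := ⟨one_mem _, fun t _ => by rw [cm_one_left]; exact one_mem _⟩
        mul_mem' := by
          rintro u v ⟨hu, hu'⟩ ⟨hv, hv'⟩
          exact ⟨mul_mem hu hv, fun t ht => by rw [hcml u hu v hv t ht.1]; exact mul_mem (hu' t ht) (hv' t ht)⟩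
        inv_mem' := by
          rintro u ⟨hu, hu'⟩
          exact ⟨inv_mem hu, fun t ht => hsubZ t ht.1 u hu (hu' t ht)⟩ }
    have hpres : ∀ c ∈ L, ∀ v ∈ D'', autFun c v ∈ D'' := by
      rintro c hc v ⟨hv, hv'⟩
      refine ⟨hD1a.2 c (hLA hc) v hv, fun t ht => ?_⟩
      have ht' := hTa.2 c⁻¹ (inv_mem (hLA hc)) t ht
      have h1 := hLU c hc _ (hZU (hv' _ ht'))
      rw [af_cm c (hD1a.1 hv) ht'.1, autFun_apply_inv] at h1
      rw [h1]
      exact hv' _ ht'
    by_cases hlt : U < D''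
    · exact fun d hd => ((hirr D'' hlt (fun d hd => hd.1) (hpres α hαL) (hpres β hβL)).ge hd).2
    exfalso
    have hUD'' : U ≤ D'' := fun u hu => ⟨hUD hu, fun t ht => by
      rw [cm_eq_one_iff.2 (hUtc u hu t ht)]; exact one_mem _⟩
    have heq : D'' = U := by
      by_contra h
      exact hlt (lt_of_le_of_ne hUD'' (Ne.symm h))
    have hnot : ∀ d ∈ D1, d ∉ U → ∃ t ∈ T, cm d t ∉ Z := fun d hd hdU => by
      by_contra h
      push Not at h
      exact hdU (heq.le ⟨hd, h⟩)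
    obtain ⟨t1, ht1, h1⟩ := hnot a ha haU
    obtain ⟨d', hd', hd'U, hd'Z⟩ := hcomb t1 ht1.1
    obtain ⟨t2, ht2, h2⟩ := hnot d' hd' hd'U
    let N0 : Subgroup X :=
      { carrier := {t | t ∈ T ∧ ∀ d ∈ D1, cm d t ∈ Z}
        one_mem' := ⟨one_mem _, fun d _ => by rw [cm_one_right]; exact one_mem _⟩
        mul_mem' := by
          rintro u v ⟨hu, hu'⟩ ⟨hv, hv'⟩
          exact ⟨mul_mem hu hv, fun d hd => by rw [hcmr d hd u hu v hv]; exact mul_mem (hv' d hd) (hu' d hd)⟩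
        inv_mem' := by
          rintro u ⟨hu, hu'⟩
          refine ⟨inv_mem hu, fun d hd => ?_⟩
          have h3 := hcmr d hd u hu u⁻¹ (inv_mem hu)
          rw [mul_inv_cancel, cm_one_right] at h3
          rw [eq_inv_of_mul_eq_one_left h3.symm]
          exact inv_mem (hu' d hd) }
    set N := phi p T with hN
    have hNc : ∀ d ∈ D1, ∀ v ∈ N, cm d v = 1 := by
      intro d hd
      let K : Subgroup X :=
        { carrier := {t | t ∈ T ∧ cm d t = 1}
          one_mem' := ⟨one_mem _, cm_one_right d⟩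
          mul_mem' := by
            rintro u v ⟨hu, hu'⟩ ⟨hv, hv'⟩
            exact ⟨mul_mem hu hv, by rw [hcmr d hd u hu v hv, hu', hv', one_mul]⟩
          inv_mem' := by
            rintro u ⟨hu, hu'⟩
            exact ⟨inv_mem hu, cm_eq_one_iff.2 (cm_eq_one_iff.1 hu').inv_right⟩ }
      have hle : N ≤ K := by
        refine phi_le_iff.2 ⟨fun v hv => ⟨pow_mem hv p, ?_⟩, fun u hu v hv => ?_⟩
        · have h3 := cm_pow_right (hUtc _ (hUE d hd v hv.1) v hv) (p : ℤ)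
          rwa [zpow_natCast, zpow_natCast, (hUE d hd v hv.1).2.1] at h3
        · refine ⟨mul_mem (mul_mem (mul_mem (inv_mem hu) (inv_mem hv)) hu) hv, ?_⟩
          let f : T →* X := MonoidHom.mk' (fun t => cm d t) fun s t => by
            rw [Subgroup.coe_mul, hcmr d hd _ s.2 _ t.2]
            exact (hUtc _ (hUE d hd _ t.2.1) _ (hUT (hUE d hd _ s.2.1))).eq
          have h3 : f (cm ⟨u, hu⟩ ⟨v, hv⟩) = 1 := by
            rw [map_cm, cm_eq_one_iff]
            exact hUtc _ (hUE d hd u hu.1) _ (hUT (hUE d hd v hv.1))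
          change cm d ((cm ⟨u, hu⟩ ⟨v, hv⟩ : T) : X) = 1 at h3
          rwa [show ((cm ⟨u, hu⟩ ⟨v, hv⟩ : T) : X) = cm u v from map_cm T.subtype _ _] at h3
      exact fun v hv => (hle hv).2
    have hM : N ⊔ zpowers a ⊔ zpowers b ≤ N0 := by
      refine sup_le (sup_le (fun v hv => ⟨phi_le hv, fun d hd => by rw [hNc d hd v hv]; exact one_mem _⟩) ?_) ?_
      · exact Subgroup.zpowers_le.2 ⟨hD1T ha, fun d hd => hcmZ d hd a ha⟩
      · exact Subgroup.zpowers_le.2 ⟨hD1T hb, fun d hd => hcmZ d hd b hb⟩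
    refine sect_four hH.grp hH.rank (phi_le : N ≤ T) (fun u hu v hv => cm_mem_phi hu hv)
      (fun u hu => pow_mem_phi hu) (hD1T ha) (hD1T hb) ht2 ht1
      (fun h => hab (cm_eq_one_iff.1 (hNc b hb a h)).symm) ?_ (fun h => h2 ((hM h).2 d' hd')) ?_
    · intro h
      have hle : N ⊔ zpowers a ≤ Subgroup.centralizer {a} := by
        refine sup_le (fun v hv => Subgroup.mem_centralizer_singleton_iff.2 (cm_eq_one_iff.1 (hNc a ha v hv)).symm.eq) ?_
        rw [Subgroup.zpowers_le]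
        exact Subgroup.mem_centralizer_singleton_iff.2 rfl
      exact hab (Subgroup.mem_centralizer_singleton_iff.1 (hle h)).symm
    · intro h
      set M := N ⊔ zpowers a ⊔ zpowers b with hMdef
      have hMT : M ≤ T := hM.trans fun v hv => hv.1
      have hNM : N ≤ M := le_sup_left.trans le_sup_left
      haveI hMn : (M.subgroupOf T).Normal := by
        refine ⟨fun v hv w => ?_⟩
        rw [Subgroup.mem_subgroupOf] at hv ⊢
        have h4 := mul_mem hv (hNM (cm_mem_phi (p := p) v.2 (inv_mem w.2)))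
        rw [cm_def, show (v : X) * ((v : X)⁻¹ * (w : X)⁻¹⁻¹ * v * (w : X)⁻¹) = w * v * (w : X)⁻¹ by group] at h4
        simpa using h4
      have hmem : (⟨t1, ht1⟩ : T) ∈ M.subgroupOf T ⊔ zpowers ⟨t2, ht2⟩ := by
        rw [← Subgroup.mem_map_iff_mem T.subtype_injective, Subgroup.map_sup,
          Subgroup.map_subgroupOf_eq_of_le hMT, MonoidHom.map_zpowers]
        exact h
      obtain ⟨m, hm, y, hy, hmy⟩ := Subgroup.mem_sup_of_normal_left.1 hmem
      obtain ⟨i, rfl⟩ := mem_zpowers_iff.1 hy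
      have hm' : (m : X) ∈ M := Subgroup.mem_subgroupOf.1 hm
      have ht : t1 = (m : X) * t2 ^ i := by
        have := congrArg Subtype.val hmy
        rw [Subgroup.coe_mul, Subgroup.coe_zpow] at this
        exact this.symm
      have hq : cm d' t2 ^ i ∈ Z := by
        rw [ht, hcmr d' hd' _ m.2 _ (zpow_mem ht2 i), cm_pow_right (hUtc _ (hUE d' hd' t2 ht2.1) t2 ht2)] at hd'Z
        have := mul_mem hd'Z (inv_mem ((hM hm').2 d' hd'))
        rwa [mul_inv_cancel_right] at this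
      have hpi : (p : ℤ) ∣ i := by
        by_contra hni
        obtain ⟨i', hi'⟩ := RankTwoResistant.exists_inverse hni
        refine h2 ?_
        have := zpow_mem hq i'
        rwa [← zpow_mul, RankTwoResistant.zpow_eq_of_dvd ((hUE d' hd' t2 ht2.1).2.1) (j := 1) hi',
          zpow_one] at this
      obtain ⟨l, rfl⟩ := hpi
      refine h1 ?_
      rw [ht, hcmr a ha _ m.2 _ (zpow_mem ht2 _), zpow_mul, zpow_natCast]
      refine mul_mem ?_ ((hM hm').2 a ha)
      rw [hNc a ha _ (zpow_mem (pow_mem_phi ht2) l)]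
      exact one_mem _
  -- `E` centralises modulo the centre
  have hEZ : ∀ d ∈ D1, ∀ e ∈ E, cm d e ∈ Z := by
    let D3 : Subgroup X :=
      { carrier := {d | d ∈ D1 ∧ cm d e0 ∈ Z}
        one_mem' := ⟨one_mem _, by rw [cm_one_left]; exact one_mem _⟩
        mul_mem' := by
          rintro u v ⟨hu, hu'⟩ ⟨hv, hv'⟩
          exact ⟨mul_mem hu hv, by rw [hcml u hu v hv e0 he0E]; exact mul_mem hu' hv'⟩
        inv_mem' := by
          rintro u ⟨hu, hu'⟩
          exact ⟨inv_mem hu, hsubZ e0 he0E u hu hu'⟩ }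
    have hpres : ∀ c ∈ L, ∀ v ∈ D3, autFun c v ∈ D3 := by
      rintro c hc v ⟨hv, hv'⟩
      refine ⟨hD1a.2 c (hLA hc) v hv, ?_⟩
      obtain ⟨t, ht, hte⟩ := af_eq_of_step c⁻¹ (hLT _ (inv_mem hc) e0 he0E)
      have h1 : cm v (autFun c⁻¹ e0) ∈ Z := by
        rw [hte, cm_mul_right]
        refine mul_mem (hTZ v hv t ht) ?_
        rw [mul_assoc, (hZc _ hv' t).eq, inv_mul_cancel_left]
        exact hv'
      have h2 := hLU c hc _ (hZU h1)
      rw [af_cm c (hD1a.1 hv) (autFun_mem _ he0E), autFun_apply_inv] at h2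
      rw [h2]
      exact h1
    have hUle : U ≤ D3 := fun u hu => by
      refine ⟨hUD hu, ?_⟩
      have hstep := cm_mem_of_index hH.grp hZU (hrelle _ _ hZU (by rw [hUc, hZp, pow_two])) e0 hu
      exact hstep
    obtain ⟨d, hd, hdU, hdZ⟩ := hcomb e0 he0E
    have h3 := hirr D3 (lt_of_le_of_ne hUle fun h => hdU (h.ge ⟨hd, hdZ⟩)) (fun d hd => hd.1)
      (hpres α hαL) (hpres β hβL)
    intro d hd e he
    obtain ⟨t, ht, n, rfl⟩ := hC.two.decomp_inf hH he0E he0E1 he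
    have hd0 : cm d e0 ∈ Z := (h3.ge hd).2
    rw [cm_mul_right, cm_pow_right (hZc _ hd0 e0)]
    refine mul_mem (zpow_mem hd0 n) ?_
    rw [mul_assoc, (hZc _ (hTZ d hd t ht) _).eq, inv_mul_cancel_left]
    exact hTZ d hd t ht
  -- the complement
  set J := E ⊓ Subgroup.centralizer {a, b} with hJ
  have hJmem : ∀ j, j ∈ J ↔ j ∈ E ∧ cm a j = 1 ∧ cm b j = 1 := fun j => by
    rw [hJ, Subgroup.mem_inf, Subgroup.mem_centralizer_iff]
    refine and_congr_right fun _ => ⟨fun h => ⟨cm_eq_one_iff.2 (h a (by simp)), cm_eq_one_iff.2 (h b (by simp))⟩,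
      ?_⟩
    rintro ⟨h1, h2⟩ v (rfl | rfl)
    exacts [(cm_eq_one_iff.1 h1).eq, (cm_eq_one_iff.1 h2).eq]
  have hdecE : ∀ e ∈ E, ∃ j ∈ J, ∃ d ∈ D1, e = d * j := by
    intro e he
    obtain ⟨k1, hk1⟩ := mem_zpowers_iff.1 (hZgen.ge (hEZ a ha e he))
    obtain ⟨l1, hl1⟩ := mem_zpowers_iff.1 (hZgen.ge (hEZ b hb e he))
    set f := a ^ l1 * b ^ (-k1) with hf
    have hfD : f ∈ D1 := mul_mem (zpow_mem ha _) (zpow_mem hb _)
    refine ⟨f * e, (hJmem _).2 ⟨mul_mem (hD1a.1 hfD) he, ?_, ?_⟩, f⁻¹, inv_mem hfD,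
      (inv_mul_cancel_left f e).symm⟩
    · rw [cm_mul_right, ← hk1, hf, cm_mul_right, cm_eq_one_iff.2 ((Commute.refl a).zpow_right l1),
        mul_one, inv_mul_cancel, mul_one, cm_pow_right (hZc c0 hc0Z b), ← hc0, mul_assoc,
        (hZc _ (zpow_mem hc0Z _) e).eq, inv_mul_cancel_left, ← zpow_add, add_neg_cancel, zpow_zero]
    · have e1 : cm b a = c0⁻¹ := by rw [hc0, cm_swap a b]
      rw [cm_mul_right, ← hl1, hf, cm_mul_right, cm_eq_one_iff.2 ((Commute.refl b).zpow_right (-k1)),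
        one_mul, cm_pow_right (by rw [e1]; exact hZc _ (inv_mem hc0Z) a), e1, inv_zpow]
      have h1 : ∀ w : X, w⁻¹ * (c0 ^ l1)⁻¹ * w = (c0 ^ l1)⁻¹ := fun w => by
        rw [mul_assoc, (hZc _ (inv_mem (zpow_mem hc0Z _)) w).eq, inv_mul_cancel_left]
      rw [h1, h1, mul_inv_cancel]
  obtain ⟨u', hu', -, hne'⟩ := hC.exists_moving hH he0E he0E1
  have hu'J : u' ∈ J := (hJmem _).2 ⟨hinv.1 hu', cm_eq_one_iff.2 (hUd u' hu' a ha).symm,
    cm_eq_one_iff.2 (hUd u' hu' b hb).symm⟩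
  obtain ⟨j0, hj0, hne''⟩ : ∃ j ∈ J, ¬ Commute u' j := by
    obtain ⟨j, hj, d, hd, rfl⟩ := hdecE e0 he0E
    exact ⟨j, hj, fun h => hne' ((hUd u' hu' d hd).mul_right h)⟩
  set N := phi p J with hN
  have hZN : Z ≤ N := by
    rw [← hZgen, Subgroup.zpowers_le]
    have h1 : cm u' j0 ∈ Z := cm_mem_of_index hH.grp hZU (hrelle _ _ hZU (by rw [hUc, hZp, pow_two])) j0 hu'
    have h2 : zpowers (cm u' j0) = Z := Subgroup.eq_of_le_of_card_ge (Subgroup.zpowers_le.2 h1)
      (by rw [hZp, Nat.card_zpowers, orderOf_eq_prime h1.2.1 (fun h => hne'' (cm_eq_one_iff.1 h))])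
    exact Subgroup.zpowers_le.2 (cm_mem_phi hu'J hj0) (h2.ge hc0Z)
  have hJE : J ≤ E := inf_le_left
  have hNJ : N ≤ J := phi_le
  have hconjZ : ∀ z ∈ Z, ∀ v : X, v⁻¹ * z * v = z := fun z hz v => by
    rw [mul_assoc, (hZc z hz v).eq, inv_mul_cancel_left]
  have hcN : ∀ u ∈ E, ∀ v ∈ E, cm u v ∈ N := by
    intro u hu v hv
    obtain ⟨j, hj, d, hd, rfl⟩ := hdecE u hu
    obtain ⟨j', hj', d', hd', rfl⟩ := hdecE v hv
    rw [cm_mul_left, hconjZ _ (hEZ d hd _ hv), cm_mul_right j d' j',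
      hconjZ (cm j d') (by rw [cm_swap]; exact inv_mem (hEZ d' hd' j (hJE hj)))]
    exact mul_mem (hZN (hEZ d hd _ hv)) (mul_mem (cm_mem_phi hj hj')
      (hZN (by rw [cm_swap]; exact inv_mem (hEZ d' hd' j (hJE hj)))))
  have hpN : ∀ u ∈ E, u ^ p ∈ N := by
    intro u hu
    obtain ⟨j, hj, d, hd, rfl⟩ := hdecE u hu
    have h1 : cm j d ∈ Z := by rw [cm_swap]; exact inv_mem (hEZ d hd j (hJE hj))
    rw [mul_pow_class_two_eq hp.out hH.odd (hZc _ h1 d) (hZc _ h1 j) h1.2.1, hD1p d hd, one_mul]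
    exact pow_mem_phi hj
  obtain ⟨j1, hj1, hj1N⟩ : ∃ j ∈ J, j ∉ N := SetLike.not_le_iff_exists.1 fun hle => by
    have h1 := eq_of_le_sup_phi hH.grp (bot_le : ⊥ ≤ J) (hle.trans le_sup_right)
    rw [← h1, Subgroup.mem_bot] at hu'J
    exact hne'' (hu'J ▸ Commute.one_left j0)
  obtain ⟨j2, hj2, hj2N⟩ : ∃ j ∈ J, j ∉ N ⊔ zpowers j1 := SetLike.not_le_iff_exists.1 fun hle => by
    have h1 := eq_of_le_sup_phi hH.grp (Subgroup.zpowers_le.2 hj1) (hle.trans (sup_comm _ _).le)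
    rw [← h1] at hu'J hj0
    obtain ⟨i, rfl⟩ := mem_zpowers_iff.1 hu'J
    obtain ⟨j, rfl⟩ := mem_zpowers_iff.1 hj0
    exact hne'' ((Commute.refl j1).zpow_zpow i j)
  have hMJ : N ⊔ zpowers j1 ⊔ zpowers j2 ≤ J :=
    sup_le (sup_le hNJ (Subgroup.zpowers_le.2 hj1)) (Subgroup.zpowers_le.2 hj2)
  refine sect_four hH.grp hH.rank (hNJ.trans hJE) hcN hpN (hJE hj1) (hJE hj2) (hD1a.1 ha) (hD1a.1 hb)
    hj1N hj2N (fun h => hab (cm_eq_one_iff.1 ((hJmem a).1 (hMJ h)).2.2).symm) fun h => ?_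
  have hle : J ⊔ zpowers a ≤ Subgroup.centralizer {a} := by
    refine sup_le (fun v hv => Subgroup.mem_centralizer_singleton_iff.2 (cm_eq_one_iff.1 ((hJmem v).1 hv).2.1).symm.eq) ?_
    rw [Subgroup.zpowers_le]
    exact Subgroup.mem_centralizer_singleton_iff.2 rfl
  exact hab (Subgroup.mem_centralizer_singleton_iff.1 (hle (sup_le_sup_right hMJ _ h))).symm

end Cfsg.Agent.Fusion.RankThree.Normal
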