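import Cfsg.Agent.Lib.Fusion.RankThree.Normal.CaseTower

/-!
All images of the block of `E1` in the other essential subgroup lie in the intersection.
-/

set_option autoImplicit false
set_option linter.unusedSectionVars false
set_option linter.style.haveILetI false

namespace Cfsg.Agent.Fusion.RankThree.Normal

open Cfsg Cfsg.FusionSystem
open Cfsg.Agent.Fusion Cfsg.Agent.Fusion.Basic Cfsg.Agent.Fusion.Saturation
open Cfsg.Agent.Fusion.RankThree
open Subgroup (zpowers closure mem_zpowers mem_zpowers_iff normalizer)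

variable {X : Type*} [Group X] [Finite X] {p : ℕ} [hp : Fact p.Prime] {F : FusionSystem (⊤ : Subgroup X)}
  {E E1 : Subgroup X}

theorem relIndex_sup_zpowers_le {B : Subgroup X} [B.Normal] {v : X} (hv : v ^ p ∈ B) :
    B.relIndex (B ⊔ zpowers v) ≤ p := by
  rw [relIndex_eq_card_map, Subgroup.map_sup, QuotientGroup.map_mk'_self, bot_sup_eq, MonoidHom.map_zpowers,
    Nat.card_zpowers]
  refine Nat.le_of_dvd hp.out.pos (orderOf_dvd_of_pow_eq_one ?_)
  rw [← map_pow]
  exact (QuotientGroup.eq_one_iff _).2 hv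

set_option maxHeartbeats 2000000 in
theorem case_out (hH : Hyp p F) (hC : Conf p F E1 E) {g : MulAut E} (hg : g ∈ F.autGroup E) {u0 : X}
    (hu0 : u0 ∈ omegaZ p E1) (hout : autFun g u0 ∉ E ⊓ E1) : False := by
  have hE := hC.two.right
  have hE1 := hC.two.left
  haveI hEn := hC.two.rightN
  haveI hE1n := hC.two.leftN
  set U := omegaZ p E1 with hU
  set Z := omegaX p X with hZ
  set T := E ⊓ E1 with hTdef
  have hUT : U ≤ T := hC.block_le hH
  have hUE : U ≤ E := hUT.trans inf_le_left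
  have hUtc : ∀ u ∈ U, ∀ t ∈ T, Commute u t := fun u hu t ht => hu.2.2 t ht.2
  have hZU : Z ≤ U := omegaX_le hH hE1
  have hZc : ∀ z ∈ Z, ∀ v : X, Commute z v := fun z hz v => hz.2.2 v (Subgroup.mem_top v)
  haveI hUn : U.Normal := ainv_omegaZ.normal (F := F)
  haveI hZn : Z.Normal := ⟨fun z hz v => by rw [← (hZc z hz v).eq, mul_inv_cancel_right]; exact hz⟩
  have hmemZ : ∀ v ∈ U, ∀ y ∈ E, y ∉ T → Commute v y → v ∈ Z := fun v hv y hy hyT h =>
    hC.mem_omegaX_of_comm hH hv hy (fun h1 => hyT ⟨hy, h1⟩) h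
  -- the image
  set a := autFun g u0 with hadef
  have haE : a ∈ E := autFun_mem g (hUE hu0)
  have haE1 : a ∉ E1 := fun h => hout ⟨haE, h⟩
  have haT : a ∉ T := hout
  have hap : a ^ p = 1 := by rw [hadef, ← af_pow g (hUE hu0), hu0.2.1, af_one']
  have hm : IsMap F U (autFun g) := (isMap_of_mem_autGroup le_top hg).restrict hUE
  set A := img (autFun g) U with hA
  have haA : a ∈ A := mem_img_self _ hu0
  have hAE : A ≤ E := img_le fun v hv => autFun_mem g (hUE hv)
  have hAmem : ∀ v ∈ E, (v ∈ A ↔ autFun g⁻¹ v ∈ U) := by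
    intro v _
    rw [hA, hm.mem_img]
    constructor
    · rintro ⟨u, hu, rfl⟩; rwa [autFun_inv_apply]
    · exact fun h => ⟨_, h, autFun_apply_inv g v⟩
  have hAnorm : ∀ e ∈ E, ∀ v ∈ A, e * v * e⁻¹ ∈ A := by
    intro e he v hv
    have hv' := (hAmem v (hAE hv)).1 hv
    refine (hAmem _ (mul_mem (mul_mem he (hAE hv)) (inv_mem he))).2 ?_
    rw [af_mul _ (mul_mem he (hAE hv)) (inv_mem he), af_mul _ he (hAE hv), af_inv _ he]
    exact hUn.conj_mem _ hv' _
  have hAel : Elem p A := by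
    refine ⟨fun v hv w hw => ?_, fun v hv => ?_⟩ <;> rw [hA, hm.mem_img] at hv
    · rw [hA, hm.mem_img] at hw
      obtain ⟨u, hu, rfl⟩ := hv
      obtain ⟨u', hu', rfl⟩ := hw
      show autFun g u * autFun g u' = autFun g u' * autFun g u
      rw [← af_mul g (hUE hu) (hUE hu'), ← af_mul g (hUE hu') (hUE hu), (hu.2.2 u' hu'.1).eq]
    · obtain ⟨u, hu, rfl⟩ := hv
      rw [← af_pow g (hUE hu), hu.2.1, af_one']
  have hAcard : Nat.card A = Nat.card U := hm.card_img
  obtain ⟨u, hu, huZ, hua⟩ := hC.exists_moving hH haE haE1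
  set z0 := cm u a with hz0
  have hUA : ∀ v ∈ U, v ∈ A → v ∈ Z := fun v hv hvA => hmemZ v hv a haE haT (hAel.1 v hvA a haA)
  have hz0U : z0 ∈ U := cm_mem hu a
  have hz0A : z0 ∈ A := by
    rw [hz0, cm_def, show u⁻¹ * a⁻¹ * u * a = (u⁻¹ * a⁻¹ * u⁻¹⁻¹) * a by group]
    exact mul_mem (hAnorm u⁻¹ (inv_mem (hUE hu)) _ (inv_mem haA)) haA
  have hz0Z : z0 ∈ Z := hUA z0 hz0U hz0A
  have hz01 : z0 ≠ 1 := fun h => hua (cm_eq_one_iff.1 h)
  have hz0p : z0 ^ p = 1 := hz0U.2.1
  have hZAT : Z = A ⊓ T ∧ Nat.card U = p * Nat.card Z := by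
    have hlt : A ⊓ T < A := lt_of_le_of_ne inf_le_left fun h => haT (h.ge haA).2
    have h1 := mul_card_le (hH.grp.to_subgroup A) hlt
    have hidx : (A ⊓ T).relIndex A ≤ p := by
      rw [inf_comm, Subgroup.inf_relIndex_right]
      exact (Subgroup.relIndex_le_of_le_right hAE Subgroup.index_ne_zero_of_finite).trans
        (hC.two.relIndex_inf hH).le
    have h2 : Nat.card A ≤ p * Nat.card (A ⊓ T : Subgroup X) := by
      have h := Subgroup.relIndex_mul_relIndex (⊥ : Subgroup X) (A ⊓ T) A bot_le inf_le_left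
      rw [Subgroup.relIndex_bot_left, Subgroup.relIndex_bot_left] at h
      rw [← h, mul_comm]
      exact Nat.mul_le_mul_right _ hidx
    have h3 : Nat.card A = p * Nat.card (A ⊓ T : Subgroup X) := le_antisymm h2 h1
    rw [hAcard] at h3
    suffices h : Z = A ⊓ T by exact ⟨h, by rw [h]; exact h3⟩
    rcases card_omega hH hC.moved with ⟨hz, hu2⟩ | hu3
    · rw [← hU] at hu2
      rw [hu2, pow_two] at h3
      have hc := (Nat.eq_of_mul_eq_mul_left hp.out.pos h3).symm
      have e1 : zpowers z0 = A ⊓ T := Subgroup.eq_of_le_of_card_ge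
        (Subgroup.zpowers_le.2 ⟨hz0A, hUT hz0U⟩)
        (by rw [hc, Nat.card_zpowers, orderOf_eq_prime hz0p hz01])
      rw [← e1]
      exact (Subgroup.eq_of_le_of_card_ge (Subgroup.zpowers_le.2 hz0Z)
        (by rw [hz, Nat.card_zpowers, orderOf_eq_prime hz0p hz01])).symm
    · rw [← hU] at hu3
      have hle : A ⊓ T ≤ U := fun v hv => by
        by_contra hvU
        have hel : Elem p (U ⊔ zpowers v) :=
          elem_omegaZ.sup_zpowers (fun w hw => (hUtc w hw v hv.2).symm) (hAel.2 v hv.1)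
        have h4 := (mul_card_le_sup hH.grp hvU).trans (elem_le hH.rank hel)
        rw [hu3] at h4
        exact absurd h4 (not_le.2 (lt_mul_left (pow_pos hp.out.pos 3) hp.out.one_lt))
      refine (Subgroup.eq_of_le_of_card_ge (fun v hv => hUA v (hle hv) hv.1) ?_).symm
      have h4 := mul_card_le (hH.grp.to_subgroup U) (omegaX_lt hH hC.moved)

      rw [h3] at h4
      exact Nat.le_of_mul_le_mul_left h4 hp.out.pos
  obtain ⟨hZA, hUc⟩ := hZAT
  have hUgen : Z ⊔ zpowers u = U := Subgroup.eq_of_le_of_card_ge (sup_le hZU (Subgroup.zpowers_le.2 hu))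
    (hUc ▸ mul_card_le_sup hH.grp huZ)
  have hUdec : ∀ v ∈ U, ∃ z ∈ Z, ∃ i : ℤ, v = z * u ^ i := by
    intro v hv
    obtain ⟨z, hz, y, hy, rfl⟩ := Subgroup.mem_sup_of_normal_left.1 (hUgen.ge hv)
    obtain ⟨i, rfl⟩ := mem_zpowers_iff.1 hy
    exact ⟨z, hz, i, rfl⟩
  have hAgen : Z ⊔ zpowers a = A := Subgroup.eq_of_le_of_card_ge
    (sup_le (hZA.le.trans inf_le_left) (Subgroup.zpowers_le.2 haA))
    (by rw [hAcard, hUc]; exact mul_card_le_sup hH.grp (fun h => haT (hUT (hZU h))))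
  have hcmu : ∀ n : ℤ, cm u (a ^ n) = z0 ^ n := fun n => cm_pow_right (hZc z0 hz0Z a) n
  have hUz : ∀ v ∈ U, ∀ e ∈ E, cm v e ∈ zpowers z0 := by
    intro v hv e he
    obtain ⟨z, hz, i, rfl⟩ := hUdec v hv
    obtain ⟨t, ht, n, rfl⟩ := hC.two.decomp_inf hH haE haE1 he
    have e1 : cm u (t * a ^ n) = z0 ^ n := by
      rw [cm_mul_right, cm_eq_one_iff.2 (hUtc u hu t ht), hcmu]; group
    rw [cm_mul_left, cm_eq_one_iff.2 (hZc z hz (t * a ^ n)), mul_one, inv_mul_cancel, one_mul,
      cm_pow_left (by rw [e1]; exact hZc _ (zpow_mem hz0Z n) u), e1]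
    exact zpow_mem (zpow_mem (mem_zpowers z0) n) i
  have himz : ∀ h ∈ F.autGroup E, ∀ v ∈ U, ∀ e ∈ E, cm (autFun h v) e ∈ zpowers (autFun h z0) := by
    intro h _ v hv e he
    obtain ⟨i, hi⟩ := mem_zpowers_iff.1 (hUz v hv _ (autFun_mem h⁻¹ he))
    refine mem_zpowers_iff.2 ⟨i, ?_⟩
    rw [← af_zpow h (hUE hz0U), hi, af_cm h (hUE hv) (autFun_mem _ he), autFun_apply_inv]
  -- the line is invariant
  have hz0a : AInv F E (zpowers z0) := by
    refine ⟨Subgroup.zpowers_le.2 (hUE hz0U), fun h hh v hv => ?_⟩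
    obtain ⟨n, rfl⟩ := mem_zpowers_iff.1 hv
    rw [af_zpow h (hUE hz0U)]
    refine zpow_mem ?_ n
    have hh0 : autFun h z0 ^ p = 1 := by rw [← af_pow h (hUE hz0U), hz0p, af_one']
    rcases card_omega hH hC.moved with ⟨hz, hu2⟩ | hu3
    · have hsub := hC.sub'
      haveI : (omegaZ p E).Normal := ainv_omegaZ.normal (F := F)
      have hle : omegaZ p E ≤ U := fun w hw => by
        by_contra hwU
        set W := U ⊔ omegaZ p E with hW
        have hWE1 : W ≤ E1 := sup_le omegaZ_le hsub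
        have hWel : Elem p W := by
          rw [hW, ← Subgroup.closure_eq U, ← Subgroup.closure_eq (omegaZ p E), ← Subgroup.closure_union]
          refine elem_closure ?_ ?_
          · rintro x (hx | hx) y (hy | hy)
            exacts [hx.2.2 y hy.1, hx.2.2 y (hsub hy), (hy.2.2 x (hsub hx)).symm, hx.2.2 y hy.1]
          · rintro x (hx | hx) <;> exact hx.2.1
        have hWc : Nat.card W = p ^ 3 := by
          refine le_antisymm (elem_le hH.rank hWel) ?_
          have h1 := (mul_card_le_sup hH.grp hwU).trans (Subgroup.card_le_of_le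
            (sup_le le_sup_left (Subgroup.zpowers_le.2 (Subgroup.mem_sup_right hw)) : U ⊔ zpowers w ≤ W))
          rw [show Nat.card U = p ^ 2 from hu2] at h1
          exact le_trans (le_of_eq (by ring)) h1
        refine block_index hH hC.moved hu2 hWel hWc le_sup_left hWE1 (T := E1 ⊓ E)
          ((hC.two.symm hH).relIndex_inf hH).le fun t ht y hy => ?_
        have hle : W ≤ Subgroup.centralizer {t} := sup_le
          (fun x hx => Subgroup.mem_centralizer_singleton_iff.2 (hx.2.2 t ht.1).eq)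
          (fun x hx => Subgroup.mem_centralizer_singleton_iff.2 (hx.2.2 t ht.2).eq)
        exact (Commute.symm (Subgroup.mem_centralizer_singleton_iff.1 (hle hy)))
      have hUZ : omegaZ p E = Z := le_antisymm
        (fun w hw => hmemZ w (hle hw) a haE haT (hw.2.2 a haE)) (omegaX_le hH hE)
      have hzz : zpowers z0 = Z := Subgroup.eq_of_le_of_card_ge (Subgroup.zpowers_le.2 hz0Z)
        (by rw [hz, Nat.card_zpowers, orderOf_eq_prime hz0p hz01])
      rw [hzz, ← hUZ]
      exact (ainv_omegaZ (F := F)).2 h hh z0 (hUZ ▸ hz0Z)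
    · by_cases hin : ∀ v ∈ U, autFun h v ∈ T
      · have hU' : ∀ v ∈ U, autFun h v ∈ U := fun v hv => by
          by_contra hvU
          have hel : Elem p (U ⊔ zpowers (autFun h v)) :=
            elem_omegaZ.sup_zpowers (fun w hw => (hUtc w hw _ (hin v hv)).symm)
              (by rw [← af_pow h (hUE hv), hv.2.1, af_one'])
          have h4 := (mul_card_le_sup hH.grp hvU).trans (elem_le hH.rank hel)
          rw [show Nat.card U = p ^ 3 from hu3] at h4
          exact absurd h4 (not_le.2 (lt_mul_left (pow_pos hp.out.pos 3) hp.out.one_lt))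
        rw [hz0, af_cm h (hUE hu) haE]
        exact hUz _ (hU' u hu) _ (autFun_mem h haE)
      · push Not at hin
        obtain ⟨v, hv, hvT⟩ := hin
        set a' := autFun h v
        have ha' : a' ∈ E := autFun_mem h (hUE hv)
        have h1 : cm u a' ∈ zpowers z0 := hUz u hu a' ha'
        have h2 : cm u a' ∈ zpowers (autFun h z0) := by
          rw [cm_swap]; exact inv_mem (himz h hh v hv u (hUE hu))
        have h3 : cm u a' ≠ 1 := fun h0 => huZ (hmemZ u hu a' ha' hvT (cm_eq_one_iff.1 h0))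
        have h4 : zpowers (cm u a') = zpowers (autFun h z0) := by
          refine Subgroup.eq_of_le_of_card_ge (Subgroup.zpowers_le.2 h2) ?_
          rw [Nat.card_zpowers, Nat.card_zpowers, orderOf_eq_prime (by
            obtain ⟨i, hi⟩ := mem_zpowers_iff.1 h1
            rw [← hi, ← zpow_natCast, ← zpow_mul, mul_comm, zpow_mul, zpow_natCast, hz0p, one_zpow]) h3]
          exact Nat.le_of_dvd hp.out.pos (orderOf_dvd_of_pow_eq_one hh0)
        exact (h4 ▸ Subgroup.zpowers_le.2 h1) (mem_zpowers _)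
  haveI hz0n : (zpowers z0).Normal := hz0a.normal
  have hz0c : ∀ n ∈ zpowers z0, ∀ v : X, Commute n v := fun n hn v =>
    hZc n (Subgroup.zpowers_le.2 hz0Z hn) v
  have hz0el : Elem p (zpowers z0) :=
    ⟨fun v hv w _ => hz0c v hv w, fun v hv => ((Subgroup.zpowers_le.2 hz0U : zpowers z0 ≤ U) hv).2.1⟩
  -- the group spanned by the images
  set s : Set X := {v | ∃ h ∈ F.autGroup E, ∃ w ∈ U, autFun h w = v} with hs
  set H := closure s with hHdef
  have hsE : ∀ v ∈ s, v ∈ E := by rintro _ ⟨h, _, w, hw, rfl⟩; exact autFun_mem h (hUE hw)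
  have hHE : H ≤ E := (Subgroup.closure_le E).2 hsE
  have hHa : AInv F E H := by
    refine AInv.closure hsE ?_
    rintro b hb _ ⟨h, hh, w, hw, rfl⟩
    exact Subgroup.subset_closure ⟨b * h, mul_mem hb hh, w, hw, autFun_mul b h w⟩
  haveI hHn : H.Normal := hHa.normal
  have hUH : U ≤ H := fun v hv => Subgroup.subset_closure ⟨1, one_mem _, v, hv, by rw [autFun_one]; rfl⟩
  have haH : a ∈ H := Subgroup.subset_closure ⟨g, hg, u0, hu0, rfl⟩
  have hsz : ∀ v ∈ s, ∀ e ∈ E, cm v e ∈ zpowers z0 := by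
    rintro _ ⟨h, hh, w, hw, rfl⟩ e he
    exact Subgroup.zpowers_le.2 (hz0a.2 h hh z0 (mem_zpowers z0)) (himz h hh w hw e he)
  have hHcm : ∀ v ∈ H, ∀ w ∈ H, cm v w ∈ zpowers z0 :=
    cm_closure_mem (fun n hn v _ => hz0c n hn v) fun v hv w hw => hsz v hv w (hsE w hw)
  have hHp : ∀ v ∈ H, v ^ p = 1 :=
    pow_closure hH.odd hz0el (fun n hn v _ => hz0c n hn v) (fun v hv w hw => hsz v hv w (hsE w hw)) (by
      rintro _ ⟨h, _, w, hw, rfl⟩
      rw [← af_pow h (hUE hw), hw.2.1, af_one'])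
  have hz0card : Nat.card (zpowers z0) = p := by rw [Nat.card_zpowers, orderOf_eq_prime hz0p hz01]
  have hHc : Nat.card H ≤ p ^ 4 := by
    have h := sect_card_le hH.rank (N := zpowers z0) (H := H) (Subgroup.zpowers_le.2 (hUH hz0U)) hHcm
      (fun v hv => by rw [hHp v hv]; exact one_mem _)
    rw [hz0card] at h
    exact h.trans (le_of_eq (by ring))
  set H0 := U ⊔ zpowers a with hH0
  have hH0H : H0 ≤ H := sup_le hUH (Subgroup.zpowers_le.2 haH)
  have haU : a ∉ U := fun h => haT (hUT h)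
  have hz0pow : ∀ i : ℤ, z0 ^ i = 1 → (p : ℤ) ∣ i := fun i hi => by
    have := orderOf_dvd_iff_zpow_eq_one.2 hi
    rwa [orderOf_eq_prime hz0p hz01] at this
  have hcu : ∀ i : ℤ, cm (u ^ i) a = z0 ^ i := fun i => cm_pow_left (hZc z0 hz0Z u) i
  have hau : cm a u = z0⁻¹ := cm_swap u a
  have hcau : ∀ i : ℤ, cm (a ^ i) u = z0 ^ (-i) := fun i => by
    rw [cm_pow_left (by rw [hau]; exact hZc _ (inv_mem hz0Z) a), hau, inv_zpow']
  have hHeq : H0 = H := by
    by_contra hne
    have hlt := lt_of_le_of_ne hH0H hne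
    have h1 := mul_card_le (hH.grp.to_subgroup H) hlt
    have h2 := mul_card_le_sup hH.grp haU
    rw [← hH0] at h2
    rcases card_omega hH hC.moved with ⟨hz, hu2⟩ | hu3
    · rw [← hU] at hu2
      obtain ⟨b, hbH, hb0⟩ := SetLike.exists_of_lt hlt
      obtain ⟨i, hi⟩ := mem_zpowers_iff.1 (hHcm b hbH a haH)
      obtain ⟨j, hj⟩ := mem_zpowers_iff.1 (hHcm b hbH u (hUH hu))
      set r := b * u ^ (-i) * a ^ j with hr
      have hrH : r ∈ H := mul_mem (mul_mem hbH (zpow_mem (hUH hu) _)) (zpow_mem haH j)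
      have hra : Commute r a := by
        rw [← cm_eq_one_iff, hr, cm_mul_left, cm_eq_one_iff.2 ((Commute.refl a).zpow_left j), mul_one,
          cm_mul_left, ← hi, hcu, mul_assoc _ _ (u ^ (-i)), (hZc _ (zpow_mem hz0Z i) _).eq,
          inv_mul_cancel_left, ← zpow_add, add_neg_cancel, zpow_zero, mul_one, inv_mul_cancel]
      have hru : Commute r u := by
        rw [← cm_eq_one_iff, hr, cm_mul_left, hcau, cm_mul_left, cm_eq_one_iff.2 ((Commute.refl u).zpow_left (-i)),
          mul_one, ← hj, mul_assoc _ _ (u ^ (-i)), (hZc _ (zpow_mem hz0Z j) _).eq, inv_mul_cancel_left,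
          mul_assoc _ _ (a ^ j), (hZc _ (zpow_mem hz0Z j) _).eq, inv_mul_cancel_left, ← zpow_add,
          add_neg_cancel, zpow_zero]
      have hr0 : r ∉ H0 := fun h => hb0 (by
        have h' := mul_mem (mul_mem h (inv_mem (Subgroup.mem_sup_right (zpow_mem (mem_zpowers a) j) : a ^ j ∈ H0)))
          (inv_mem (Subgroup.mem_sup_left (zpow_mem hu (-i)) : u ^ (-i) ∈ H0))
        rwa [hr, mul_inv_cancel_right, mul_inv_cancel_right] at h')
      have hgen : H0 ⊔ zpowers r = H := by
        refine Subgroup.eq_of_le_of_card_ge (sup_le hH0H (Subgroup.zpowers_le.2 hrH)) ?_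
        have h3 := le_trans (Nat.mul_le_mul_left p h2) (mul_card_le_sup hH.grp hr0)
        rw [hu2] at h3
        exact hHc.trans (le_trans (le_of_eq (by ring)) h3)
      have hrc : ∀ v ∈ H, Commute r v := by
        have hle : H0 ⊔ zpowers r ≤ Subgroup.centralizer {r} := by
          refine sup_le (sup_le ?_ ?_) ?_
          · intro v hv
            obtain ⟨z, hz, n, rfl⟩ := hUdec v hv
            exact Subgroup.mem_centralizer_singleton_iff.2 (((hZc z hz r).mul_left (hru.symm.zpow_left n))).eq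
          · rw [Subgroup.zpowers_le]
            exact Subgroup.mem_centralizer_singleton_iff.2 hra.symm.eq
          · rw [Subgroup.zpowers_le]
            exact Subgroup.mem_centralizer_singleton_iff.2 rfl
        intro v hv
        exact Commute.symm (Subgroup.mem_centralizer_singleton_iff.1 (hle (hgen.ge hv)))
      let Zc : Subgroup X :=
        { carrier := {v | v ∈ H ∧ ∀ w ∈ H, Commute v w}
          one_mem' := ⟨one_mem _, fun w _ => Commute.one_left w⟩
          mul_mem' := by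
            rintro v w ⟨hv, hv'⟩ ⟨hw, hw'⟩
            exact ⟨mul_mem hv hw, fun y hy => (hv' y hy).mul_left (hw' y hy)⟩
          inv_mem' := by
            rintro v ⟨hv, hv'⟩
            exact ⟨inv_mem hv, fun y hy => (hv' y hy).inv_left⟩ }
      have hZca : AInv F E Zc := by
        refine ⟨fun v hv => hHE hv.1, fun b hb v hv => ⟨hHa.2 b hb v hv.1, fun w hw => ?_⟩⟩
        have hw' := hHa.2 _ (inv_mem hb) w hw
        have h3 := congrArg (autFun b) (hv.2 _ hw').eq
        rw [af_mul b (hHE hv.1) (hHE hw'), af_mul b (hHE hw') (hHE hv.1), autFun_apply_inv] at h3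
        exact h3
      haveI : Zc.Normal := hZca.normal
      set W := U ⊔ Zc with hW
      have hWel : Elem p W := by
        rw [hW, ← Subgroup.closure_eq U, ← Subgroup.closure_eq Zc, ← Subgroup.closure_union]
        refine elem_closure ?_ ?_
        · rintro x (hx | hx) y (hy | hy)
          exacts [elem_omegaZ.1 x hx y hy, (hy.2 x (hUH hx)).symm, hx.2 y (hUH hy), hx.2 y hy.1]
        · rintro x (hx | hx)
          exacts [hx.2.1, hHp x hx.1]
      have hrU : r ∉ U := fun h => hr0 (Subgroup.mem_sup_left h)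
      have hWc : Nat.card W = p ^ 3 := by
        refine le_antisymm (elem_le hH.rank hWel) ?_
        have h3 := (mul_card_le_sup hH.grp hrU).trans (Subgroup.card_le_of_le
          (sup_le le_sup_left (Subgroup.zpowers_le.2 (Subgroup.mem_sup_right (⟨hrH, hrc⟩ : r ∈ Zc))) : U ⊔ zpowers r ≤ W))
        rw [hu2] at h3
        exact le_trans (le_of_eq (by ring)) h3
      have hWE1 : W ≤ E1 := sup_le omegaZ_le fun v hv =>
        ((hC.comm_iff hH (hHE hv.1)).1 fun w hw => (hv.2 w (hUH hw)).symm).2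
      have hidx := (block_relIndex hH hC.moved hu2 hWel hWc le_sup_left hWE1).le
      obtain ⟨v, _, hvu⟩ := block_surj hH hC.moved hu2 hWel hWc le_sup_left hWE1
        (Subgroup.mem_sup_right (⟨hrH, hrc⟩ : r ∈ Zc)) hrU hu
      refine huZ (hmemZ u hu a haE haT ?_)
      have h4 : cm v r ∈ Zc := by rw [cm_swap]; exact inv_mem (cm_mem (⟨hrH, hrc⟩ : r ∈ Zc) v)
      rw [hvu] at h4
      exact h4.2 a haH
    · rw [show Nat.card U = p ^ 3 from hu3] at h2
      exact absurd (le_trans (Nat.mul_le_mul_left p h2) (h1.trans hHc)) (not_le.2 (by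
        calc p ^ 4 = 1 * p ^ 4 := (one_mul _).symm
          _ < p * p ^ 4 := (Nat.mul_lt_mul_right (pow_pos hp.out.pos 4)).2 hp.out.one_lt
          _ = p * (p * p ^ 3) := by ring))
  have hHdec : ∀ v ∈ H, ∃ z ∈ Z, ∃ i j : ℤ, v = z * u ^ i * a ^ j := by
    intro v hv
    obtain ⟨w, hw, y, hy, rfl⟩ := Subgroup.mem_sup_of_normal_left.1 (hHeq.ge hv)
    obtain ⟨j, rfl⟩ := mem_zpowers_iff.1 hy
    obtain ⟨z, hz, i, rfl⟩ := hUdec w hw
    exact ⟨z, hz, i, j, rfl⟩
  have hHgenc : ∀ v : X, Commute v u → Commute v a → ∀ w ∈ H, Commute v w := by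
    intro v hvu hva w hw
    obtain ⟨z, hz, i, j, rfl⟩ := hHdec w hw
    exact ((hZc z hz v).symm.mul_right (hvu.zpow_right i)).mul_right (hva.zpow_right j)
  have hHZ : ∀ v ∈ H, Commute v u → Commute v a → v ∈ Z := by
    intro v hv hvu hva
    obtain ⟨z, hz, i, j, rfl⟩ := hHdec v hv
    have h1 : cm (z * u ^ i * a ^ j) a = z0 ^ i := by
      rw [cm_mul_left, cm_eq_one_iff.2 ((Commute.refl a).zpow_left j), mul_one, cm_mul_left,
        cm_eq_one_iff.2 (hZc z hz a), mul_one, inv_mul_cancel, one_mul, hcu, mul_assoc,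
        (hZc _ (zpow_mem hz0Z i) _).eq, inv_mul_cancel_left]
    have h2 : cm (z * u ^ i * a ^ j) u = z0 ^ (-j) := by
      rw [cm_mul_left, hcau, cm_mul_left, cm_eq_one_iff.2 (hZc z hz u),
        cm_eq_one_iff.2 ((Commute.refl u).zpow_left i)]
      group
    rw [cm_eq_one_iff.2 hva] at h1
    rw [cm_eq_one_iff.2 hvu] at h2
    obtain ⟨i', rfl⟩ := hz0pow i h1.symm
    obtain ⟨j', hj'⟩ := hz0pow (-j) h2.symm
    rw [show j = (p : ℤ) * (-j') by rw [mul_neg, ← hj', neg_neg], zpow_mul, zpow_mul, zpow_natCast, zpow_natCast,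
      hu.2.1, hap, one_zpow, one_zpow, mul_one, mul_one]
    exact hz
  -- the centraliser
  set C := E ⊓ Subgroup.centralizer (H : Set X) with hCdef
  have hCmem : ∀ v, v ∈ C ↔ v ∈ E ∧ ∀ w ∈ H, Commute v w := fun v => by
    rw [hCdef, Subgroup.mem_inf, Subgroup.mem_centralizer_iff]
    exact and_congr_right fun _ => ⟨fun h w hw => (h w hw).symm, fun h w hw => (h w hw).symm⟩
  have hCa : AInv F E C := by
    refine ⟨inf_le_left, fun b hb v hv => ?_⟩
    obtain ⟨hvE, hvc⟩ := (hCmem v).1 hv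
    refine (hCmem _).2 ⟨autFun_mem b hvE, fun w hw => ?_⟩
    have hw' := hHa.2 _ (inv_mem hb) w hw
    have h3 := congrArg (autFun b) (hvc _ hw').eq
    rw [af_mul b hvE (hHE hw'), af_mul b (hHE hw') hvE, autFun_apply_inv] at h3
    exact h3
  haveI hCn : C.Normal := hCa.normal
  have hCE : C ≤ E := inf_le_left
  have hZC : Z ≤ C := fun z hz => (hCmem z).2 ⟨(hZU.trans hUE) hz, fun w _ => hZc z hz w⟩
  have hCT : C ≤ T := fun v hv =>
    (hC.comm_iff hH (hCE hv)).1 fun w hw => (((hCmem v).1 hv).2 w (hUH hw)).symm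
  have hzconj : ∀ (n : ℤ) (v : X), v⁻¹ * z0 ^ n * v = z0 ^ n := fun n v => by
    rw [mul_assoc, (hZc _ (zpow_mem hz0Z n) v).eq, inv_mul_cancel_left]
  have hcae : ∀ e ∈ E, cm a e ∈ zpowers z0 := fun e he => hsz a ⟨g, hg, u0, hu0, rfl⟩ e he
  have hEdec : ∀ e ∈ E, ∃ i j : ℤ, ∃ v ∈ C, e = u ^ i * a ^ j * v ∧ (e ∈ T → j = 0) := by
    intro e he
    obtain ⟨k, hk, hk0⟩ : ∃ k : ℤ, z0 ^ k = cm u e ∧ (e ∈ T → k = 0) := by
      by_cases heT : e ∈ T
      · exact ⟨0, by rw [zpow_zero, cm_eq_one_iff.2 (hUtc u hu e heT)], fun _ => rfl⟩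
      · obtain ⟨k, hk⟩ := mem_zpowers_iff.1 (hUz u hu e he)
        exact ⟨k, hk, fun h => absurd h heT⟩
    obtain ⟨l, hl⟩ := mem_zpowers_iff.1 (hcae e he)
    set f := u ^ l * a ^ (-k) with hf
    have hfE : f ∈ E := mul_mem (zpow_mem (hUE hu) l) (zpow_mem haE _)
    have hc1 : Commute (f * e) u := by
      refine (cm_eq_one_iff.1 ?_).symm
      rw [cm_mul_right, ← hk, hf, cm_mul_right, cm_eq_one_iff.2 ((Commute.refl u).zpow_right l), hcmu, mul_one,
        inv_mul_cancel, mul_one, hzconj, ← zpow_add, add_neg_cancel, zpow_zero]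
    have hc2 : Commute (f * e) a := by
      refine (cm_eq_one_iff.1 ?_).symm
      rw [cm_mul_right, ← hl, hf, cm_mul_right, cm_eq_one_iff.2 ((Commute.refl a).zpow_right (-k)),
        cm_pow_right (by rw [hau]; exact hZc _ (inv_mem hz0Z) u), hau, one_mul, inv_zpow', hzconj, hzconj,
        ← zpow_add, add_neg_cancel, zpow_zero]
    refine ⟨-l, k, cm (u ^ (-l)) (a ^ k) ^ (-1 : ℤ) * (f * e), ?_, ?_, hk0⟩
    · have hcm : cm (u ^ (-l)) (a ^ k) ∈ Z := by
        rw [cm_pow_left (by rw [hcmu]; exact hZc _ (zpow_mem hz0Z k) u), hcmu]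
        exact zpow_mem (zpow_mem hz0Z k) _
      exact mul_mem (zpow_mem (hZC hcm) _) ((hCmem _).2 ⟨mul_mem hfE he, fun w hw => hHgenc _ hc1 hc2 w hw⟩)
    · rw [hf, zpow_neg_one, cm_def]
      group
  have hTdec : ∀ t ∈ T, ∃ i : ℤ, ∃ v ∈ C, t = u ^ i * v := by
    intro t ht
    obtain ⟨i, j, v, hv, he, hj⟩ := hEdec t ht.1
    rw [hj ht, zpow_zero, mul_one] at he
    exact ⟨i, v, hv, he⟩
  have hCU : ∀ v ∈ C, v ∈ U → v ∈ Z := fun v hv hvU =>
    hmemZ v hvU a haE haT (((hCmem v).1 hv).2 a haH)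
  have huC : u ∉ C := fun h => huZ (hCU u h hu)
  -- the centraliser is cyclic modulo the line
  haveI hΦC : (phi p C).Normal := phi_normal
  obtain ⟨c, hc, hCc⟩ : ∃ c ∈ C, C = zpowers z0 ⊔ zpowers c := by
    set N := phi p C ⊔ zpowers z0 with hN
    have hNC : N ≤ C := sup_le phi_le (Subgroup.zpowers_le.2 (hZC hz0Z))
    suffices h : ∃ c ∈ C, C ≤ N ⊔ zpowers c by
      obtain ⟨c, hc, hle⟩ := h
      refine ⟨c, hc, (eq_of_le_sup_phi hH.grp (sup_le (Subgroup.zpowers_le.2 (hZC hz0Z)) (Subgroup.zpowers_le.2 hc))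
        (hle.trans (le_of_eq ?_))).symm⟩
      rw [hN, sup_assoc, sup_comm]
    by_contra hcon
    push Not at hcon
    obtain ⟨c1, hc1, hc1N⟩ : ∃ v ∈ C, v ∉ N := SetLike.not_le_iff_exists.1 fun hle =>
      hcon 1 (one_mem _) (hle.trans le_sup_left)
    obtain ⟨c2, hc2, hc2N⟩ : ∃ v ∈ C, v ∉ N ⊔ zpowers c1 := SetLike.not_le_iff_exists.1 (hcon c1 hc1)
    obtain ⟨hcc, hcp⟩ := sect_gen (N := N) (s := (C : Set X) ∪ {u, a}) (p := p) (by
      have hCH : ∀ v ∈ C, ∀ w ∈ H, cm v w = 1 := fun v hv w hw => cm_eq_one_iff.2 (((hCmem v).1 hv).2 w hw)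
      rintro x (hx | rfl | rfl) y (hy | rfl | rfl)
      all_goals first
        | exact Subgroup.mem_sup_left (cm_mem_phi hx hy)
        | (rw [cm_self]; exact one_mem _)
        | (rw [hCH _ hx _ (hUH hu)]; exact one_mem _)
        | (rw [hCH _ hx _ haH]; exact one_mem _)
        | (rw [cm_swap, hCH _ hy _ (hUH hu), inv_one]; exact one_mem _)
        | (rw [cm_swap, hCH _ hy _ haH, inv_one]; exact one_mem _)
        | exact Subgroup.mem_sup_right (mem_zpowers z0)
        | (rw [hau]; exact inv_mem (Subgroup.mem_sup_right (mem_zpowers z0)))) (by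
      rintro x (hx | rfl | rfl)
      · exact Subgroup.mem_sup_left (pow_mem_phi hx)
      · rw [hu.2.1]; exact one_mem _
      · rw [hap]; exact one_mem _)
    have hCcl : C ≤ closure ((C : Set X) ∪ {u, a}) := fun v hv => Subgroup.subset_closure (Or.inl hv)
    have hM : N ⊔ zpowers c1 ⊔ zpowers c2 ≤ C :=
      sup_le (sup_le hNC (Subgroup.zpowers_le.2 hc1)) (Subgroup.zpowers_le.2 hc2)
    exact sect_four hH.grp hH.rank (hNC.trans hCcl) hcc hcp (hCcl hc1) (hCcl hc2)
      (Subgroup.subset_closure (Or.inr (Or.inl rfl))) (Subgroup.subset_closure (Or.inr (Or.inr rfl)))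
      hc1N hc2N (fun h => huC (hM h))
      fun h => haT (sup_le (hM.trans hCT) (Subgroup.zpowers_le.2 (hUT hu)) h)
  have hCdec : ∀ v ∈ C, ∃ i j : ℤ, v = z0 ^ i * c ^ j := fun v hv =>
    exists_of_mem_sup_comm (hZc z0 hz0Z c) (hCc.le hv)
  have hCab : ∀ v ∈ C, ∀ w ∈ C, Commute v w := by
    intro v hv w hw
    obtain ⟨i, j, rfl⟩ := hCdec v hv
    obtain ⟨k, l, rfl⟩ := hCdec w hw
    exact (hZc _ (zpow_mem hz0Z i) _).mul_left
      (((hZc _ (zpow_mem hz0Z k) _).symm).mul_right ((Commute.refl c).zpow_zpow j l))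
  have hCcen : ∀ v ∈ C, ∀ e ∈ E, Commute v e := by
    intro v hv e he
    obtain ⟨i, j, w, hw, rfl, -⟩ := hEdec e he
    exact ((((hCmem v).1 hv).2 _ (zpow_mem (hUH hu) i)).mul_right
      (((hCmem v).1 hv).2 _ (zpow_mem haH j))).mul_right (hCab v hv w hw)
  have hOC : ∀ v ∈ C, v ^ p = 1 → v ∈ Z := by
    intro v hv hvp
    rcases card_omega hH hC.moved with ⟨hz, hu2⟩ | hu3
    · refine hCU v hv ?_
      by_contra hvU
      have hmem : v ∈ omegaZ p E := ⟨hCE hv, hvp, hCcen v hv⟩
      haveI : (omegaZ p E).Normal := ainv_omegaZ.normal (F := F)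
      set W := U ⊔ omegaZ p E with hW
      have hsub := hC.sub'
      have hWE1 : W ≤ E1 := sup_le omegaZ_le hsub
      have hWel : Elem p W := by
        rw [hW, ← Subgroup.closure_eq U, ← Subgroup.closure_eq (omegaZ p E), ← Subgroup.closure_union]
        refine elem_closure ?_ ?_
        · rintro x (hx | hx) y (hy | hy)
          exacts [hx.2.2 y hy.1, hx.2.2 y (hsub hy), (hy.2.2 x (hsub hx)).symm, hx.2.2 y hy.1]
        · rintro x (hx | hx) <;> exact hx.2.1
      have hWc : Nat.card W = p ^ 3 := by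
        refine le_antisymm (elem_le hH.rank hWel) ?_
        have h1 := (mul_card_le_sup hH.grp hvU).trans (Subgroup.card_le_of_le
          (sup_le le_sup_left (Subgroup.zpowers_le.2 (Subgroup.mem_sup_right hmem)) : U ⊔ zpowers v ≤ W))
        rw [show Nat.card U = p ^ 2 from hu2] at h1
        exact le_trans (le_of_eq (by ring)) h1
      refine block_index hH hC.moved hu2 hWel hWc le_sup_left hWE1 (T := E1 ⊓ E)
        ((hC.two.symm hH).relIndex_inf hH).le fun t ht y hy => ?_
      have hle : W ≤ Subgroup.centralizer {t} := sup_le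
        (fun x hx => Subgroup.mem_centralizer_singleton_iff.2 (hx.2.2 t ht.1).eq)
        (fun x hx => Subgroup.mem_centralizer_singleton_iff.2 (hx.2.2 t ht.2).eq)
      exact (Commute.symm (Subgroup.mem_centralizer_singleton_iff.1 (hle hy)))
    · refine hCU v hv ?_
      by_contra hvU
      have hel : Elem p (U ⊔ zpowers v) :=
        elem_omegaZ.sup_zpowers (fun w hw => (((hCmem v).1 hv).2 w (hUH hw))) hvp
      have h4 := (mul_card_le_sup hH.grp hvU).trans (elem_le hH.rank hel)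
      rw [← hU] at hu3
      rw [hu3] at h4
      exact absurd h4 (not_le.2 (lt_mul_left (pow_pos hp.out.pos 3) hp.out.one_lt))
  -- an element of `E1` outside
  obtain ⟨x, hxE1, hxE⟩ := hC.two.exists_notMem hH
  have hxu : Commute x u := (hu.2.2 x hxE1).symm
  obtain ⟨kx, hkx⟩ := exists_pow_cA hH hE x
  set h1 := a⁻¹ * (x * a * x⁻¹) with hh1
  have hTa : ∀ v ∈ T, autFun (cA E x) v ∈ T := fun v hv => by
    rw [cA_apply x hv.1]
    exact Subgroup.Normal.conj_mem (inferInstance : (E ⊓ E1).Normal) v hv x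
  have hh1T : h1 ∈ T := by
    have h := step inf_le_left le_rfl (hC.two.relIndex_inf hH).le hTa (fun v hv => autFun_mem _ hv) hkx a haE
    rwa [cA_apply x haE] at h
  have hh1H : h1 ∈ H := mul_mem (inv_mem haH) (hHn.conj_mem a haH x)
  have hh1U : h1 ∈ U := by
    obtain ⟨z, hz, i, j, he⟩ := hHdec h1 hh1H
    have hajT : a ^ j ∈ T := by
      have := mul_mem (inv_mem (hUT (mul_mem (hZU hz) (zpow_mem hu i)))) hh1T
      rwa [he, inv_mul_cancel_left] at this
    have h2 : z0 ^ j = 1 := by rw [← hcmu, cm_eq_one_iff]; exact hUtc u hu _ hajT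
    obtain ⟨j', rfl⟩ := hz0pow j h2
    rw [zpow_mul, zpow_natCast, hap, one_zpow, mul_one] at he
    exact he ▸ mul_mem (hZU hz) (zpow_mem hu i)
  have hconj : x * a * x⁻¹ = a * h1 := (mul_inv_cancel_left a _).symm
  have hxpC : x ^ p ∈ C := by
    have hxpE : x ^ p ∈ E := by
      have := E.pow_index_mem x
      rwa [index_p hH hE] at this
    refine (hCmem _).2 ⟨hxpE, hHgenc _ (hxu.pow_left p) ?_⟩
    have hn : ∀ n : ℕ, x ^ n * a * (x ^ n)⁻¹ = a * h1 ^ n := by
      intro n
      induction n with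
      | zero => simp
      | succ n ih =>
        have hc : Commute x (h1 ^ n) := ((hh1U.2.2 x hxE1).symm).pow_right n
        calc x ^ (n + 1) * a * (x ^ (n + 1))⁻¹ = x * (x ^ n * a * (x ^ n)⁻¹) * x⁻¹ := by
              rw [pow_succ', mul_inv_rev]; group
          _ = x * a * x⁻¹ * (x * h1 ^ n * x⁻¹) := by rw [ih]; group
          _ = a * h1 ^ (n + 1) := by rw [hconj, hc.eq, mul_inv_cancel_right, pow_succ', mul_assoc]
    have h2 := hn p
    rw [hh1U.2.1, mul_one, mul_inv_eq_iff_eq_mul] at h2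
    exact h2
  have hE1dec : ∀ v ∈ E1, ∃ t ∈ T, ∃ n : ℤ, v = t * x ^ n := fun v hv => by
    obtain ⟨t, ht, n, rfl⟩ := (hC.two.symm hH).decomp_inf hH hxE1 hxE hv
    exact ⟨t, ⟨ht.2, ht.1⟩, n, rfl⟩
  set Φ := phi p E1 with hΦdef
  haveI hΦn : Φ.Normal := phi_normal
  have hΦC : Φ ≤ C := by
    obtain ⟨hcc, hcp⟩ := sect_gen (N := C) (s := (C : Set X) ∪ {u, x}) (p := p) (by
      rintro v (hv | rfl | rfl) w (hw | rfl | rfl)
      all_goals first
        | exact cm_mem hv _
        | exact cm_mem' _ hw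
        | (rw [cm_self]; exact one_mem _)
        | (rw [cm_eq_one_iff.2 hxu]; exact one_mem _)
        | (rw [cm_eq_one_iff.2 hxu.symm]; exact one_mem _)) (by
      rintro v (hv | rfl | rfl)
      · exact pow_mem hv p
      · rw [hu.2.1]; exact one_mem _
      · exact hxpC)
    have hle : ∀ v ∈ E1, v ∈ closure ((C : Set X) ∪ {u, x}) := by
      intro v hv
      obtain ⟨t, ht, n, rfl⟩ := hE1dec v hv
      obtain ⟨i, w, hw, rfl⟩ := hTdec t ht
      exact mul_mem (mul_mem (zpow_mem (Subgroup.subset_closure (by simp)) i)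
        (Subgroup.subset_closure (Or.inl hw))) (zpow_mem (Subgroup.subset_closure (by simp)) n)
    exact phi_le_iff.2 ⟨fun v hv => hcp v (hle v hv), fun v hv w hw => hcc v (hle v hv) w (hle w hw)⟩
  have hIa : AInv F E1 (Φ ⊓ U) := ainv_phi.inf ainv_omegaZ
  have hIZ : Φ ⊓ U ≤ Z := fun v hv => hCU v (hΦC hv.1) hv.2
  have hz0Φ : z0 ∉ Φ := fun h => by
    refine no_stab hH hC.moved haE1 hIa hIZ fun v hv => ?_
    have h2 : cm v a⁻¹ ∈ zpowers z0 := hUz v hv _ (inv_mem haE)
    rw [cm_def, inv_inv, mul_assoc, mul_assoc, ← mul_assoc a] at h2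
    exact Subgroup.zpowers_le.2 (⟨h, hz0U⟩ : z0 ∈ Φ ⊓ U) h2
  have hΦne : Φ ⊓ U ≠ ⊥ := by
    intro hbot
    by_cases hΦ : Φ = ⊥
    · refine hxE (hUE ⟨hxE1, ?_, fun e he => cm_eq_one_iff.1 ?_⟩)
      · exact Subgroup.mem_bot.1 (hΦ ▸ pow_mem_phi hxE1)
      · exact Subgroup.mem_bot.1 (hΦ ▸ cm_mem_phi hxE1 he)
    · haveI : Nontrivial Φ := (Subgroup.nontrivial_iff_ne_bot _).2 hΦ
      obtain ⟨v, hv⟩ := exists_prime_orderOf_dvd_card' (G := Φ) p (by
        obtain ⟨m, hm⟩ := IsPGroup.iff_card.1 (hH.grp.to_subgroup Φ)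
        have h1 : 1 < Nat.card Φ := Finite.one_lt_card
        rw [hm] at h1 ⊢
        exact dvd_pow_self p fun h0 => by simp [h0] at h1)
      have hvp : (v : X) ^ p = 1 := by rw [← SubgroupClass.coe_pow, ← hv, pow_orderOf_eq_one]; rfl
      have h2 : (v : X) = 1 :=
        Subgroup.mem_bot.1 (hbot.le ⟨v.2, hZU (hOC v (hΦC v.2) hvp)⟩)
      have h3 : orderOf v = 1 := orderOf_eq_one_iff.2 (Subtype.ext h2)
      rw [hv] at h3
      exact hp.out.ne_one h3
  -- `x` acts trivially on `H` modulo `C`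
  have hh1C : h1 ∈ C := by
    set H' := U ⊔ Φ with hH'
    have hH'a : AInv F E1 H' := ainv_omegaZ.sup ainv_phi
    have hH'T : H' ≤ T := sup_le hUT (hΦC.trans hCT)
    haveI hH'n : H'.Normal := hH'a.normal
    have hΦH' : Φ ≤ H' := le_sup_right
    have hUH' : U ≤ H' := le_sup_left
    have hH'c : Nat.card H' = p ^ 2 * Nat.card Φ := by
      have e0 : H' = Φ ⊔ zpowers z0 ⊔ zpowers u := by
        refine le_antisymm (sup_le (fun v hv => ?_) (le_sup_left.trans le_sup_left))
          (sup_le (sup_le hΦH' (Subgroup.zpowers_le.2 (hUH' hz0U))) (Subgroup.zpowers_le.2 (hUH' hu)))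
        obtain ⟨z, hz, i, rfl⟩ := hUdec v hv
        refine mul_mem ?_ (Subgroup.mem_sup_right (zpow_mem (mem_zpowers u) i))
        have hsup : (Φ ⊓ U) ⊔ zpowers z0 = Z := by
          refine Subgroup.eq_of_le_of_card_ge (sup_le hIZ (Subgroup.zpowers_le.2 hz0Z)) ?_
          have hIp : p ≤ Nat.card (Φ ⊓ U : Subgroup X) := by
            obtain ⟨m, hm⟩ := IsPGroup.iff_card.1 (hH.grp.to_subgroup (Φ ⊓ U : Subgroup X))
            rw [hm]
            exact Nat.le_self_pow (fun h0 => hΦne (Subgroup.card_eq_one.1 (by rw [hm, h0, pow_zero]))) p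
          have h2 := le_trans (Nat.mul_le_mul_left p hIp)
            (mul_card_le_sup hH.grp (fun h => hz0Φ h.1 : z0 ∉ Φ ⊓ U))
          have h3 : Nat.card Z ≤ p * p := by
            have h4 : Nat.card U ≤ p ^ 3 := elem_le hH.rank elem_omegaZ
            rw [hUc, pow_succ' p 2, pow_two] at h4
            exact Nat.le_of_mul_le_mul_left h4 hp.out.pos
          exact h3.trans h2
        have hle' : (Φ ⊓ U) ⊔ zpowers z0 ≤ Φ ⊔ zpowers z0 := sup_le_sup_right inf_le_left _
        exact Subgroup.mem_sup_left (hle' (hsup.ge hz))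
      have hz0' : Φ ⊔ zpowers z0 ≤ C := sup_le hΦC (Subgroup.zpowers_le.2 (hZC hz0Z))
      rw [e0]
      refine le_antisymm ?_ ?_
      · have k1 := card_sup_zpowers_le (B := Φ) hz0p
        haveI : (Φ ⊔ zpowers z0).Normal := inferInstance
        have k2 := card_sup_zpowers_le (B := Φ ⊔ zpowers z0) hu.2.1
        exact k2.trans ((Nat.mul_le_mul_left p k1).trans (le_of_eq (by ring)))
      · have k1 := mul_card_le_sup hH.grp hz0Φ
        have k2 := mul_card_le_sup hH.grp (fun h => huC (hz0' h) : u ∉ Φ ⊔ zpowers z0)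
        exact le_trans (le_of_eq (by ring)) ((Nat.mul_le_mul_left p k1).trans k2)
    obtain ⟨g1, hg1, hg1R⟩ := exists_conj hH hE1 haE1
    set α := cA E1 a with hα
    set β := g1 * α * g1⁻¹ with hβ
    have hαA : α ∈ F.autGroup E1 := cA_mem a
    have hβA : β ∈ F.autGroup E1 := mul_mem (mul_mem hg1 hαA) (inv_mem hg1)
    obtain ⟨k, hk⟩ := exists_pow_cA hH hE1 a
    have hk' : β ^ p ^ k = 1 := by rw [hβ, conj_pow, hk, mul_one, mul_inv_cancel]
    set π := QuotientGroup.mk' Φ with hπ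
    have hπeq : ∀ v w : X, π v = π w ↔ v⁻¹ * w ∈ Φ := fun v w => QuotientGroup.eq
    -- trivial on `E1 / H'`
    have hαq : ∀ v ∈ E1, v⁻¹ * autFun α v ∈ H' := by
      intro v hv
      rw [hα, cA_apply a hv]
      set π' := QuotientGroup.mk' H' with hπ'
      have hcx : Commute (π' a) (π' x) := by
        refine mk_cm_eq_one_iff.2 ?_
        have e : cm a x⁻¹ = h1 := by rw [hh1, cm_def, inv_inv]; group
        have e2 : cm a x = (x⁻¹ * h1 * x)⁻¹ := by rw [← e, cm_def, cm_def]; group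
        rw [e2, mul_assoc, (hh1U.2.2 x hxE1).eq, inv_mul_cancel_left]
        exact inv_mem (hUH' hh1U)
      have hcu' : Commute (π' a) (π' u) := mk_cm_eq_one_iff.2 (hUH' (by rw [hau]; exact inv_mem hz0U))
      obtain ⟨t, ht, n, rfl⟩ := hE1dec v hv
      obtain ⟨i, w, hw, rfl⟩ := hTdec t ht
      have hcw : Commute (π' a) (π' w) := ((((hCmem w).1 hw).2 a haH).symm).map π'
      have hcv : Commute (π' a) (π' (u ^ i * w * x ^ n)) := by
        rw [map_mul, map_mul, map_zpow, map_zpow]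
        exact ((hcu'.zpow_right i).mul_right hcw).mul_right (hcx.zpow_right n)
      refine (QuotientGroup.eq_one_iff _).1 ?_
      show π' (_ * _) = 1
      rw [map_mul, map_mul, map_mul, map_inv, map_inv, hcv.eq, mul_inv_cancel_right, inv_mul_cancel]
    have hβq : ∀ v ∈ E1, v⁻¹ * autFun β v ∈ H' := by
      intro v hv
      have hw := autFun_mem g1⁻¹ hv
      have h2 := hH'a.2 g1 hg1 _ (hαq _ hw)
      rw [af_mul g1 (inv_mem hw) (autFun_mem α hw), af_inv g1 hw, autFun_apply_inv] at h2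
      rwa [hβ, autFun_mul, autFun_mul]
    set L := closure ({α, β} : Set (MulAut E1)) with hL
    have hLA : L ≤ F.autGroup E1 := (Subgroup.closure_le _).2 (by rintro _ (rfl | rfl); exacts [hαA, hβA])
    have hLq : ∀ σ ∈ L, ∀ v ∈ E1, v⁻¹ * autFun σ v ∈ H' := by
      intro σ hσ
      induction hσ using Subgroup.closure_induction with
      | mem c hc => rcases hc with rfl | rfl; exacts [hαq, hβq]
      | one => intro v _; rw [autFun_one, id, inv_mul_cancel]; exact one_mem _
      | mul c d hc' _ ihc ihd =>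
        intro v hv
        rw [autFun_mul]
        have h3 := mul_mem (ihd v hv) (ihc _ (autFun_mem d hv))
        rwa [mul_assoc, mul_inv_cancel_left] at h3
      | inv c hc' ihc =>
        intro v hv
        have h3 := inv_mem (ihc _ (autFun_mem c⁻¹ hv))
        rwa [autFun_apply_inv, mul_inv_rev, inv_inv] at h3
    have hH'E1 : H' ≤ E1 := hH'a.1
    have hker : ∀ σ ∈ L, (∀ v ∈ H', v⁻¹ * autFun σ v ∈ Φ) → σ ∈ Inn E1 := fun σ hσ hs' =>
      mem_inn_of_stab_phi hH hE1 hH'a (hLA hσ) hs' (hLq σ hσ)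
    obtain ⟨w, hwL, hwinv⟩ := exists_inversion_section (E := E1) (N := Φ) (H := H') (p := p) hΦH' hH'E1
      (fun v hv y hy => cm_mem_phi (hH'E1 hv) (hH'E1 hy))
      (fun v hv => pow_mem_phi (hH'E1 hv)) hH'c (a := α) (b := β) (k := k) (l := k)
      (fun v hv => (ainv_phi (F := F)).2 α hαA v hv) (fun v hv => (ainv_phi (F := F)).2 β hβA v hv)
      (fun v hv => hH'a.2 α hαA v hv) (fun v hv => hH'a.2 β hβA v hv) hk hk'
      (fun σ hσ hs' => by
        obtain ⟨n, hn, he⟩ := mem_inn_iff.1 (hker σ hσ hs')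
        obtain ⟨j, hj⟩ := exists_pow_cA hH hE1 n
        refine ⟨j, ?_⟩
        rw [show σ = cA E1 n from autFun_ext fun v hv => by rw [he v hv, cA_apply n hv]; rfl, hj])
      (pair_not_pgroup hH hE1 haE1 hg1 hg1R)
    have hwA := hLA hwL
    have hπh : ∀ v ∈ H', π (autFun w v) = (π v)⁻¹ := fun v hv => by
      refine eq_inv_of_mul_eq_one_right ?_
      rw [← map_mul]
      exact (QuotientGroup.eq_one_iff _).2 (hwinv v hv)
    have hπcomm : ∀ v ∈ E1, ∀ y ∈ E1, Commute (π v) (π y) := fun v hv y hy =>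
      mk_cm_eq_one_iff.2 (cm_mem_phi hv hy)
    have hπpow : ∀ v ∈ E1, π v ^ p = 1 := fun v hv => by
      rw [← map_pow]; exact (QuotientGroup.eq_one_iff _).2 (pow_mem_phi hv)
    have hπcong : ∀ b ∈ F.autGroup E1, ∀ v ∈ E1, ∀ y ∈ E1, π v = π y → π (autFun b v) = π (autFun b y) := by
      intro b hb v hv y hy h
      rw [hπeq] at h ⊢
      rw [← af_inv b hv, ← af_mul b (inv_mem hv) hy]
      exact (ainv_phi (F := F)).2 b hb _ h
    obtain ⟨m, hm⟩ := hp.out.odd_of_ne_two hH.odd
    set hw := x⁻¹ * autFun w x with hhw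
    have hhwH : hw ∈ H' := hLq w hwL x hxE1
    set d := hw ^ (m + 1) with hd
    have hdH : d ∈ H' := pow_mem hhwH _
    have hd2 : π d * π d = π hw := by
      rw [hd, map_pow, ← pow_add, show m + 1 + (m + 1) = p + 1 by omega, pow_succ, hπpow _ (hH'E1 hhwH), one_mul]
    set x' := x * d with hx'
    have hx'E1 : x' ∈ E1 := mul_mem hxE1 (hH'E1 hdH)
    have hwx' : π (autFun w x') = π x' := by
      rw [hx', af_mul w hxE1 (hH'E1 hdH), map_mul, hπh d hdH,
        show π (autFun w x) = π x * π hw by rw [← map_mul, hhw, mul_inv_cancel_left], ← hd2, map_mul]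
      group
    set δ := x'⁻¹ * autFun α x' with hδ
    have hδH : δ ∈ H' := hαq x' hx'E1
    have hαL : α ∈ L := Subgroup.subset_closure (Or.inl rfl)
    have hσ : (α * w)⁻¹ * (w * α) ∈ Inn E1 := by
      refine hker _ (mul_mem (inv_mem (mul_mem hαL hwL)) (mul_mem hwL hαL)) fun v hv => ?_
      have hv1 := hH'E1 hv
      have hαv : autFun α v ∈ H' := hH'a.2 α hαA v hv
      have e1 : π (autFun (w * α) v) = π (autFun (α * w) v) := by
        rw [autFun_mul, autFun_mul, hπh _ hαv, ← map_inv, ← af_inv α hv1]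
        exact (hπcong α hαA _ (autFun_mem w hv1) _ (inv_mem hv1) (by rw [hπh v hv, map_inv])).symm
      have e2 := hπcong (α * w)⁻¹ (inv_mem (mul_mem hαA hwA)) _ (autFun_mem _ hv1) _ (autFun_mem _ hv1) e1
      rw [autFun_inv_apply, ← autFun_mul] at e2
      exact (hπeq _ _).1 e2.symm
    have hδΦ : δ ∈ Φ := by
      obtain ⟨n, hn, he⟩ := mem_inn_iff.1 hσ
      have e1 := he x' hx'E1
      have e2 : π (autFun ((α * w)⁻¹ * (w * α)) x') = π x' := by
        rw [e1, cj_apply, map_mul, map_mul, map_inv, (hπcomm n hn x' hx'E1).eq, mul_inv_cancel_right]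
      have e3 := hπcong (α * w) (mul_mem hαA hwA) _ (autFun_mem _ hx'E1) _ hx'E1 e2
      rw [← autFun_mul, mul_inv_cancel_left, autFun_mul, autFun_mul] at e3
      rw [hπcong α hαA _ (autFun_mem w hx'E1) _ hx'E1 hwx',
        show autFun α x' = x' * δ from (mul_inv_cancel_left _ _).symm, af_mul w hx'E1 (hH'E1 hδH),
        map_mul, hπh δ hδH, hwx', map_mul π x' δ, mul_right_inj] at e3
      have e4 : π δ ^ 2 = 1 := by rw [pow_two]; nth_rewrite 1 [← e3]; exact inv_mul_cancel _
      have e5 : π δ = 1 := by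
        have h5 := hπpow δ (hH'E1 hδH)
        rw [show p = 2 * m + 1 by omega, pow_succ, pow_mul, e4, one_pow, one_mul] at h5
        exact h5
      exact (QuotientGroup.eq_one_iff δ).1 e5
    -- descend to `C`
    set q := QuotientGroup.mk' C with hq
    have hdd : Commute (q a) (q d) := by
      refine mk_cm_eq_one_iff.2 ?_
      have hle : H' ≤ closure ((C : Set X) ∪ {u}) := sup_le (fun v hv => by
        obtain ⟨z, hz, i, rfl⟩ := hUdec v hv
        exact mul_mem (Subgroup.subset_closure (show z ∈ (C : Set X) ∪ {u} from Or.inl (hZC hz)))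
          (zpow_mem (Subgroup.subset_closure (show u ∈ (C : Set X) ∪ {u} from Or.inr rfl)) i))
        (fun v hv => Subgroup.subset_closure (show v ∈ (C : Set X) ∪ {u} from Or.inl (hΦC hv)))
      obtain ⟨hcc, -⟩ := sect_gen (N := C) (s := ((C : Set X) ∪ {u}) ∪ {a}) (p := p) (by
        rintro v ((hv | rfl) | rfl) y ((hy | rfl) | rfl)
        all_goals first
          | exact cm_mem hv _
          | exact cm_mem' _ hy
          | (rw [cm_self]; exact one_mem _)
          | exact hZC hz0Z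
          | (rw [hau]; exact inv_mem (hZC hz0Z))) (by
        rintro v ((hv | rfl) | rfl)
        · exact pow_mem hv p
        · rw [hu.2.1]; exact one_mem _
        · rw [hap]; exact one_mem _)
      exact hcc a (Subgroup.subset_closure (Or.inr rfl)) d
        ((Subgroup.closure_mono Set.subset_union_left : closure ((C : Set X) ∪ {u}) ≤ _) (hle hdH))
    have e1 : q (autFun α x') = q x' := ((QuotientGroup.eq).2 (hΦC hδΦ)).symm
    rw [hα, cA_apply a hx'E1, hx', map_mul, map_mul, map_mul, map_inv, ← mul_assoc, mul_assoc (q a * q x),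
      ← hdd.inv_left.eq, ← mul_assoc, mul_left_inj] at e1
    refine (QuotientGroup.eq_one_iff h1).1 ?_
    have hax : Commute (q a) (q x) := mul_inv_eq_iff_eq_mul.1 e1
    show q h1 = 1
    rw [hh1, map_mul, map_mul, map_mul, map_inv, map_inv, hax.symm.eq, mul_inv_cancel_right, inv_mul_cancel]
  -- `x` stabilises a series of `E`
  obtain ⟨m, hm⟩ := hH.grp c
  let D : ℕ → Subgroup X := fun i => zpowers z0 ⊔ zpowers (c ^ p ^ (m - i))
  have hDC : ∀ i, D i ≤ C := fun i =>
    sup_le (Subgroup.zpowers_le.2 (hZC hz0Z)) (Subgroup.zpowers_le.2 (pow_mem hc _))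
  have hD0 : D 0 = zpowers z0 := by
    show zpowers z0 ⊔ zpowers (c ^ p ^ (m - 0)) = _
    rw [Nat.sub_zero, hm, Subgroup.zpowers_one_eq_bot, sup_bot_eq]
  have hDm : D m = C := by
    show zpowers z0 ⊔ zpowers (c ^ p ^ (m - m)) = _
    rw [Nat.sub_self, pow_zero, pow_one, ← hCc]
  have hDa : ∀ i, AInv F E (D i) := by
    intro i
    refine ⟨(hDC i).trans hCE, fun b hb v hv => ?_⟩
    have hle : D i ≤ (D i).comap (MonoidHom.id X) := le_rfl
    obtain ⟨i1, j1, rfl⟩ := exists_of_mem_sup_comm (hZc z0 hz0Z (c ^ p ^ (m - i))) hv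
    rw [af_mul b (zpow_mem (hUE hz0U) _) (zpow_mem (pow_mem (hCE hc) _) _), af_zpow b (hUE hz0U),
      af_zpow b (pow_mem (hCE hc) _), af_pow b (hCE hc)]
    refine mul_mem (zpow_mem (Subgroup.mem_sup_left (hz0a.2 b hb z0 (mem_zpowers z0))) i1) (zpow_mem ?_ j1)
    obtain ⟨s1, t1, he⟩ := hCdec _ (hCa.2 b hb c hc)
    rw [he, ((hZc z0 hz0Z c).zpow_zpow s1 t1).mul_pow]
    refine mul_mem (Subgroup.mem_sup_left (pow_mem (zpow_mem (mem_zpowers z0) s1) _)) (Subgroup.mem_sup_right ?_)
    rw [← zpow_natCast (c ^ t1), ← zpow_mul, mul_comm, zpow_mul, zpow_natCast]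
    exact zpow_mem (mem_zpowers _) t1
  have hDstep : ∀ i < m, D i ≤ D (i + 1) ∧ (D i).relIndex (D (i + 1)) ≤ p := by
    intro i hi
    haveI : (D i).Normal := (hDa i).normal
    have he : m - i = (m - (i + 1)) + 1 := by omega
    have hpw : (c ^ p ^ (m - (i + 1))) ^ p = c ^ p ^ (m - i) := by rw [← pow_mul, ← pow_succ, ← he]
    have hle : D i ≤ D (i + 1) := sup_le le_sup_left (Subgroup.zpowers_le.2 (by
      rw [← hpw]; exact pow_mem (Subgroup.mem_sup_right (mem_zpowers _)) p))
    have heq : D (i + 1) = D i ⊔ zpowers (c ^ p ^ (m - (i + 1))) :=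
      le_antisymm (sup_le (le_sup_left.trans le_sup_left) le_sup_right) (sup_le hle le_sup_right)
    refine ⟨hle, ?_⟩
    rw [heq]
    exact relIndex_sup_zpowers_le (hpw.symm ▸ Subgroup.mem_sup_right (mem_zpowers _))
  let S : ℕ → Subgroup E := fun i =>
    if i = 0 then ⊥ else if i ≤ m + 1 then (D (i - 1)).subgroupOf E else ⊤
  have hS1 : ∀ i, i ≤ m → S (i + 1) = (D i).subgroupOf E := fun i hi => by
    simp only [S, Nat.succ_ne_zero, if_false, show i + 1 ≤ m + 1 by omega, if_true, Nat.add_sub_cancel]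
  have hS2 : S (m + 2) = ⊤ := by
    simp only [S, Nat.succ_ne_zero, if_false, show ¬ m + 2 ≤ m + 1 by omega]
  have hmem : (⟨cA E x, cA_mem x⟩ : F.autGroup E) ∈ pCore p (F.autGroup E) := by
    refine EssentialShape.mem_pCore_of_stabilizes (p := p) (hH.grp.to_subgroup E) _ S (m + 2) rfl hS2 ?_ ?_ ?_
    · intro i hi
      rcases i with _ | i
      · exact bot_le
      rcases Nat.lt_or_ge i m with h | h
      · rw [hS1 i h.le, hS1 (i + 1) h]
        exact Subgroup.comap_mono (hDstep i h).1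
      · obtain rfl : i = m := by omega
        rw [hS2]; exact le_top
    · intro i hi b hb v hv
      rcases i with _ | i
      · rw [show S 0 = ⊥ from rfl, Subgroup.mem_bot] at hv ⊢
        rw [hv, _root_.map_one]
      rcases Nat.lt_or_ge m i with h | h
      · rw [show i + 1 = m + 2 by omega, hS2]; exact Subgroup.mem_top _
      · rw [hS1 i h, Subgroup.mem_subgroupOf] at hv ⊢
        rw [← autFun_apply]
        exact (hDa i).2 b hb _ hv
    · intro i hi v hv
      show v⁻¹ * (cA E x) v ∈ S i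
      rcases i with _ | i
      · rw [hS1 0 (Nat.zero_le m), Subgroup.mem_subgroupOf, hD0] at hv
        rw [show S 0 = ⊥ from rfl, Subgroup.mem_bot]
        refine Subtype.ext ?_
        rw [Subgroup.coe_mul, Subgroup.coe_inv, ← autFun_apply, cA_apply x v.2, ← (hz0c _ hv x).eq,
          mul_inv_cancel_right, inv_mul_cancel]
        rfl
      rcases Nat.lt_or_ge i m with h | h
      · rw [hS1 (i + 1) h, Subgroup.mem_subgroupOf] at hv
        rw [hS1 i h.le, Subgroup.mem_subgroupOf, Subgroup.coe_mul, Subgroup.coe_inv, ← autFun_apply]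
        exact step ((hDa i).1) ((hDa (i + 1)).1) (hDstep i h).2 ((hDa i).2 _ (cA_mem x))
          ((hDa (i + 1)).2 _ (cA_mem x)) hkx _ hv
      · obtain rfl : i = m := by omega
        rw [hS1 i le_rfl, Subgroup.mem_subgroupOf, Subgroup.coe_mul, Subgroup.coe_inv, ← autFun_apply, hDm,
          cA_apply x v.2]
        obtain ⟨i1, j1, y, hy, he, -⟩ := hEdec v v.2
        rw [he]
        set q := QuotientGroup.mk' C with hq
        refine (QuotientGroup.eq_one_iff _).1 ?_
        show q (_ * _) = 1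
        have hya : q y = 1 := (QuotientGroup.eq_one_iff y).2 hy
        have hxa : Commute (q x) (q a) := by
          have h2 := congrArg q hconj
          rw [map_mul, map_mul, map_mul, map_inv, show q h1 = 1 from (QuotientGroup.eq_one_iff h1).2 hh1C,
            mul_one, mul_inv_eq_iff_eq_mul] at h2
          exact h2
        have hv' : q (u ^ i1 * a ^ j1 * y) = q u ^ i1 * q a ^ j1 := by
          rw [map_mul, map_mul, hya, mul_one, map_zpow, map_zpow]
        rw [map_mul, map_inv, map_mul q _ x⁻¹, map_mul q x, map_inv, hv',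
          (((hxu.map q).zpow_right i1).mul_right (hxa.zpow_right j1)).eq, mul_inv_cancel_right, inv_mul_cancel]
  exact hxE ((cA_inn_iff hH hE).1 (EssentialShape.mem_inn_of_mem_pCore hE (hH.grp.to_subgroup ⊤) hmem))

end Cfsg.Agent.Fusion.RankThree.Normal
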