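import Cfsg.Agent.Lib.Fusion.RankThree.Normal.Conf

/-!
Some image of the block of `E1` in the other essential subgroup leaves the intersection.
-/

set_option autoImplicit false
set_option linter.unusedSectionVars false
set_option linter.style.haveILetI false

namespace Cfsg.Agent.Fusion.RankThree.Normal

open Cfsg Cfsg.FusionSystem
open Cfsg.Agent.Fusion Cfsg.Agent.Fusion.Basic Cfsg.Agent.Fusion.Saturation
open Cfsg.Agent.Fusion.RankThree
open Subgroup (zpowers closure mem_zpowers mem_zpowers_iff normalizer)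

variable {X : Type*} [Group X] [Finite X] {p : ℕ} [hp : Fact p.Prime] {F : FusionSystem (⊤ : Subgroup X)}
  {E E1 : Subgroup X}

theorem card_sup_zpowers_le {B : Subgroup X} [B.Normal] {v : X} (hv : v ^ p = 1) :
    Nat.card (B ⊔ zpowers v : Subgroup X) ≤ p * Nat.card B := by
  have h := Subgroup.relIndex_mul_relIndex (⊥ : Subgroup X) B (B ⊔ zpowers v) bot_le le_sup_left
  rw [Subgroup.relIndex_bot_left, Subgroup.relIndex_bot_left] at h
  rw [← h, mul_comm]
  refine Nat.mul_le_mul_right _ ?_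
  rw [sup_comm, Subgroup.relIndex_sup_right]
  calc B.relIndex (zpowers v) ≤ (⊥ : Subgroup X).relIndex (zpowers v) :=
        Nat.le_of_dvd (by rw [Subgroup.relIndex_bot_left]; exact Nat.card_pos)
          (Subgroup.relIndex_dvd_of_le_left _ bot_le)
    _ ≤ p := by
      rw [Subgroup.relIndex_bot_left, Nat.card_zpowers]
      exact Nat.le_of_dvd hp.out.pos (orderOf_dvd_of_pow_eq_one hv)

/-- A section of `K` covering `W`, compatible with both automizers. -/
structure Level (F : FusionSystem (⊤ : Subgroup X)) (E1 E K W M N : Subgroup X) (ψ : X → X) : Prop where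
  le : M ≤ K
  invM : AInv F E M
  invM1 : AInv F E1 M
  invN : AInv F E N
  mul : ∀ u ∈ M, ∀ v ∈ M, ψ (u * v) = ψ u * ψ v
  mem : ∀ u ∈ M, ψ u ∈ W
  ker : ∀ u, u ∈ N ↔ u ∈ M ∧ ψ u = 1
  surj : ∀ w ∈ W, ∃ u ∈ M, ψ u = w
  eqv : ∀ a ∈ F.autGroup E, ∀ u ∈ M, ψ (autFun a u) = autFun a (ψ u)
  eqv1 : ∀ a ∈ F.autGroup E1, ∀ u ∈ M, ψ (autFun a u) = autFun a (ψ u)

theorem Level.map_one {K W M N : Subgroup X} {ψ : X → X} (h : Level F E1 E K W M N ψ) : ψ 1 = 1 := by
  have h1 := h.mul 1 (one_mem _) 1 (one_mem _)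
  rwa [mul_one, left_eq_mul] at h1

theorem Level.map_pow {K W M N : Subgroup X} {ψ : X → X} (h : Level F E1 E K W M N ψ) {u : X} (hu : u ∈ M) (n : ℕ) :
    ψ (u ^ n) = ψ u ^ n := by
  induction n with
  | zero => rw [pow_zero, pow_zero, h.map_one]
  | succ n ih => rw [pow_succ, pow_succ, h.mul _ (pow_mem hu n) u hu, ih]

theorem Level.map_inv {K W M N : Subgroup X} {ψ : X → X} (h : Level F E1 E K W M N ψ) {u : X} (hu : u ∈ M) :
    ψ u⁻¹ = (ψ u)⁻¹ := by
  refine eq_inv_of_mul_eq_one_left ?_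
  rw [← h.mul _ (inv_mem hu) _ hu, inv_mul_cancel, h.map_one]

theorem Level.map_zpow {K W M N : Subgroup X} {ψ : X → X} (h : Level F E1 E K W M N ψ) {u : X} (hu : u ∈ M) (n : ℤ) :
    ψ (u ^ n) = ψ u ^ n := by
  rcases n with n | n
  · rw [Int.ofNat_eq_natCast, zpow_natCast, zpow_natCast, h.map_pow hu]
  · rw [zpow_negSucc, zpow_negSucc, h.map_inv (pow_mem hu _), h.map_pow hu]

theorem Level.map_cm {K W M N : Subgroup X} {ψ : X → X} (h : Level F E1 E K W M N ψ) [E.Normal] {u : X}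
    (hu : u ∈ M) {v : X} (_hv : v ∈ E) (hW : W ≤ E) : cm u v ∈ M ∧ ψ (cm u v) = cm (ψ u) v := by
  have e : cm u v = u⁻¹ * autFun (cA E v⁻¹) u := by
    rw [cA_apply _ (h.invM.1 hu), cm_def, inv_inv]; group
  have hm : autFun (cA E v⁻¹) u ∈ M := h.invM.2 _ (cA_mem _) u hu
  refine ⟨e ▸ mul_mem (inv_mem hu) hm, ?_⟩
  rw [e, h.mul _ (inv_mem hu) _ hm, h.map_inv hu, h.eqv _ (cA_mem _) u hu, cA_apply _ (hW (h.mem u hu)), cm_def,
    inv_inv]
  group

set_option maxHeartbeats 2000000 in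
theorem case_tower (hH : Hyp p F) (hC : Conf p F E1 E) (hinv : ¬ AInv F E (omegaZ p E1))
    (hall : ∀ a ∈ F.autGroup E, ∀ u ∈ omegaZ p E1, autFun a u ∈ E ⊓ E1) : False := by
  have hE := hC.two.right
  have hE1 := hC.two.left
  haveI hEn := hC.two.rightN
  haveI hE1n := hC.two.leftN
  set U := omegaZ p E1 with hU
  set Z := omegaX p X with hZ
  set T := E ⊓ E1 with hTdef
  have hUT : U ≤ T := hC.block_le hH
  have hUtc : ∀ u ∈ U, ∀ t ∈ T, Commute u t := fun u hu t ht => hu.2.2 t ht.2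
  have hZU : Z ≤ U := omegaX_le hH hE1
  have hZc : ∀ z ∈ Z, ∀ v : X, Commute z v := fun z hz v => hz.2.2 v (Subgroup.mem_top v)
  haveI hUn : U.Normal := ainv_omegaZ.normal (F := F)
  haveI hZn : Z.Normal := ⟨fun z hz v => by rw [← (hZc z hz v).eq, mul_inv_cancel_right]; exact hz⟩
  -- the span of the images
  set s : Set X := {v | ∃ a ∈ F.autGroup E, ∃ u ∈ U, autFun a u = v} with hs
  set W := closure s with hWdef
  have hUW : U ≤ W := fun u hu => Subgroup.subset_closure ⟨1, one_mem _, u, hu, by rw [autFun_one]; rfl⟩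
  have hsT : ∀ v ∈ s, v ∈ T := by rintro _ ⟨a, ha, u, hu, rfl⟩; exact hall a ha u hu
  have hWel : Elem p W := by
    refine elem_closure ?_ ?_
    · rintro _ ⟨a, ha, u, hu, rfl⟩ _ ⟨b, hb, u', hu', rfl⟩
      have h1 := hall _ (mul_mem (inv_mem hb) ha) u hu
      rw [autFun_mul] at h1
      have h2 := congrArg (autFun b) (hUtc u' hu' _ h1).eq
      rw [af_mul b (hUT hu').1 h1.1, af_mul b h1.1 (hUT hu').1, autFun_apply_inv] at h2
      exact h2.symm
    · rintro _ ⟨a, ha, u, hu, rfl⟩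
      rw [← af_pow a (hUT hu).1, hu.2.1, af_one']
  have hWT : W ≤ T := (Subgroup.closure_le T).2 hsT
  have hWE : W ≤ E := hWT.trans inf_le_left
  have hWE1 : W ≤ E1 := hWT.trans inf_le_right
  have hWa : AInv F E W := by
    refine AInv.closure (fun v hv => (hsT v hv).1) ?_
    rintro a ha _ ⟨b, hb, u, hu, rfl⟩
    exact Subgroup.subset_closure ⟨a * b, mul_mem ha hb, u, hu, autFun_mul a b u⟩
  haveI hWn : W.Normal := hWa.normal
  have hUWlt : U < W := lt_of_le_of_ne hUW fun h => hinv (h ▸ hWa)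
  have hUc : Nat.card U = p ^ 2 ∧ Nat.card W = p ^ 3 := by
    have h1 := (mul_card_le (hH.grp.to_subgroup W) hUWlt)
    have h2 := elem_le hH.rank hWel
    have h3 := card_omega_ge hH hC.moved
    rw [← hU] at h3
    have h4 : Nat.card U ≤ p ^ 2 := Nat.le_of_mul_le_mul_left ((h1.trans h2).trans_eq (by ring)) hp.out.pos
    have h5 : Nat.card U = p ^ 2 := le_antisymm h4 h3
    exact ⟨h5, le_antisymm h2 (le_trans (le_of_eq (by rw [h5]; ring)) h1)⟩
  obtain ⟨hUc, hWc⟩ := hUc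
  have hZp : Nat.card Z = p := by
    rcases card_omega hH hC.moved with ⟨h, -⟩ | h
    · exact h
    · rw [← hU, hUc] at h
      exact absurd (Nat.pow_right_injective hp.out.two_le h) (by norm_num)
  have hblock : AInv F E1 W := block_inv hH hC.moved hUc hWel hWc hUW hWE1
  have hWUidx : U.relIndex W ≤ p := (block_relIndex hH hC.moved hUc hWel hWc hUW hWE1).le
  have hWcmU : ∀ w ∈ W, ∀ v, cm w v ∈ U := fun w hw v => cm_mem_of_index hH.grp hUW hWUidx v hw
  obtain ⟨w0, hw0, hw0U⟩ := SetLike.exists_of_lt hUWlt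
  have hWgen : U ⊔ zpowers w0 = W := Subgroup.eq_of_le_of_card_ge (sup_le hUW (Subgroup.zpowers_le.2 hw0))
    (le_trans (le_of_eq (by rw [hWc, hUc]; ring)) (mul_card_le_sup hH.grp hw0U))
  have hcentW : ∀ v ∈ E1, Commute v w0 → ∀ w ∈ W, Commute v w := by
    intro v hv hc w hw
    rw [← hWgen] at hw
    obtain ⟨u, hu, y, hy, rfl⟩ := Subgroup.mem_sup_of_normal_left.1 hw
    obtain ⟨i, rfl⟩ := mem_zpowers_iff.1 hy
    exact (hu.2.2 v hv).symm.mul_right (hc.zpow_right i)
  set K := Subgroup.centralizer (W : Set X) with hKdef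
  have hKmem : ∀ v, v ∈ K ↔ ∀ w ∈ W, Commute v w := fun v => by
    rw [hKdef, Subgroup.mem_centralizer_iff]
    exact ⟨fun h w hw => (h w hw).symm, fun h w hw => (h w hw).symm⟩
  have hKE1 : K ≤ E1 := by
    intro v hv
    by_contra hv1
    obtain ⟨u, hu, huX⟩ := SetLike.exists_of_lt (omegaX_lt hH hC.moved)
    exact huX (mem_omegaX hH hE1 hu hv1 ((hKmem v).1 hv u (hUW hu)).symm)
  have hKT : K ≤ T := by
    intro k hk
    refine ⟨?_, hKE1 hk⟩
    by_contra hkE
    refine hinv ⟨fun u hu => (hUT hu).1, fun a ha u hu => ?_⟩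
    obtain ⟨v, hv, hvu⟩ := block_surj hH hC.moved hUc hWel hWc hUW hWE1 hw0 hw0U hu
    obtain ⟨t, ht, n, rfl⟩ := (hC.two.symm hH).decomp_inf hH (hKE1 hk) hkE hv
    have e1 : cm (k ^ n) w0 = 1 := cm_eq_one_iff.2 (((hKmem k).1 hk w0 hw0).zpow_left n)
    have hcU : cm t w0 ∈ U := by rw [cm_swap]; exact inv_mem (hWcmU w0 hw0 t)
    have e2 : cm (t * k ^ n) w0 = cm t w0 := by
      rw [cm_mul_left, e1, mul_one, mul_assoc,
        (hcU.2.2 _ (zpow_mem (hKE1 hk) n)).eq, inv_mul_cancel_left]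
    rw [e2] at hvu
    rw [← hvu, af_cm a ht.2 (hWE hw0), cm_swap]
    exact inv_mem (hWcmU _ (hWa.2 a ha w0 hw0) _)
  have hKa : AInv F E K := by
    refine ⟨hKT.trans inf_le_left, fun a ha v hv => (hKmem _).2 fun w hw => ?_⟩
    have h1 := (hKmem v).1 hv _ (hWa.2 _ (inv_mem ha) w hw)
    have h2 := congrArg (autFun a) h1.eq
    rw [af_mul a (hKT hv).1 (autFun_mem _ (hWE hw)), af_mul a (autFun_mem _ (hWE hw)) (hKT hv).1,
      autFun_apply_inv] at h2
    exact h2
  have hKb : AInv F E1 K := by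
    refine ⟨hKE1, fun a ha v hv => (hKmem _).2 fun w hw => ?_⟩
    have h1 := (hKmem v).1 hv _ (hblock.2 _ (inv_mem ha) w hw)
    have h2 := congrArg (autFun a) h1.eq
    rw [af_mul a (hKE1 hv) (autFun_mem _ (hWE1 hw)), af_mul a (autFun_mem _ (hWE1 hw)) (hKE1 hv),
      autFun_apply_inv] at h2
    exact h2
  haveI hKn : K.Normal := hKa.normal
  have hK2 : Nat.card E1 = p ^ 2 * Nat.card K := by
    let f : E1 →* U :=
      MonoidHom.mk' (fun v => ⟨cm (v : X) w0, by rw [cm_swap]; exact inv_mem (hWcmU w0 hw0 v)⟩)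
        fun v v' => Subtype.ext (by
          show cm ((v : X) * v') w0 = cm (v : X) w0 * cm (v' : X) w0
          have hm : cm (v : X) w0 ∈ U := by rw [cm_swap]; exact inv_mem (hWcmU w0 hw0 v)
          rw [cm_mul_left, mul_assoc (v' : X)⁻¹, (hm.2.2 _ v'.2).eq, inv_mul_cancel_left])
    have hsurj : Function.Surjective f := fun u => by
      obtain ⟨v, hv, hvu⟩ := block_surj hH hC.moved hUc hWel hWc hUW hWE1 hw0 hw0U u.2
      exact ⟨⟨v, hv⟩, Subtype.ext hvu⟩
    have hker : f.ker = K.subgroupOf E1 := by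
      ext v
      rw [MonoidHom.mem_ker, Subgroup.mem_subgroupOf]
      refine ⟨fun h => (hKmem _).2 (hcentW _ v.2 (cm_eq_one_iff.1 (congrArg Subtype.val h))),
        fun h => Subtype.ext (cm_eq_one_iff.2 ((hKmem _).1 h w0 hw0))⟩
    have h1 := f.ker.card_mul_index
    rw [Subgroup.index_ker, MonoidHom.range_eq_top.2 hsurj, Subgroup.card_top, hUc, hker,
      Nat.card_congr (Subgroup.subgroupOfEquivOfLe hKE1).toEquiv] at h1
    rw [← h1, mul_comm]
  have hcE : Nat.card E = p * Nat.card T := hC.two.card_inf hH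
  have hcEK : Nat.card E = p ^ 2 * Nat.card K := by
    rw [← hK2]
    have h1 := E.card_mul_index
    rw [← E1.card_mul_index, index_p hH hE, index_p hH hE1] at h1
    exact Nat.eq_of_mul_eq_mul_right hp.out.pos h1
  obtain ⟨t0, ht0, ht0K⟩ : ∃ t ∈ T, t ∉ K := SetLike.not_le_iff_exists.1 fun hle => by
    have h1 := Subgroup.card_le_of_le hle
    rw [hcE, pow_two, mul_assoc] at hcEK
    rw [Nat.eq_of_mul_eq_mul_left hp.out.pos hcEK] at h1
    exact absurd h1 (not_le.2 (lt_mul_left Nat.card_pos hp.out.one_lt))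
  -- commutators of `W` with `E` give the centre
  set S0 := closure {v | ∃ w ∈ W, ∃ e ∈ E, cm w e = v} with hS0
  have hS0U : S0 ≤ U := (Subgroup.closure_le U).2 (by rintro _ ⟨w, hw, e, _, rfl⟩; exact hWcmU w hw e)
  have hS0a : AInv F E S0 := by
    refine AInv.closure (fun v hv => (hUT (hS0U (Subgroup.subset_closure hv))).1) ?_
    rintro a ha _ ⟨w, hw, e, he, rfl⟩
    rw [af_cm a (hWE hw) he]
    exact Subgroup.subset_closure ⟨_, hWa.2 a ha w hw, _, autFun_mem a he, rfl⟩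
  haveI hS0n : S0.Normal := hS0a.normal
  have hlt0 : S0 < U := lt_of_le_of_ne hS0U fun h => hinv (h ▸ hS0a)
  have hWEZ : ∀ w ∈ W, ∀ e ∈ E, cm w e ∈ Z := by
    intro w hw e he
    have hmem : cm w e ∈ S0 := Subgroup.subset_closure ⟨w, hw, e, he, rfl⟩
    have hS0c : Nat.card S0 ≤ p := by
      have h1 := mul_card_le (hH.grp.to_subgroup U) hlt0
      rw [hUc, pow_two] at h1
      exact Nat.le_of_mul_le_mul_left h1 hp.out.pos
    refine ⟨Subgroup.mem_top _, (hS0U hmem).2.1, fun v _ => cm_eq_one_iff.1 ?_⟩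
    exact Subgroup.mem_bot.1 (cm_mem_of_index hH.grp (bot_le : ⊥ ≤ S0)
      (by rw [Subgroup.relIndex_bot_left]; exact hS0c) v hmem)
  have hcmr : ∀ w ∈ W, ∀ e ∈ E, ∀ e' ∈ E, cm w (e * e') = cm w e' * cm w e := fun w hw e he e' he' => by
    rw [cm_mul_right, mul_assoc e'⁻¹, (hZc _ (hWEZ w hw e he) e').eq, inv_mul_cancel_left]
  have hZa : AInv F E Z := by
    have heq : S0 = Z := by
      refine Subgroup.eq_of_le_of_card_ge ((Subgroup.closure_le Z).2
        (by rintro _ ⟨w, hw, e, he, rfl⟩; exact hWEZ w hw e he)) ?_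
      rw [hZp]
      obtain ⟨w, hw, hne⟩ : ∃ w ∈ W, ¬ Commute t0 w := by
        by_contra h; push Not at h; exact ht0K ((hKmem t0).2 h)
      have hmem : cm w t0 ∈ S0 := Subgroup.subset_closure ⟨w, hw, t0, ht0.1, rfl⟩
      have h1 : cm w t0 ≠ 1 := fun h => hne (cm_eq_one_iff.1 h).symm
      have h2 := Subgroup.card_le_of_le (Subgroup.zpowers_le.2 hmem)
      rwa [Nat.card_zpowers, orderOf_eq_prime ((hS0U hmem).2.1) h1] at h2
    exact heq ▸ hS0a
  have hWfix : ∀ w ∈ W, (∀ e ∈ E, Commute w e) → w ∈ Z := by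
    intro w hw hc
    obtain ⟨e0, he0, he01⟩ := (hC.two.symm hH).exists_notMem hH
    by_cases hwU : w ∈ U
    · exact hC.mem_omegaX_of_comm hH hwU he0 he01 (hc e0 he0)
    · exfalso
      refine ht0K ((hKmem t0).2 fun w' hw' => ?_)
      have hsup : U ⊔ zpowers w = W := Subgroup.eq_of_le_of_card_ge (sup_le hUW (Subgroup.zpowers_le.2 hw))
        (le_trans (le_of_eq (by rw [hWc, hUc]; ring)) (mul_card_le_sup hH.grp hwU))
      obtain ⟨u, hu, y, hy, rfl⟩ := Subgroup.mem_sup_of_normal_left.1 (hsup.ge hw')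
      obtain ⟨i, rfl⟩ := mem_zpowers_iff.1 hy
      exact (hUtc u hu t0 ht0).symm.mul_right ((hc t0 ht0.1).symm.zpow_right i)
  -- irreducibility above the centre
  have hirrE : ∀ J : Subgroup X, AInv F E J → Z ≤ J → J ≤ W → J = W ∨ J = Z := by
    intro J hJ hZJ hJW
    by_contra hcon
    push Not at hcon
    haveI : J.Normal := hJ.normal
    have h1 := mul_card_le (hH.grp.to_subgroup W) (lt_of_le_of_ne hJW hcon.1)
    have h2 := mul_card_le (hH.grp.to_subgroup J) (lt_of_le_of_ne hZJ (Ne.symm hcon.2))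
    rw [hWc] at h1
    rw [hZp, ← pow_two] at h2
    have hJc : Nat.card J = p ^ 2 :=
      le_antisymm (Nat.le_of_mul_le_mul_left (h1.trans_eq (by ring)) hp.out.pos) h2
    obtain ⟨w, hwJ, hwU⟩ : ∃ w ∈ J, w ∉ U := SetLike.not_le_iff_exists.1 fun hle =>
      hinv (Subgroup.eq_of_le_of_card_ge hle (hUc.trans hJc.symm).le ▸ hJ)
    have hJidx : J.relIndex W ≤ p := by
      have h := Subgroup.relIndex_mul_relIndex (⊥ : Subgroup X) J W bot_le hJW
      rw [Subgroup.relIndex_bot_left, Subgroup.relIndex_bot_left, hWc, hJc, pow_succ p 2] at h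
      exact (Nat.eq_of_mul_eq_mul_left (pow_pos hp.out.pos 2) h).le
    have hUJ : U ⊓ J = Z := by
      refine (Subgroup.eq_of_le_of_card_ge (le_inf hZU hZJ) ?_).symm
      have hlt : U ⊓ J < J := lt_of_le_of_ne inf_le_right fun h => hwU (h.ge hwJ).1
      have h3 := mul_card_le (hH.grp.to_subgroup J) hlt
      rw [hJc, pow_two] at h3
      rw [hZp]
      exact Nat.le_of_mul_le_mul_left h3 hp.out.pos
    have hle : U ≤ Z := fun u hu => by
      obtain ⟨v, hv, hvu⟩ := block_surj hH hC.moved hUc hWel hWc hUW hWE1 (hJW hwJ) hwU hu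
      rw [← hUJ, ← hvu, cm_swap]
      exact inv_mem ⟨hWcmU w (hJW hwJ) v, cm_mem hwJ v⟩
    have h4 := Subgroup.card_le_of_le hle
    rw [hUc, hZp] at h4
    exact absurd h4 (not_le.2 (lt_self_pow₀ hp.out.one_lt one_lt_two))
  have hirr : ∀ I : Subgroup X, AInv F E I → AInv F E1 I → I ≤ W → I ≠ ⊥ → I = W := by
    intro I hI hI1 hIW hne
    haveI : I.Normal := hI.normal
    haveI := hH.grp.isNilpotent
    obtain ⟨z, hz, hz1⟩ := (Subgroup.bot_or_exists_ne_one _).resolve_left (Solvable.Basics.inf_center_ne_bot hne)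
    have hzZ : z ∈ Z := ⟨Subgroup.mem_top z, hWel.2 z (hIW hz.1),
      fun v _ => (Subgroup.mem_center_iff.1 hz.2 v).symm⟩
    have hUI : U ≤ I := by
      have h := irreducible_two hH hC.moved hUc (I := I ⊓ U) (hI1.inf ainv_omegaZ) inf_le_right
        (fun h => hz1 (Subgroup.mem_bot.1 (h.le ⟨hz.1, hZU hzZ⟩)))
      exact inf_eq_right.1 h
    refine le_antisymm hIW ((Subgroup.closure_le I).2 ?_)
    rintro _ ⟨a, ha, u, hu, rfl⟩
    exact hI.2 a ha u (hUI hu)
  -- climb
  have climb : ∀ n : ℕ, ∀ M N : Subgroup X, ∀ ψ : X → X, Level F E1 E K W M N ψ →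
      Nat.card K - Nat.card M ≤ n → ∃ N' : Subgroup X, ∃ ψ' : X → X, Level F E1 E K W K N' ψ' := by
    intro n
    induction n with
    | zero =>
      intro M N ψ hL hn
      have hMK : M = K := Subgroup.eq_of_le_of_card_ge hL.le (by omega)
      exact ⟨N, ψ, hMK ▸ hL⟩
    | succ n ih =>
      intro M N ψ hL hn
      by_cases hMK : M = K
      · exact ⟨N, ψ, hMK ▸ hL⟩
      haveI hMn : M.Normal := hL.invM.normal
      haveI hNn : N.Normal := hL.invN.normal
      have hNM : N ≤ M := fun u hu => ((hL.ker u).1 hu).1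
      have hcenM : ∀ u ∈ M, ∀ k ∈ K, cm u k ∈ N := by
        intro u hu k hk
        obtain ⟨hm, he⟩ := hL.map_cm hu (hKT hk).1 hWE
        exact (hL.ker _).2 ⟨hm, by rw [he, cm_eq_one_iff]; exact ((hKmem k).1 hk _ (hL.mem u hu)).symm⟩
      have hpowM : ∀ u ∈ M, u ^ p ∈ N := fun u hu =>
        (hL.ker _).2 ⟨pow_mem hu p, by rw [hL.map_pow hu, hWel.2 _ (hL.mem u hu)]⟩
      have hMc : Nat.card M = p ^ 3 * Nat.card N := by
        let f : M →* W := MonoidHom.mk' (fun u => ⟨ψ u, hL.mem u u.2⟩) fun u v => Subtype.ext (hL.mul u u.2 v v.2)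
        have hsurj : Function.Surjective f := fun w => by
          obtain ⟨u, hu, he⟩ := hL.surj w w.2
          exact ⟨⟨u, hu⟩, Subtype.ext he⟩
        have hker : f.ker = N.subgroupOf M := by
          ext u
          rw [MonoidHom.mem_ker, Subgroup.mem_subgroupOf, hL.ker]
          exact ⟨fun h => ⟨u.2, congrArg Subtype.val h⟩, fun h => Subtype.ext h.2⟩
        have h1 := f.ker.card_mul_index
        rw [Subgroup.index_ker, MonoidHom.range_eq_top.2 hsurj, Subgroup.card_top, hWc, hker,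
          Nat.card_congr (Subgroup.subgroupOfEquivOfLe hNM).toEquiv] at h1
        rw [← h1, mul_comm]
      set πM := QuotientGroup.mk' M
      let M' : Subgroup X :=
        { carrier := {k | k ∈ K ∧ k ^ p ∈ M ∧ ∀ k' ∈ K, cm k k' ∈ M}
          one_mem' := ⟨one_mem _, by rw [one_pow]; exact one_mem _,
            fun k' _ => by rw [cm_one_left]; exact one_mem _⟩
          mul_mem' := by
            rintro u v ⟨hu, hu', hu''⟩ ⟨hv, hv', hv''⟩
            refine ⟨mul_mem hu hv, ?_, fun k' hk' => ?_⟩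
            · rw [← QuotientGroup.eq_one_iff] at hu' hv' ⊢
              have hcuv : Commute (u : X ⧸ M) (v : X ⧸ M) := mk_cm_eq_one_iff.2 (hu'' v hv)
              rw [QuotientGroup.mk_pow, QuotientGroup.mk_mul, hcuv.mul_pow,
                ← QuotientGroup.mk_pow, ← QuotientGroup.mk_pow, hu', hv', one_mul]
            · rw [cm_mul_left]
              exact mul_mem (by simpa using hMn.conj_mem _ (hu'' k' hk') v⁻¹) (hv'' k' hk')
          inv_mem' := by
            rintro u ⟨hu, hu', hu''⟩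
            refine ⟨inv_mem hu, by rw [inv_pow]; exact inv_mem hu', fun k' hk' => ?_⟩
            rw [show cm u⁻¹ k' = u * (cm u k')⁻¹ * u⁻¹ by rw [cm_def, cm_def]; group]
            exact hMn.conj_mem _ (inv_mem (hu'' k' hk')) u }
      have hMM' : M ≤ M' := fun u hu => ⟨hL.le hu, pow_mem hu p, fun k' _ => cm_mem hu k'⟩
      have hM'a : AInv F E M' := by
        refine ⟨fun k hk => (hKT hk.1).1, fun a ha k hk => ⟨hKa.2 a ha k hk.1, ?_, fun k' hk' => ?_⟩⟩
        · rw [← af_pow a (hKT hk.1).1]; exact hL.invM.2 a ha _ hk.2.1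
        · have h1 := hL.invM.2 a ha _ (hk.2.2 _ (hKa.2 a⁻¹ (inv_mem ha) k' hk'))
          rwa [af_cm a (hKT hk.1).1 (autFun_mem _ (hKT hk').1), autFun_apply_inv] at h1
      have hM'b : AInv F E1 M' := by
        refine ⟨fun k hk => hKE1 hk.1, fun a ha k hk => ⟨hKb.2 a ha k hk.1, ?_, fun k' hk' => ?_⟩⟩
        · rw [← af_pow a (hKE1 hk.1)]; exact hL.invM1.2 a ha _ hk.2.1
        · have h1 := hL.invM1.2 a ha _ (hk.2.2 _ (hKb.2 a⁻¹ (inv_mem ha) k' hk'))
          rwa [af_cm a (hKE1 hk.1) (autFun_mem _ (hKE1 hk')), autFun_apply_inv] at h1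
      have hlt : M < M' := by
        refine lt_of_le_of_ne hMM' fun heq => ?_
        haveI : (K.map πM).Normal := Subgroup.Normal.map inferInstance _ (QuotientGroup.mk'_surjective _)
        have hne : K.map πM ≠ ⊥ := fun h => by
          rw [Subgroup.map_eq_bot_iff, QuotientGroup.ker_mk'] at h
          exact hMK (le_antisymm hL.le h)
        haveI := (hH.grp.to_quotient M).isNilpotent
        set Q := K.map πM ⊓ Subgroup.center (X ⧸ M)
        haveI : Nontrivial Q := (Subgroup.nontrivial_iff_ne_bot _).2 (Solvable.Basics.inf_center_ne_bot hne)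
        obtain ⟨z, hz⟩ := exists_prime_orderOf_dvd_card' (G := Q) p (by
          obtain ⟨m, hm⟩ := IsPGroup.iff_card.1 ((hH.grp.to_quotient M).to_subgroup Q)
          have h1 : 1 < Nat.card Q := Finite.one_lt_card
          rw [hm] at h1 ⊢
          exact dvd_pow_self p fun h0 => by simp [h0] at h1)
        obtain ⟨d, hd, hdz⟩ := z.2.1
        have hzp : (z : X ⧸ M) ^ p = 1 := by
          rw [← SubgroupClass.coe_pow, ← hz, pow_orderOf_eq_one]; rfl
        have hdM' : d ∈ M' := by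
          refine ⟨hd, ?_, fun k' _ => mk_cm_eq_one_iff.1 ?_⟩
          · rw [← QuotientGroup.eq_one_iff, QuotientGroup.mk_pow, ← hzp, ← hdz]; rfl
          · show Commute (πM d) (πM k')
            rw [hdz]
            exact (Subgroup.mem_center_iff.1 z.2.2 _).symm
        have h1 : (z : X ⧸ M) = 1 := hdz ▸ (QuotientGroup.eq_one_iff d).2 (heq.ge hdM')
        have h2 : orderOf z = 1 := orderOf_eq_one_iff.2 (Subtype.ext h1)
        rw [hz] at h2
        exact hp.out.ne_one h2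
      have hψmul : ∀ u ∈ M', ∀ v ∈ M', ψ ((u * v) ^ p) = ψ (u ^ p) * ψ (v ^ p) := by
        intro u hu v hv
        rw [← hL.mul _ hu.2.1 _ hv.2.1]
        set π := QuotientGroup.mk' N
        have hc : cm v u ∈ M := hv.2.2 u hu.1
        have e : π ((u * v) ^ p) = π (u ^ p * v ^ p) := by
          rw [_root_.map_pow, _root_.map_mul, mul_pow_class_two_eq hp.out hH.odd, _root_.map_mul, _root_.map_pow,
            _root_.map_pow]
          · rw [← RankThree.map_cm π]; exact mk_cm_eq_one_iff.2 (hcenM _ hc u hu.1)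
          · rw [← RankThree.map_cm π]; exact mk_cm_eq_one_iff.2 (hcenM _ hc v hv.1)
          · rw [← RankThree.map_cm π, ← _root_.map_pow]; exact (QuotientGroup.eq_one_iff _).2 (hpowM _ hc)
        have hn' : (u ^ p * v ^ p)⁻¹ * (u * v) ^ p ∈ N := QuotientGroup.eq.1 e.symm
        have hmem : (u * v) ^ p ∈ M := (mul_mem hu hv).2.1
        have h1 := ((hL.ker _).1 hn').2
        rw [hL.mul _ (inv_mem (mul_mem hu.2.1 hv.2.1)) _ hmem, hL.map_inv (mul_mem hu.2.1 hv.2.1),
          inv_mul_eq_one] at h1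
        exact h1.symm
      have hkerM : ∀ u, u ∈ M ↔ u ∈ M' ∧ ψ (u ^ p) = 1 := by
        intro k
        refine ⟨fun hk => ⟨hMM' hk, ((hL.ker _).1 (hpowM k hk)).2⟩, fun ⟨hk, hk1⟩ => ?_⟩
        by_contra hkM
        obtain ⟨hc, hpw⟩ := sect_gen (N := N) (s := (M : Set X) ∪ {k}) (p := p) (by
          rintro a (ha | rfl) b (hb | rfl)
          · exact hcenM a ha b (hL.le hb)
          · exact hcenM a ha _ hk.1
          · rw [cm_swap]; exact inv_mem (hcenM b hb _ hk.1)
          · rw [cm_self]; exact one_mem _) (by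
          rintro a (ha | rfl)
          · exact hpowM a ha
          · exact (hL.ker _).2 ⟨hk.2.1, hk1⟩)
        have hsup : closure ((M : Set X) ∪ {k}) = M ⊔ zpowers k := by
          rw [Subgroup.closure_union, Subgroup.closure_eq, ← Subgroup.zpowers_eq_closure]
        rw [hsup] at hc hpw
        have h1 := sect_card_le hH.rank (N := N) (H := M ⊔ zpowers k) (hNM.trans le_sup_left) hc hpw
        have h2 := mul_card_le_sup hH.grp hkM
        rw [hMc] at h2
        exact absurd (h2.trans h1) (not_le.2 (lt_mul_left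
          (Nat.mul_pos (pow_pos hp.out.pos 3) Nat.card_pos) hp.out.one_lt))
      let I : Subgroup X :=
        { carrier := {w | ∃ k ∈ M', ψ (k ^ p) = w}
          one_mem' := ⟨1, one_mem _, by rw [one_pow, hL.map_one]⟩
          mul_mem' := by
            rintro _ _ ⟨u, hu, rfl⟩ ⟨v, hv, rfl⟩
            exact ⟨u * v, mul_mem hu hv, hψmul u hu v hv⟩
          inv_mem' := by
            rintro _ ⟨u, hu, rfl⟩
            exact ⟨u⁻¹, inv_mem hu, by rw [inv_pow, hL.map_inv hu.2.1]⟩ }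
      have hIW : I ≤ W := by rintro _ ⟨k, hk, rfl⟩; exact hL.mem _ hk.2.1
      have heqv : ∀ a ∈ F.autGroup E, ∀ k ∈ M', ψ ((autFun a k) ^ p) = autFun a (ψ (k ^ p)) := by
        intro a ha k hk
        rw [← af_pow a (hKT hk.1).1, hL.eqv a ha _ hk.2.1]
      have heqv1 : ∀ a ∈ F.autGroup E1, ∀ k ∈ M', ψ ((autFun a k) ^ p) = autFun a (ψ (k ^ p)) := by
        intro a ha k hk
        rw [← af_pow a (hKE1 hk.1), hL.eqv1 a ha _ hk.2.1]
      have hIne : I ≠ ⊥ := fun h => by
        obtain ⟨k, hk, hkM⟩ := SetLike.exists_of_lt hlt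
        refine hkM ((hkerM k).2 ⟨hk, ?_⟩)
        exact Subgroup.mem_bot.1 (h.le ⟨k, hk, rfl⟩)
      have hIeq : I = W := by
        refine hirr I ⟨hIW.trans hWE, ?_⟩ ⟨hIW.trans hWE1, ?_⟩ hIW hIne
        · rintro a ha _ ⟨k, hk, rfl⟩
          exact ⟨_, hM'a.2 a ha k hk, heqv a ha k hk⟩
        · rintro a ha _ ⟨k, hk, rfl⟩
          exact ⟨_, hM'b.2 a ha k hk, heqv1 a ha k hk⟩
      refine ih M' M (fun k => ψ (k ^ p)) ⟨fun k hk => hk.1, hM'a, hM'b, hL.invM, hψmul,
        fun k hk => hL.mem _ hk.2.1, hkerM, fun w hw => hIeq.ge hw, heqv, heqv1⟩ ?_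
      have h1 := mul_card_le (hH.grp.to_subgroup M') hlt
      have h2 : Nat.card M' ≤ Nat.card K := Subgroup.card_le_of_le fun k hk => hk.1
      have h3 : Nat.card M < p * Nat.card M := lt_mul_left Nat.card_pos hp.out.one_lt
      omega
  have hWK : W ≤ K := fun w hw => (hKmem w).2 fun w' hw' => hWel.1 w hw w' hw'
  have hbotE : AInv F E (⊥ : Subgroup X) := ⟨bot_le, fun a _ v hv => by
    rw [Subgroup.mem_bot.1 hv, af_one']; exact one_mem _⟩
  obtain ⟨N, ψ, hL⟩ := climb (Nat.card K) W ⊥ id ⟨hWK, hWa, hblock, hbotE, fun _ _ _ _ => rfl, fun _ h => h,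
    fun u => ⟨fun h => ⟨Subgroup.mem_bot.1 h ▸ one_mem _, Subgroup.mem_bot.1 h⟩, fun h => Subgroup.mem_bot.2 h.2⟩,
    fun w hw => ⟨w, hw, rfl⟩, fun _ _ _ _ => rfl, fun _ _ _ _ => rfl⟩ (Nat.sub_le _ _)
  haveI hNn : N.Normal := hL.invN.normal
  have hNK : N ≤ K := fun u hu => ((hL.ker u).1 hu).1
  let Zb : Subgroup X :=
    { carrier := {k | k ∈ K ∧ ψ k ∈ Z}
      one_mem' := ⟨one_mem _, by rw [hL.map_one]; exact one_mem _⟩
      mul_mem' := by
        rintro u v ⟨hu, hu'⟩ ⟨hv, hv'⟩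
        exact ⟨mul_mem hu hv, by rw [hL.mul u hu v hv]; exact mul_mem hu' hv'⟩
      inv_mem' := by
        rintro u ⟨hu, hu'⟩
        exact ⟨inv_mem hu, by rw [hL.map_inv hu]; exact inv_mem hu'⟩ }
  have hZba : AInv F E Zb := ⟨fun k hk => (hKT hk.1).1, fun a ha k hk =>
    ⟨hKa.2 a ha k hk.1, by rw [hL.eqv a ha k hk.1]; exact hZa.2 a ha _ hk.2⟩⟩
  haveI hZbn : Zb.Normal := hZba.normal
  have hNZb : N ≤ Zb := fun u hu => ⟨hNK hu, by rw [((hL.ker u).1 hu).2]; exact one_mem _⟩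
  have hKEcm : ∀ k ∈ K, ∀ v ∈ E, cm k v ∈ Zb := fun k hk v hv => by
    obtain ⟨hm, he⟩ := hL.map_cm hk hv hWE
    exact ⟨hm, he ▸ hWEZ _ (hL.mem k hk) v hv⟩
  have hEcm : ∀ u ∈ E, ∀ v ∈ E, cm u v ∈ K := by
    intro u hu v hv
    refine (hKmem _).2 fun w hw => ?_
    let f : E →* Z := MonoidHom.mk' (fun e => ⟨cm w e, hWEZ w hw e e.2⟩) fun e e' => Subtype.ext (by
      show cm w ((e : X) * e') = cm w (e : X) * cm w (e' : X)
      rw [hcmr w hw e e.2 e' e'.2, (hZc _ (hWEZ w hw e' e'.2) _).eq])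
    have h1 : f (cm ⟨u, hu⟩ ⟨v, hv⟩) = 1 := by
      rw [RankThree.map_cm, cm_eq_one_iff]
      exact Subtype.ext (hZc _ (hWEZ w hw u hu) _).eq
    have h2 : cm w ((cm ⟨u, hu⟩ ⟨v, hv⟩ : E) : X) = 1 := congrArg Subtype.val h1
    rw [show ((cm ⟨u, hu⟩ ⟨v, hv⟩ : E) : X) = cm u v from RankThree.map_cm E.subtype _ _] at h2
    exact (cm_eq_one_iff.1 h2).symm
  have hEpow : ∀ u ∈ E, u ^ p ∈ K := by
    intro u hu
    refine (hKmem _).2 fun w hw => (cm_eq_one_iff.1 ?_).symm
    rw [← zpow_natCast, cm_pow_right (hZc _ (hWEZ w hw u hu) u), zpow_natCast, (hWEZ w hw u hu).2.1]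
  obtain ⟨e0, he0, he01⟩ := (hC.two.symm hH).exists_notMem hH
  have hgenE : E ≤ closure ((K : Set X) ∪ {e0, t0}) := by
    intro v hv
    obtain ⟨t, ht, n, rfl⟩ := hC.two.decomp_inf hH he0 he01 hv
    refine mul_mem ?_ (zpow_mem (Subgroup.subset_closure (by simp)) n)
    have hsup : K ⊔ zpowers t0 = T := by
      refine Subgroup.eq_of_le_of_card_ge (sup_le hKT (Subgroup.zpowers_le.2 ht0)) ?_
      have h1 := mul_card_le_sup hH.grp ht0K
      rw [hcE, pow_two, mul_assoc] at hcEK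
      rw [Nat.eq_of_mul_eq_mul_left hp.out.pos hcEK]
      exact h1
    have hle : K ⊔ zpowers t0 ≤ closure ((K : Set X) ∪ {e0, t0}) :=
      sup_le (fun k hk => Subgroup.subset_closure (Or.inl hk))
        (Subgroup.zpowers_le.2 (Subgroup.subset_closure (by simp)))
    exact hle (hsup.ge ht)
  -- commutators
  have hcmZb : ∀ u ∈ E, ∀ v ∈ E, cm u v ∈ Zb := by
    set q := cm e0 t0 with hq
    have hqK : q ∈ K := hEcm e0 he0 t0 ht0.1
    set π := QuotientGroup.mk' Zb
    have hin : ∀ k ∈ (K : Set X) ∪ {e0, t0}, k ∈ E := by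
      rintro k (hk | rfl | rfl)
      exacts [(hKT hk).1, he0, ht0.1]
    have hmod : ∀ u ∈ E, ∀ v ∈ E, π (cm u v) ∈ zpowers (π q) := by
      intro u hu v hv
      have key := cm_closure_mem (X := X ⧸ Zb) (s := π '' ((K : Set X) ∪ {e0, t0})) (N := zpowers (π q)) (by
        rintro n hn _ ⟨k, hk, rfl⟩
        obtain ⟨i, rfl⟩ := mem_zpowers_iff.1 hn
        exact (mk_cm_eq_one_iff.2 (hKEcm q hqK k (hin k hk))).zpow_left i) (by
        rintro _ ⟨a, ha, rfl⟩ _ ⟨b, hb, rfl⟩
        rw [← RankThree.map_cm π]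
        have ha' := hin a ha
        have hb' := hin b hb
        rcases ha with ha | rfl | rfl <;> rcases hb with hb | rfl | rfl
        all_goals first
          | (rw [cm_self, _root_.map_one]; exact one_mem _)
          | (rw [(QuotientGroup.eq_one_iff _).2 (hKEcm a ha _ hb') ]; exact one_mem _)
          | (rw [cm_swap, _root_.map_inv, show π (cm b a) = 1 from (QuotientGroup.eq_one_iff _).2 (hKEcm b hb _ ha'),
              inv_one]; exact one_mem _)
          | (rw [show π (cm a b) = 1 from (QuotientGroup.eq_one_iff _).2 (hKEcm a ha _ hb')]; exact one_mem _)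
          | exact mem_zpowers _
          | (rw [cm_swap, _root_.map_inv]; exact inv_mem (mem_zpowers _)))
      have hm : ∀ y ∈ E, π y ∈ closure (π '' ((K : Set X) ∪ {e0, t0})) := fun y hy => by
        rw [← MonoidHom.map_closure]
        exact Subgroup.mem_map_of_mem _ (hgenE hy)
      rw [RankThree.map_cm π]
      exact key _ (hm u hu) _ (hm v hv)
    set J := closure ((Z : Set X) ∪ {w | ∃ u ∈ E, ∃ v ∈ E, ψ (cm u v) = w}) with hJ
    have hJW : J ≤ W := (Subgroup.closure_le W).2 (by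
      rintro _ (h | ⟨u, hu, v, hv, rfl⟩)
      exacts [hUW (hZU h), hL.mem _ (hEcm u hu v hv)])
    have hJa : AInv F E J := by
      refine AInv.closure (fun w hw => hWE (hJW (Subgroup.subset_closure hw))) ?_
      rintro a ha w (h | ⟨u, hu, v, hv, rfl⟩)
      · exact Subgroup.subset_closure (Or.inl (hZa.2 a ha w h))
      · rw [← hL.eqv a ha _ (hEcm u hu v hv), af_cm a hu hv]
        exact Subgroup.subset_closure (Or.inr ⟨_, autFun_mem a hu, _, autFun_mem a hv, rfl⟩)
    have hJsmall : J ≤ Z ⊔ zpowers (ψ q) := (Subgroup.closure_le _).2 (by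
      rintro _ (h | ⟨u, hu, v, hv, rfl⟩)
      · exact Subgroup.mem_sup_left h
      · obtain ⟨i, hi⟩ := mem_zpowers_iff.1 (hmod u hu v hv)
        rw [← _root_.map_zpow] at hi
        have h1 : (q ^ i)⁻¹ * cm u v ∈ Zb := QuotientGroup.eq.1 hi
        have h2 : ψ (cm u v) = ψ q ^ i * ψ ((q ^ i)⁻¹ * cm u v) := by
          rw [← hL.map_zpow hqK, ← hL.mul _ (zpow_mem hqK i) _ h1.1, mul_inv_cancel_left]
        rw [h2]
        exact mul_mem (Subgroup.mem_sup_right (zpow_mem (mem_zpowers _) i)) (Subgroup.mem_sup_left h1.2))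
    rcases hirrE J hJa (fun z hz => Subgroup.subset_closure (Or.inl hz)) hJW with h | h
    · exfalso
      have h1 := (Subgroup.card_le_of_le (h.ge.trans hJsmall)).trans
        (card_sup_zpowers_le (hWel.2 _ (hL.mem q hqK)))
      rw [hWc, hZp, ← pow_two] at h1
      exact absurd h1 (not_le.2 (Nat.pow_lt_pow_right hp.out.one_lt (by norm_num)))
    · exact fun u hu v hv => ⟨hEcm u hu v hv,
        h ▸ Subgroup.subset_closure (Or.inr ⟨u, hu, v, hv, rfl⟩)⟩
  -- powers
  obtain ⟨v, hv, hvZ⟩ : ∃ v ∈ E, ψ (v ^ p) ∉ Z := by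
    by_contra h
    push Not at h
    have h1 := sect_card_le hH.rank (N := Zb) (H := E) hZba.1 hcmZb fun u hu => ⟨hEpow u hu, h u hu⟩
    have hcZb : Nat.card Zb ≤ p * Nat.card N := by
      let f : Zb →* Z := MonoidHom.mk' (fun k => ⟨ψ k, k.2.2⟩) fun k l => Subtype.ext (hL.mul k k.2.1 l l.2.1)
      have h2 := f.ker.card_mul_index
      have hker : f.ker = N.subgroupOf Zb := by
        ext u
        rw [MonoidHom.mem_ker, Subgroup.mem_subgroupOf, hL.ker]
        exact ⟨fun h => ⟨u.2.1, congrArg Subtype.val h⟩, fun h => Subtype.ext h.2⟩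
      rw [Subgroup.index_ker, hker, Nat.card_congr (Subgroup.subgroupOfEquivOfLe hNZb).toEquiv] at h2
      rw [← h2, mul_comm]
      exact Nat.mul_le_mul_right _ (hZp ▸ f.range.card_le_card_group)
    have hKc : Nat.card K = p ^ 3 * Nat.card N := by
      let f : K →* W := MonoidHom.mk' (fun k => ⟨ψ k, hL.mem k k.2⟩) fun k l => Subtype.ext (hL.mul k k.2 l l.2)
      have hsurj : Function.Surjective f := fun w => by
        obtain ⟨u, hu, he⟩ := hL.surj w w.2
        exact ⟨⟨u, hu⟩, Subtype.ext he⟩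
      have hker : f.ker = N.subgroupOf K := by
        ext u
        rw [MonoidHom.mem_ker, Subgroup.mem_subgroupOf, hL.ker]
        exact ⟨fun h => ⟨u.2, congrArg Subtype.val h⟩, fun h => Subtype.ext h.2⟩
      have h2 := f.ker.card_mul_index
      rw [Subgroup.index_ker, MonoidHom.range_eq_top.2 hsurj, Subgroup.card_top, hWc, hker,
        Nat.card_congr (Subgroup.subgroupOfEquivOfLe hNK).toEquiv] at h2
      rw [← h2, mul_comm]
    rw [hcEK, hKc] at h1
    have h3 : p ^ 5 * Nat.card N ≤ p ^ 4 * Nat.card N := by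
      calc p ^ 5 * Nat.card N = p ^ 2 * (p ^ 3 * Nat.card N) := by ring
        _ ≤ p ^ 3 * Nat.card Zb := h1
        _ ≤ p ^ 3 * (p * Nat.card N) := Nat.mul_le_mul_left _ hcZb
        _ = p ^ 4 * Nat.card N := by ring
    have := (Nat.pow_le_pow_iff_right hp.out.one_lt).1 (Nat.le_of_mul_le_mul_right h3 Nat.card_pos)
    omega
  refine hvZ (hWfix _ (hL.mem _ (hEpow v hv)) fun y hy => cm_eq_one_iff.1 ?_)
  obtain ⟨-, he⟩ := hL.map_cm (hEpow v hv) hy hWE
  rw [← he]
  refine ((hL.ker _).1 ?_).2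
  rw [← QuotientGroup.eq_one_iff]
  set π := QuotientGroup.mk' N
  show π (cm (v ^ p) y) = 1
  have hc := hcmZb v hv y hy
  have hcv : Commute (π (cm v y)) (π v) := mk_cm_eq_one_iff.2 ((hL.ker _).2
    ⟨(hL.map_cm hc.1 hv hWE).1, by
      rw [(hL.map_cm hc.1 hv hWE).2, cm_eq_one_iff.2 (hZc _ hc.2 v)]⟩)
  have h1 := cm_pow_left (a := π v) (b := π y) (by rw [← RankThree.map_cm π]; exact hcv) (p : ℤ)
  rw [zpow_natCast, zpow_natCast, ← _root_.map_pow, ← RankThree.map_cm π, ← RankThree.map_cm π,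
    ← _root_.map_pow] at h1
  rw [h1]
  exact (QuotientGroup.eq_one_iff _).2
    ((hL.ker _).2 ⟨pow_mem hc.1 p, by rw [hL.map_pow hc.1, hWel.2 _ (hL.mem _ hc.1)]⟩)

end Cfsg.Agent.Fusion.RankThree.Normal
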