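import Cfsg.Agent.Lib.Fusion.RankThree.Normal.PairShape

/-!
The configuration in which every block lies in every essential subgroup.
-/

set_option autoImplicit false
set_option linter.unusedSectionVars false
set_option linter.style.haveILetI false

namespace Cfsg.Agent.Fusion.RankThree.Normal

open Cfsg Cfsg.FusionSystem
open Cfsg.Agent.Fusion Cfsg.Agent.Fusion.Basic Cfsg.Agent.Fusion.Saturation
open Cfsg.Agent.Fusion.RankThree
open Subgroup (zpowers closure mem_zpowers mem_zpowers_iff normalizer)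

variable {X : Type*} [Group X] [Finite X] {p : ℕ} [hp : Fact p.Prime] {F : FusionSystem (⊤ : Subgroup X)}
  {E E1 : Subgroup X}

/-- All blocks lie in all essential subgroups, and `E1` moves the centre. -/
structure Conf (p : ℕ) (F : FusionSystem (⊤ : Subgroup X)) (E1 E : Subgroup X) : Prop where
  moved : Moved p F E1
  two : Two p F E1 E
  sub : omegaZ p E1 ≤ E
  sub' : omegaZ p E ≤ E1

section

variable (hH : Hyp p F) (hC : Conf p F E1 E)
include hH hC

theorem Conf.block_le : omegaZ p E1 ≤ E ⊓ E1 := le_inf hC.sub omegaZ_le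

theorem Conf.mem_omegaX_of_comm {u e : X} (hu : u ∈ omegaZ p E1) (he : e ∈ E) (he1 : e ∉ E1)
    (h : Commute u e) : u ∈ omegaX p X :=
  haveI := hC.two.leftN
  mem_omegaX hH hC.two.left hu he1 h

theorem Conf.exists_moving {e : X} (he : e ∈ E) (he1 : e ∉ E1) :
    ∃ u ∈ omegaZ p E1, u ∉ omegaX p X ∧ ¬ Commute u e := by
  haveI := hC.two.leftN
  obtain ⟨u, hu, huX⟩ := SetLike.exists_of_lt (omegaX_lt hH hC.moved)
  exact ⟨u, hu, huX, fun h => huX (hC.mem_omegaX_of_comm hH hu he he1 h)⟩

theorem Conf.comm_iff {e : X} (he : e ∈ E) :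
    (∀ u ∈ omegaZ p E1, Commute u e) ↔ e ∈ E ⊓ E1 := by
  refine ⟨fun h => ⟨he, ?_⟩, fun h u hu => hu.2.2 e h.2⟩
  by_contra he1
  obtain ⟨u, hu, -, hne⟩ := hC.exists_moving hH he he1
  exact hne (h u hu)

end

end Cfsg.Agent.Fusion.RankThree.Normal
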