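import Cfsg.Agent.Lib.Fusion.RankThree.Normal.Index
import Cfsg.Agent.Lib.Fusion.Normal

/-!
Fusion systems of sectional rank three in which every essential subgroup is normal: the automorphism
group of an essential subgroup and a pair of its `p`-elements.
-/

set_option autoImplicit false
set_option linter.unusedSectionVars false
set_option linter.style.haveILetI false

namespace Cfsg.Agent.Fusion.RankThree.Normal

open Cfsg Cfsg.FusionSystem
open Cfsg.Agent.Fusion Cfsg.Agent.Fusion.Basic Cfsg.Agent.Fusion.Saturation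
open Cfsg.Agent.Fusion.RankThree
open Subgroup (zpowers closure mem_zpowers mem_zpowers_iff normalizer)

variable {X : Type*} [Group X] [Finite X] {p : ℕ} [hp : Fact p.Prime] {F : FusionSystem (⊤ : Subgroup X)}
  {E : Subgroup X}

/-- The standing hypotheses. -/
structure Hyp (p : ℕ) (F : FusionSystem (⊤ : Subgroup X)) : Prop where
  grp : IsPGroup p X
  odd : p ≠ 2
  sat : F.IsSaturated p
  rank : SectionalPRankLE p 3 X
  nrk : ¬ SectionalPRankLE p 2 X
  core : ∀ Q, F.IsNormal Q → Q = ⊥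

/-- A subgroup invariant under the automizer. -/
def AInv (F : FusionSystem (⊤ : Subgroup X)) (E U : Subgroup X) : Prop :=
  U ≤ E ∧ ∀ a ∈ F.autGroup E, ∀ v ∈ U, autFun a v ∈ U

/-- Conjugation, as an automorphism of `E`. -/
noncomputable def cA (E : Subgroup X) (g : X) : MulAut E :=
  open Classical in if h : g ∈ normalizer (E : Set X) then E.normalizerMonoidHom ⟨g, h⟩ else 1

theorem cA_eq [E.Normal] (g : X) : cA E g = MulAut.conjNormal g := by
  rw [cA, dif_pos (Subgroup.normalizer_eq_top (H := E) ▸ Subgroup.mem_top g)]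
  exact MulEquiv.ext fun v => Subtype.ext rfl

theorem cA_apply [E.Normal] (g : X) {v : X} (hv : v ∈ E) : autFun (cA E g) v = g * v * g⁻¹ := by
  rw [cA_eq, autFun_of_mem _ hv]; rfl

theorem cA_mul [E.Normal] (g h : X) : cA E (g * h) = cA E g * cA E h := by
  simp only [cA_eq, map_mul]

theorem cA_zpow [E.Normal] (g : X) (n : ℤ) : cA E (g ^ n) = cA E g ^ n := by
  simp only [cA_eq, map_zpow]

theorem cA_mem_induced [E.Normal] (g : X) : cA E g ∈ autInducedBy (⊤ : Subgroup X) E :=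
  mem_autInducedBy_iff'.2 ⟨g, ⟨Subgroup.mem_top g, Subgroup.normalizer_eq_top (H := E) ▸ Subgroup.mem_top g⟩,
    fun _ hv => cA_apply g hv⟩

theorem cA_mem [E.Normal] (g : X) : cA E g ∈ F.autGroup E :=
  autInducedBy_le le_top (cA_mem_induced g)

theorem exists_of_induced [E.Normal] {r : MulAut E} (hr : r ∈ autInducedBy (⊤ : Subgroup X) E) :
    ∃ g, r = cA E g := by
  obtain ⟨g, -, he⟩ := mem_autInducedBy_iff'.1 hr
  exact ⟨g, autFun_ext fun v hv => by rw [he v hv, cA_apply g hv]; rfl⟩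

theorem AInv.normal [E.Normal] {U : Subgroup X} (h : AInv F E U) : U.Normal :=
  ⟨fun v hv g => by have := h.2 _ (cA_mem g) v hv; rwa [cA_apply g (h.1 hv)] at this⟩

theorem AInv.mem_iff {U : Subgroup X} (h : AInv F E U) {a : MulAut E} (ha : a ∈ F.autGroup E) {v : X} :
    autFun a v ∈ U ↔ v ∈ U := by
  refine ⟨fun hv => ?_, h.2 a ha v⟩
  have := h.2 a⁻¹ (inv_mem ha) _ hv
  rwa [autFun_inv_apply] at this

theorem AInv.inf {U V : Subgroup X} (hU : AInv F E U) (hV : AInv F E V) : AInv F E (U ⊓ V) :=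
  ⟨inf_le_left.trans hU.1, fun a ha v hv => ⟨hU.2 a ha v hv.1, hV.2 a ha v hv.2⟩⟩

theorem ainv_self : AInv F E E := ⟨le_rfl, fun a _ _ hv => autFun_mem a hv⟩

theorem AInv.closure {s : Set X} (hs : ∀ v ∈ s, v ∈ E)
    (h : ∀ a ∈ F.autGroup E, ∀ v ∈ s, autFun a v ∈ Subgroup.closure s) :
    AInv F E (Subgroup.closure s) := by
  refine ⟨(Subgroup.closure_le E).2 hs, fun a ha v hv => ?_⟩
  induction hv using Subgroup.closure_induction with
  | mem v hv => exact h a ha v hv
  | one => rw [af_one']; exact one_mem _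
  | mul u v hu hv ihu ihv =>
    rw [af_mul a ((Subgroup.closure_le E).2 hs hu) ((Subgroup.closure_le E).2 hs hv)]
    exact mul_mem ihu ihv
  | inv u hu ihu => rw [af_inv a ((Subgroup.closure_le E).2 hs hu)]; exact inv_mem ihu

theorem AInv.sup {U V : Subgroup X} (hU : AInv F E U) (hV : AInv F E V) : AInv F E (U ⊔ V) := by
  rw [← Subgroup.closure_eq U, ← Subgroup.closure_eq V, ← Subgroup.closure_union]
  refine AInv.closure (fun v hv => hv.elim (fun h => hU.1 h) fun h => hV.1 h) fun a ha v hv => ?_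
  exact Subgroup.subset_closure (hv.imp (hU.2 a ha v) (hV.2 a ha v))

theorem ainv_phi : AInv F E (phi p E) := by
  refine AInv.closure ?_ fun a _ v hv => ?_
  · rintro v (⟨u, hu, rfl⟩ | ⟨u, hu, w, hw, rfl⟩)
    · exact pow_mem hu p
    · exact mul_mem (mul_mem (mul_mem (inv_mem hu) (inv_mem hw)) hu) hw
  · rcases hv with ⟨u, hu, rfl⟩ | ⟨u, hu, w, hw, rfl⟩
    · show autFun a (u ^ p) ∈ _
      rw [af_pow a hu]
      exact pow_mem_phi (autFun_mem a hu)
    · rw [af_cm a hu hw]
      exact cm_mem_phi (autFun_mem a hu) (autFun_mem a hw)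

/-! ### Basic facts on an essential subgroup -/

section Ess

variable (hH : Hyp p F) (hE : F.IsEssential p E)
include hH hE

theorem centralizer_le {g : X} (hg : ∀ v ∈ E, Commute v g) : g ∈ E :=
  centric_centralizerIn_le hE.1 ⟨Subgroup.mem_top g, fun v hv => hg v hv⟩

variable [hEn : E.Normal]
include hEn

theorem index_p : E.index = p := index_eq hH.grp hH.rank hH.sat hE

theorem sup_eq_top {y : X} (hy : y ∉ E) : E ⊔ zpowers y = ⊤ := by
  refine Subgroup.eq_top_of_le_card _ ?_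
  rw [← E.card_mul_index, index_p hH hE, mul_comm]
  exact mul_card_le_sup hH.grp hy

theorem decomp {y : X} (hy : y ∉ E) (g : X) : ∃ v ∈ E, ∃ n : ℤ, g = v * y ^ n := by
  obtain ⟨v, hv, w, hw, rfl⟩ :=
    Subgroup.mem_sup_of_normal_left.1 ((sup_eq_top hH hE hy).ge (Subgroup.mem_top g))
  obtain ⟨n, rfl⟩ := mem_zpowers_iff.1 hw
  exact ⟨v, hv, n, rfl⟩

theorem cA_inn_iff {g : X} : cA E g ∈ Inn E ↔ g ∈ E := by
  refine ⟨fun h => ?_, fun h => mem_inn_iff.2 ⟨g, h, fun v hv => by rw [cA_apply g hv]; rfl⟩⟩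
  obtain ⟨n, hn, hne⟩ := mem_inn_iff.1 h
  have h1 : n⁻¹ * g ∈ E := centralizer_le hH hE fun v hv => by
    have h2 := hne v hv
    rw [cA_apply g hv, cj_apply] at h2
    show v * (n⁻¹ * g) = n⁻¹ * g * v
    calc v * (n⁻¹ * g) = n⁻¹ * (n * v * n⁻¹) * g := by group
      _ = n⁻¹ * (g * v * g⁻¹) * g := by rw [h2]
      _ = n⁻¹ * g * v := by group
  simpa using E.mul_mem hn h1

theorem induced_le_of {K : Subgroup (MulAut E)} {y : X} (hy : y ∉ E) (hi : Inn E ≤ K)
    (hK : cA E y ∈ K) : autInducedBy (⊤ : Subgroup X) E ≤ K := by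
  intro r hr
  obtain ⟨g, rfl⟩ := exists_of_induced hr
  obtain ⟨v, hv, n, rfl⟩ := decomp hH hE hy g
  rw [cA_mul, cA_zpow]
  exact mul_mem (hi ((cA_inn_iff hH hE).2 hv)) (zpow_mem hK n)

theorem exists_sylow : ∃ R : Sylow p (F.autGroup E),
    (R : Subgroup (F.autGroup E)) = (autInducedBy (⊤ : Subgroup X) E).subgroupOf (F.autGroup E) :=
  (fullyNormalized_fullyAutomized (hH.grp.to_subgroup ⊤) hH.sat hE.2.1).2

/-- Elements of `p`-groups. -/
theorem exists_pow_cA (g : X) : ∃ k : ℕ, cA E g ^ p ^ k = 1 := by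
  obtain ⟨k, hk⟩ := hH.grp g
  exact ⟨k, by rw [cA_eq, ← map_pow, hk, map_one]⟩

/-- Members of normal `p`-subgroups of the automizer are inner. -/
theorem mem_inn_of_normal {K : Subgroup (MulAut E)} (hK : K ≤ F.autGroup E) (hp' : IsPGroup p K)
    (hn : ∀ a ∈ F.autGroup E, ∀ k ∈ K, a * k * a⁻¹ ∈ K) : K ≤ Inn E := by
  intro k hk
  have hN : (K.subgroupOf (F.autGroup E)).Normal :=
    ⟨fun b hb a => Subgroup.mem_subgroupOf.2 (by simpa using hn a a.2 b (Subgroup.mem_subgroupOf.1 hb))⟩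
  refine EssentialShape.mem_inn_of_mem_pCore hE (hH.grp.to_subgroup ⊤) (α := ⟨k, hK hk⟩) ?_
  exact le_sSup (show K.subgroupOf (F.autGroup E) ∈ {N : Subgroup (F.autGroup E) | N.Normal ∧ IsPGroup p N}
    from ⟨hN, hp'.comap_subtype⟩) (Subgroup.mem_subgroupOf.2 hk)

/-- A `p`-subgroup normalised by an outer conjugation is induced by the group. -/
theorem le_induced {x : X} (hx : x ∉ E) {K : Subgroup (MulAut E)} (hK : K ≤ F.autGroup E)
    (hp' : IsPGroup p K) (hn : ∀ k ∈ K, cA E x * k * (cA E x)⁻¹ ∈ K) :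
    K ≤ autInducedBy (⊤ : Subgroup X) E := by
  set A := F.autGroup E with hA
  obtain ⟨R, hR⟩ : ∃ R : Sylow p A, (R : Subgroup A) = (autInducedBy (⊤ : Subgroup X) E).subgroupOf A :=
    exists_sylow hH hE
  haveI hInn : ((Inn E).subgroupOf A).Normal := Alperin.inn_normal F E
  set M : Subgroup A := K.subgroupOf A ⊔ (Inn E).subgroupOf A with hM
  have hip : IsPGroup p ((Inn E).subgroupOf A) := by
    refine IsPGroup.comap_of_injective ?_ _ Subtype.val_injective
    exact (hH.grp.to_subgroup E).of_surjective _ (MulAut.conj : E →* MulAut E).rangeRestrict_surjective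
  have hMp : IsPGroup p M := hp'.comap_subtype.to_sup_of_normal_right hip
  -- the normalizer of `M`
  have hxM : (⟨cA E x, cA_mem x⟩ : A) ∈ normalizer (M : Set A) := by
    haveI : Finite A := Finite.of_injective (fun a : A => (((a : MulAut E) : E → E)))
      (fun a b h => Subtype.ext (DFunLike.coe_injective h))
    refine mem_normalizer_of_forall fun m hm => ?_
    rw [hM, Subgroup.mem_sup_of_normal_right] at hm
    obtain ⟨k, hk, i, hi, rfl⟩ := hm
    have e : (⟨cA E x, cA_mem x⟩ : A) * (k * i) * (⟨cA E x, cA_mem x⟩ : A)⁻¹ =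
        ((⟨cA E x, cA_mem x⟩ : A) * k * (⟨cA E x, cA_mem x⟩ : A)⁻¹) *
          ((⟨cA E x, cA_mem x⟩ : A) * i * (⟨cA E x, cA_mem x⟩ : A)⁻¹) := by group
    rw [e]
    exact mul_mem (Subgroup.mem_sup_left (Subgroup.mem_subgroupOf.2 (by
      simpa using hn _ (Subgroup.mem_subgroupOf.1 hk)))) (Subgroup.mem_sup_right (hInn.conj_mem i hi _))
  have hRN : (R : Subgroup A) ≤ normalizer (M : Set A) := by
    intro r hr
    rw [hR, Subgroup.mem_subgroupOf] at hr
    have hle : autInducedBy (⊤ : Subgroup X) E ≤ (normalizer (M : Set A)).map A.subtype := by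
      refine induced_le_of hH hE hx (fun i hi => ?_) ⟨_, hxM, rfl⟩
      exact ⟨⟨i, inn_le_autGroup le_top hi⟩,
        Subgroup.le_normalizer (Subgroup.mem_sup_right (Subgroup.mem_subgroupOf.2 hi)), rfl⟩
    obtain ⟨r', hr', he⟩ := hle hr
    rwa [← Subtype.ext (show (r' : MulAut E) = r from he)]
  have hsup : IsPGroup p (M ⊔ (R : Subgroup A) : Subgroup A) :=
    hMp.to_sup_of_normal_left' R.2 hRN
  have heq := R.3 hsup le_sup_right
  intro k hk
  have h1 : (⟨k, hK hk⟩ : A) ∈ M ⊔ (R : Subgroup A) :=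
    Subgroup.mem_sup_left (Subgroup.mem_sup_left (Subgroup.mem_subgroupOf.2 hk))
  rw [heq, hR, Subgroup.mem_subgroupOf] at h1
  exact h1

/-- Some conjugate of an outer conjugation is not induced by the group. -/
theorem exists_conj {x : X} (hx : x ∉ E) :
    ∃ g ∈ F.autGroup E, g * cA E x * g⁻¹ ∉ autInducedBy (⊤ : Subgroup X) E := by
  by_contra hcon
  push Not at hcon
  obtain ⟨R, hR⟩ := exists_sylow hH hE
  refine hx ((cA_inn_iff hH hE).1 (mem_inn_of_normal hH hE (autInducedBy_le le_top)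
    (isPGroup_autInducedBy (hH.grp.to_subgroup ⊤)) (fun a ha k hk => ?_) (cA_mem_induced x)))
  have hle : autInducedBy (⊤ : Subgroup X) E ≤
      (autInducedBy (⊤ : Subgroup X) E).comap (MulAut.conj a).toMonoidHom := by
    refine induced_le_of hH hE hx (fun i hi => ?_) (hcon a ha)
    have h1 := (Alperin.inn_normal F E).conj_mem ⟨i, inn_le_autGroup le_top hi⟩
      (Subgroup.mem_subgroupOf.2 hi) ⟨a, ha⟩
    exact inn_le_autInducedBy le_top (Subgroup.mem_subgroupOf.1 h1)
  exact hle hk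

variable {x : X} (hx : x ∉ E) {g : MulAut E} (hg : g ∈ F.autGroup E)
  (hgR : g * cA E x * g⁻¹ ∉ autInducedBy (⊤ : Subgroup X) E)
include hx hg hgR

/-- A `p`-subgroup normalised by both members of the pair is inner. -/
theorem pgroup_le_inn {K : Subgroup (MulAut E)} (hK : K ≤ F.autGroup E) (hp' : IsPGroup p K)
    (h1 : ∀ k ∈ K, cA E x * k * (cA E x)⁻¹ ∈ K)
    (h2 : ∀ k ∈ K, g * cA E x * g⁻¹ * k * (g * cA E x * g⁻¹)⁻¹ ∈ K) : K ≤ Inn E := by
  intro k hk
  have hkR := le_induced hH hE hx hK hp' h1 hk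
  set K' : Subgroup (MulAut E) := K.comap (MulAut.conj g).toMonoidHom with hK'
  have hmem : ∀ m, m ∈ K' ↔ g * m * g⁻¹ ∈ K := fun m => Iff.rfl
  have hK'A : K' ≤ F.autGroup E := fun m hm => by
    have := mul_mem (mul_mem (inv_mem hg) (hK ((hmem m).1 hm))) hg
    simpa [mul_assoc] using this
  have hkR' : g⁻¹ * k * g ∈ autInducedBy (⊤ : Subgroup X) E := by
    refine le_induced hH hE hx hK'A (hp'.comap_of_injective _ (MulAut.conj g).injective) (fun m hm => ?_)
      ((hmem _).2 (by simpa [mul_assoc] using hk))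
    rw [hmem]
    have := h2 _ ((hmem m).1 hm)
    simpa [mul_assoc] using this
  obtain ⟨y, rfl⟩ := exists_of_induced hkR
  refine (cA_inn_iff hH hE).2 ?_
  by_contra hy
  refine hgR ?_
  have hle : autInducedBy (⊤ : Subgroup X) E ≤
      (autInducedBy (⊤ : Subgroup X) E).comap (MulAut.conj g⁻¹).toMonoidHom := by
    refine induced_le_of hH hE hy (fun i hi => ?_) (by simpa using hkR')
    have h3 := (Alperin.inn_normal F E).conj_mem ⟨i, inn_le_autGroup le_top hi⟩
      (Subgroup.mem_subgroupOf.2 hi) ⟨g, hg⟩⁻¹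
    exact inn_le_autInducedBy le_top (Subgroup.mem_subgroupOf.1 h3)
  haveI : Finite (autInducedBy (⊤ : Subgroup X) E) :=
    Finite.of_injective (fun a => ((a : MulAut E) : E → E)) fun a b h => Subtype.ext (DFunLike.coe_injective h)
  have hN : g⁻¹ ∈ normalizer (autInducedBy (⊤ : Subgroup X) E : Set (MulAut E)) :=
    mem_normalizer_of_forall fun m hm => hle hm
  have hN' := (Subgroup.mem_normalizer_iff.1 (inv_mem hN) (cA E x)).1 (cA_mem_induced x)
  simpa using hN'

theorem pair_not_pgroup : ¬ IsPGroup p (closure ({cA E x, g * cA E x * g⁻¹} : Set (MulAut E))) := by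
  intro hp'
  have hb : g * cA E x * g⁻¹ ∈ closure ({cA E x, g * cA E x * g⁻¹} : Set (MulAut E)) :=
    Subgroup.subset_closure (Or.inr rfl)
  have ha : cA E x ∈ closure ({cA E x, g * cA E x * g⁻¹} : Set (MulAut E)) :=
    Subgroup.subset_closure (Or.inl rfl)
  refine hgR (le_induced hH hE hx ((Subgroup.closure_le _).2 ?_) hp'
    (fun k hk => mul_mem (mul_mem ha hk) (inv_mem ha)) hb)
  rintro _ (rfl | rfl)
  · exact cA_mem x
  · exact mul_mem (mul_mem hg (cA_mem x)) (inv_mem hg)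

end Ess

end Cfsg.Agent.Fusion.RankThree.Normal
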