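import Cfsg.Agent.Lib.Fusion.RankThree.Normal.Basic

/-!
A normal essential subgroup has index `p` when the sectional rank is at most three.
-/

set_option autoImplicit false
set_option linter.unusedSectionVars false
set_option linter.style.haveILetI false

namespace Cfsg.Agent.Fusion.RankThree.Normal

open Cfsg Cfsg.FusionSystem
open Cfsg.Agent.Fusion Cfsg.Agent.Fusion.Basic Cfsg.Agent.Fusion.Saturation
open Cfsg.Agent.Fusion.RankThree
open Subgroup (normalizer zpowers mem_zpowers mem_zpowers_iff)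

variable {X : Type*} [Group X] [Finite X] {p : ℕ} [hp : Fact p.Prime] {F : FusionSystem (⊤ : Subgroup X)}
  {E : Subgroup X}

/-- A `p`-group of automorphisms of a small elementary group has order at most `p`. -/
theorem card_le_of_small {W : Type*} [CommGroup W] [Finite W] (hWp : ∀ w : W, w ^ p = 1)
    (hW : Nat.card W ≤ p ^ 2) {A : Subgroup (MulAut W)} (hA : IsPGroup p A) : Nat.card A ≤ p := by
  rcases subsingleton_or_nontrivial W with hs | hnt
  · haveI : Subsingleton A := ⟨fun a b => Subtype.ext (MulEquiv.ext fun w => Subsingleton.elim _ _)⟩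
    rw [Nat.card_unique]
    exact hp.out.one_lt.le
  have hWg : IsPGroup p W := LocalFlavell.MaxClass.Linear.isPGroup_of_pow hWp
  -- a common fixed point
  obtain ⟨z, hz, hz1⟩ : ∃ z : W, (∀ a ∈ A, a z = z) ∧ z ≠ 1 := by
    letI : MulAction A W := MulAction.compHom W (A.subtype)
    have hfix : (1 : W) ∈ MulAction.fixedPoints A W := fun a => map_one (a : MulAut W)
    obtain ⟨n, hn⟩ := IsPGroup.iff_card.1 hWg
    have hd : p ∣ Nat.card W := by
      rw [hn]
      refine dvd_pow_self p fun h0 => ?_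
      rw [h0, pow_zero] at hn
      exact absurd hn (Finite.one_lt_card (α := W)).ne'
    obtain ⟨z, hz, hz1⟩ := hA.exists_fixed_point_of_prime_dvd_card_of_fixed_point W hd hfix
    exact ⟨z, fun a ha => hz ⟨a, ha⟩, fun h => hz1 h.symm⟩
  have hzc : Nat.card (zpowers z) = p := by rw [Nat.card_zpowers, orderOf_eq_prime (hWp z) hz1]
  have hidx : (zpowers z).index ≤ p := by
    have h1 := (zpowers z).card_mul_index
    rw [hzc] at h1
    rw [← h1, pow_two] at hW
    exact Nat.le_of_mul_le_mul_left hW hp.out.pos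
  have hstep : ∀ a ∈ A, ∀ w, w⁻¹ * a w ∈ zpowers z := by
    intro a ha w
    obtain ⟨k, hk⟩ := hA ⟨a, ha⟩
    refine EssentialShape.step_fixed (p := p) (D := ⊤) (by rw [Subgroup.relIndex_top_right]; exact hidx)
      (fun x hx => ?_) (fun x _ => Subgroup.mem_top (a x)) (congrArg Subtype.val hk) w (Subgroup.mem_top w)
    obtain ⟨i, rfl⟩ := mem_zpowers_iff.1 hx
    rw [map_zpow, hz a ha]
    exact zpow_mem (mem_zpowers z) i
  by_cases htop : zpowers z = ⊤
  · haveI : Subsingleton A := ⟨fun a b => Subtype.ext (MulEquiv.ext fun w => by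
      obtain ⟨i, rfl⟩ := mem_zpowers_iff.1 (htop.ge (Subgroup.mem_top w))
      rw [map_zpow, map_zpow, hz _ a.2, hz _ b.2])⟩
    rw [Nat.card_unique]
    exact hp.out.one_lt.le
  obtain ⟨v, hv⟩ := SetLike.exists_not_mem_of_ne_top (zpowers z) htop
  have hgen : zpowers z ⊔ zpowers v = ⊤ := by
    refine Subgroup.eq_top_of_le_card _ (hW.trans ?_)
    rw [pow_two]
    calc p * p = p * Nat.card (zpowers z) := by rw [hzc]
      _ ≤ _ := mul_card_le_sup hWg hv
  let f : A → zpowers z := fun a => ⟨v⁻¹ * (a : MulAut W) v, hstep a a.2 v⟩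
  have hf : Function.Injective f := fun a b hab => by
    have h1 : (a : MulAut W) v = (b : MulAut W) v := mul_left_cancel (congrArg Subtype.val hab)
    refine Subtype.ext (MulEquiv.ext fun w => ?_)
    obtain ⟨x, hx, y, hy, rfl⟩ := Subgroup.mem_sup.1 (hgen.ge (Subgroup.mem_top w))
    obtain ⟨i, rfl⟩ := mem_zpowers_iff.1 hx
    obtain ⟨j, rfl⟩ := mem_zpowers_iff.1 hy
    rw [map_mul, map_mul, map_zpow, map_zpow, map_zpow, map_zpow, hz _ a.2, hz _ b.2, h1]
  exact (Nat.card_le_card_of_injective f hf).trans hzc.le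

set_option maxHeartbeats 1600000 in
theorem index_eq (hX : IsPGroup p X) (hsr : SectionalPRankLE p 3 X) (hF : F.IsSaturated p)
    (hE : F.IsEssential p E) [hEn : E.Normal] : E.index = p := by
  have hpp := hp.out
  have hS : IsPGroup p (⊤ : Subgroup X) := hX.to_subgroup ⊤
  have hlt : E < (⊤ : Subgroup X) := Alperin.essential_lt hS hF hE
  haveI hΦn : (phi p (⊤ : Subgroup E)).Normal := phi_normal
  let W := E ⧸ phi p (⊤ : Subgroup E)
  letI : CommGroup W :=
    { (inferInstance : Group W) with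
      mul_comm := fun a b => by
        induction a using QuotientGroup.induction_on with
        | H a => induction b using QuotientGroup.induction_on with
          | H b => exact (mk_cm_eq_one_iff.2 (cm_mem_phi (Subgroup.mem_top a) (Subgroup.mem_top b))).eq }
  set mk := QuotientGroup.mk' (phi p (⊤ : Subgroup E)) with hmkdef
  have hmk1 : ∀ v : E, mk v = 1 ↔ (v : X) ∈ phi p E := fun v => by
    rw [hmkdef, QuotientGroup.mk'_apply, QuotientGroup.eq_one_iff]
    rw [← Subgroup.mem_map_iff_mem E.subtype_injective (K := phi p (⊤ : Subgroup E)), phi_map,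
      ← MonoidHom.range_eq_map, Subgroup.range_subtype]
    rfl
  have hmkeq : ∀ a b : E, mk a = mk b ↔ (a : X)⁻¹ * b ∈ phi p E := fun a b => by
    rw [← Subgroup.coe_inv, ← Subgroup.coe_mul, ← hmk1, map_mul, map_inv, inv_mul_eq_one]
  have hWp : ∀ w : W, w ^ p = 1 := fun w => by
    obtain ⟨v, rfl⟩ := QuotientGroup.mk'_surjective _ w
    rw [← map_pow, hmk1, SubgroupClass.coe_pow]
    exact pow_mem_phi v.2
  have hEp : IsPGroup p E := hX.to_subgroup E
  haveI hΦXn : (phi p E).Normal := phi_normal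
  have hWr : Nat.card W = (phi p E).relIndex E := by
    show Nat.card (E ⧸ phi p (⊤ : Subgroup E)) = _
    rw [← Subgroup.index_eq_card]
    show _ = ((phi p E).subgroupOf E).index
    congr 1
    ext v
    rw [Subgroup.mem_subgroupOf, ← hmk1, hmkdef, QuotientGroup.mk'_apply, QuotientGroup.eq_one_iff]
  obtain ⟨r, hr⟩ : ∃ r, Nat.card W = p ^ r :=
    IsPGroup.iff_card.1 (LocalFlavell.MaxClass.Linear.isPGroup_of_pow hWp)
  have hr3 : r ≤ 3 := by
    have h1 := RankThree.relIndex_le hsr (N := phi p E) (A := E)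
      (fun a ha b hb => cm_mem_phi ha hb) (fun a ha => pow_mem_phi ha)
    rw [← hWr, hr] at h1
    exact (Nat.pow_le_pow_iff_right hpp.one_lt).1 h1
  set A := F.autGroup E with hAdef
  have hA0 : E ≤ (⊤ : Subgroup X) := le_top
  have hmapΦ : ∀ α : MulAut E, (phi p (⊤ : Subgroup E)).map α.toMonoidHom = phi p (⊤ : Subgroup E) :=
    fun α => by rw [phi_map, Subgroup.map_top_of_surjective _ α.surjective]
  let ρ0 : MulAut E →* MulAut W :=
    { toFun := fun α => QuotientGroup.congr _ _ α (hmapΦ α)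
      map_one' := MulEquiv.ext fun w => by
        induction w using QuotientGroup.induction_on with
        | H w => rfl
      map_mul' := fun α β => MulEquiv.ext fun w => by
        induction w using QuotientGroup.induction_on with
        | H w => rfl }
  let ρ : A →* MulAut W := ρ0.comp A.subtype
  set Xb := ρ.range
  let ρ' : A →* Xb := ρ.rangeRestrict
  have hρ' : Function.Surjective ρ' := MonoidHom.rangeRestrict_surjective ρ
  have hρ'v : ∀ (α : A) (v : E), ((ρ' α : Xb) : MulAut W) (mk v) = mk ((α : MulAut E) v) := fun α v => rfl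
  have hker : ∀ α : A, ρ' α = 1 → (α : MulAut E) ∈ Inn E := by
    intro α hα
    obtain ⟨n, hn⟩ := IsPGroup.iff_card.1 hEp
    have hk : IsPGroup p ρ'.ker := by
      have hdvd := GroupStructure3.FrattiniAut.card_stab_dvd (r := r) hn (by
          rw [frattini_eq_phi hEp, Subgroup.index_eq_card]; exact hr)
        (ρ'.ker.map A.subtype) (fun a ha v => by
          obtain ⟨b, hb, rfl⟩ := ha
          have h1 : ((ρ' b : Xb) : MulAut W) (mk v) = mk v := by
            rw [MonoidHom.mem_ker.1 hb]; rfl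
          rw [hρ'v] at h1
          rw [frattini_eq_phi hEp, ← QuotientGroup.eq_one_iff]
          show mk ((b : MulAut E) v * v⁻¹) = 1
          rw [map_mul, map_inv, h1, mul_inv_cancel])
      rw [Subgroup.card_map_of_injective A.subtype_injective] at hdvd
      obtain ⟨i, -, hi⟩ := (Nat.dvd_prime_pow hpp).1 hdvd
      exact IsPGroup.of_card hi
    refine EssentialShape.mem_inn_of_mem_pCore hE hS ?_
    exact le_sSup (show ρ'.ker ∈ {N : Subgroup A | N.Normal ∧ IsPGroup p N} from ⟨inferInstance, hk⟩) hα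
  have hinn : ∀ α : A, (α : MulAut E) ∈ Inn E → ρ' α = 1 := by
    intro α hα
    obtain ⟨g, hg, hge⟩ := mem_inn_iff.1 hα
    refine Subtype.ext (MulEquiv.ext fun w => ?_)
    obtain ⟨v, rfl⟩ := QuotientGroup.mk'_surjective _ w
    show mk ((α : MulAut E) v) = mk v
    have h1 : (α : MulAut E) v = (⟨g, hg⟩ : E) * v * (⟨g, hg⟩ : E)⁻¹ := Subtype.ext (by
      rw [← autFun_apply, hge v v.2]; rfl)
    rw [h1, map_mul, map_mul, map_inv, mul_comm (mk ⟨g, hg⟩), mul_inv_cancel_right]
  obtain ⟨P0, hP0⟩ := (fullyNormalized_fullyAutomized hS hF hE.2.1).2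
  set P' : Sylow p Xb := P0.mapSurjective hρ'
  have hPmem : ∀ α : A, ρ' α ∈ (P' : Subgroup Xb) ↔ (α : MulAut E) ∈ autInducedBy (⊤ : Subgroup X) E := by
    intro α
    rw [Sylow.coe_mapSurjective, hP0]
    refine ⟨?_, fun h => ⟨α, h, rfl⟩⟩
    rintro ⟨β, hβ, hβe⟩
    have h1 := hker (β⁻¹ * α) (by rw [map_mul, map_inv, hβe, inv_mul_cancel])
    have h2 := mul_mem (show (β : MulAut E) ∈ autInducedBy (⊤ : Subgroup X) E from hβ)
      (inn_le_autInducedBy hA0 h1)
    simpa using h2
  -- conjugation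
  have hcE : ∀ g : X, MulAut.conjNormal (H := E) g ∈ A := fun g =>
    autInducedBy_le hA0 (mem_autInducedBy_iff'.2 ⟨g, ⟨Subgroup.mem_top _,
      (Subgroup.normalizer_eq_top (H := E)).symm ▸ Subgroup.mem_top g⟩, fun v hv => by
        rw [autFun_of_mem _ hv]; rfl⟩)
  let cE : X →* A := (MulAut.conjNormal (H := E)).codRestrict A hcE
  have hcEv : ∀ (g : X) (v : E), (((cE g : A) : MulAut E) v : X) = g * v * g⁻¹ := fun g v => rfl
  let τ : X →* Xb := ρ'.comp cE
  have hτP : τ.range = (P' : Subgroup Xb) := by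
    ext z
    constructor
    · rintro ⟨g, rfl⟩
      exact (hPmem (cE g)).2 (mem_autInducedBy_iff'.2 ⟨g, ⟨Subgroup.mem_top _,
        (Subgroup.normalizer_eq_top (H := E)).symm ▸ Subgroup.mem_top g⟩, fun v hv => by
          rw [autFun_of_mem _ hv]; rfl⟩)
    · intro hz
      obtain ⟨α, rfl⟩ := hρ' z
      obtain ⟨g, hg, hge⟩ := mem_autInducedBy_iff'.1 ((hPmem α).1 hz)
      refine ⟨g, congrArg ρ' (Subtype.ext (autFun_ext fun v hv => ?_))⟩
      rw [hge v hv, autFun_of_mem _ hv, hcEv]; rfl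
  have hτker : τ.ker = E := by
    ext g
    rw [MonoidHom.mem_ker]
    refine ⟨fun h => ?_, fun h => hinn _ (mem_inn_iff.2 ⟨g, h, fun v hv => ?_⟩)⟩
    · obtain ⟨n, hn, hne⟩ := mem_inn_iff.1 (hker _ h)
      have h1 : n⁻¹ * g ∈ E := centric_centralizerIn_le hE.1
        ⟨Subgroup.mem_top _, fun v hv => by
          have h2 := hne v hv
          rw [autFun_of_mem _ hv, hcEv, cj_apply] at h2
          calc v * (n⁻¹ * g) = n⁻¹ * (n * v * n⁻¹) * g := by group
            _ = n⁻¹ * (g * v * g⁻¹) * g := by rw [h2]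
            _ = n⁻¹ * g * v := by group⟩
      simpa using E.mul_mem hn h1
    · rw [autFun_of_mem _ hv, hcEv]; rfl
  have hPc : E.index = Nat.card (P' : Subgroup Xb) := by
    conv_lhs => rw [← hτker]
    rw [Subgroup.index_ker, hτP]
  have hE1 : E.index ≠ 1 := fun h => hlt.ne (Subgroup.index_eq_one.1 h)
  suffices hle : E.index ≤ p by
    obtain ⟨i, hi⟩ := hX.index E
    rw [hi] at hle hE1 ⊢
    have h1 : i ≤ 1 := (Nat.pow_le_pow_iff_right hpp.one_lt).1 (by rwa [pow_one])
    interval_cases i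
    · exact absurd (pow_zero p) hE1
    · exact pow_one p
  rcases Nat.lt_or_ge r 3 with hr2 | hr3'
  · rw [hPc, ← Subgroup.card_map_of_injective Xb.subtype_injective]
    exact card_le_of_small hWp (hr ▸ Nat.pow_le_pow_right hpp.pos (by omega)) (P'.2.map _)
  have hr' : r = 3 := by omega
  subst hr'
  set Y : Subgroup Xb := ((Alperin.extGroup F E).subgroupOf A).map ρ'
  have hY : ∀ B : Subgroup Xb, B ≤ P' → B ≠ ⊥ → normalizer (B : Set Xb) ≤ Y := by
    intro B hB hB1 q hq
    obtain ⟨a, rfl⟩ := hρ' q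
    refine Subgroup.mem_map_of_mem _ (Subgroup.mem_subgroupOf.2 ?_)
    obtain ⟨b', hb', hb'1⟩ := (Subgroup.bot_or_exists_ne_one B).resolve_left hB1
    obtain ⟨b, rfl⟩ := hρ' b'
    obtain ⟨g, hg, hge⟩ := mem_autInducedBy_iff'.1 ((hPmem b).1 (hB hb'))
    have h1 : ρ' (a * b * a⁻¹) ∈ (P' : Subgroup Xb) := by
      rw [map_mul, map_mul, map_inv]
      exact hB ((Subgroup.mem_normalizer_iff.1 hq _).1 hb')
    obtain ⟨h, hh, hhe⟩ := mem_autInducedBy_iff'.1 ((hPmem _).1 h1)
    have haf : IsMap F E (autFun (a : MulAut E)) := isMap_of_mem_autGroup hA0 a.2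
    obtain ⟨θ, hθ, hθe⟩ := exists_extension hS hF haf
      (by rw [autFun_img]; exact fullyNormalized_fullyCentralized hS hF hE.2.1)
    refine Subgroup.subset_closure ⟨_, θ, ?_, hθ, hθe⟩
    refine SetLike.lt_iff_le_and_exists.2 ⟨le_nSub haf, g,
      mem_nSub.2 ⟨Subgroup.mem_top g, hg.2, h, Subgroup.mem_top h, fun v hv => ?_⟩, ?_⟩
    · have h3 := hhe _ (autFun_mem (a : MulAut E) hv)
      rw [Subgroup.coe_mul, Subgroup.coe_mul, Subgroup.coe_inv, autFun_mul, autFun_mul, autFun_inv_apply,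
        hge v hv] at h3
      exact h3
    · intro hgE
      exact hb'1 (hinn b (mem_inn_iff.2 ⟨g, hgE, hge⟩))
  have hYtop : Y ≠ ⊤ := by
    intro e
    refine (Alperin.essential_iff hS hF hlt hE.2.1).1 hE (le_antisymm (Alperin.extGroup_le hA0) fun α hα => ?_)
    obtain ⟨β, hβ, hβe⟩ : ρ' ⟨α, hα⟩ ∈ Y := e ▸ Subgroup.mem_top _
    have h1 := hker (β⁻¹ * ⟨α, hα⟩) (by rw [map_mul, map_inv, hβe, inv_mul_cancel])
    have h2 := mul_mem (show (β : MulAut E) ∈ Alperin.extGroup F E from hβ)
      (Alperin.inn_le_extGroup hlt h1)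
    simpa using h2
  -- an invariant hyperplane
  set π := QuotientGroup.mk' (phi p E) with hπdef
  haveI : (E.map π).Normal := hEn.map _ (QuotientGroup.mk'_surjective _)
  have hWcard : Nat.card (E.map π) = p ^ 3 := by rw [← relIndex_eq_card_map, ← hWr, hr]
  obtain ⟨H0, hH0n, hH0E, hH0c, hH0C⟩ := exists_flag (hX.to_quotient (phi p E)) (W := E.map π) hWcard
  set C := (Subgroup.centralizer (H0 : Set (X ⧸ phi p E))).comap π
  by_cases hCE : C ≤ E
  · refine (Nat.le_of_dvd (Nat.pos_of_ne_zero Subgroup.index_ne_zero_of_finite)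
      (Subgroup.index_dvd_of_le hCE)).trans ?_
    rw [Subgroup.index_comap_of_surjective _ (QuotientGroup.mk'_surjective _)]
    exact hH0C
  obtain ⟨x, hxC, hxE⟩ := SetLike.not_le_iff_exists.1 hCE
  let j : E →* X ⧸ phi p E := π.comp E.subtype
  let jW : W →* X ⧸ phi p E := QuotientGroup.lift _ j fun v hv => by
    rw [MonoidHom.mem_ker]
    exact (QuotientGroup.eq_one_iff _).2 ((hmk1 v).1 ((QuotientGroup.eq_one_iff v).2 hv))
  have hjW : ∀ v : E, jW (mk v) = π v := fun v => rfl
  have hjinj : Function.Injective jW := by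
    rw [injective_iff_map_eq_one]
    intro w hw
    obtain ⟨v, rfl⟩ := QuotientGroup.mk'_surjective _ w
    rw [hjW] at hw
    exact (hmk1 v).2 ((QuotientGroup.eq_one_iff _).1 hw)
  have hjrange : jW.range = E.map π := by
    ext z
    constructor
    · rintro ⟨w, rfl⟩
      obtain ⟨v, rfl⟩ := QuotientGroup.mk'_surjective _ w
      exact ⟨v, v.2, rfl⟩
    · rintro ⟨v, hv, rfl⟩
      exact ⟨mk ⟨v, hv⟩, rfl⟩
  set H := H0.comap jW
  have hHc : Nat.card H = p ^ 2 := by
    rw [← hH0c, ← Subgroup.card_map_of_injective hjinj, Subgroup.map_comap_eq, hjrange,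
      inf_eq_right.2 hH0E]
  set a : Xb := τ x with ha
  have haP : a ∈ (P' : Subgroup Xb) := hτP ▸ ⟨_, rfl⟩
  have ha1 : a ≠ 1 := fun h => hxE (hτker ▸ (h : x ∈ τ.ker))
  have haapp : ∀ v : E, jW ((a : MulAut W) (mk v)) = π x * π v * (π x)⁻¹ := fun v => by
    show jW (mk (((cE x : A) : MulAut E) v)) = _
    rw [hjW, hcEv, map_mul, map_mul, map_inv]
  have haW : ∀ w ∈ H, (a : MulAut W) w = w := by
    intro w hw
    obtain ⟨v, rfl⟩ := QuotientGroup.mk'_surjective _ w
    refine hjinj ?_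
    rw [haapp, hjW]
    have h1 : π v * π x = π x * π v := hxC (π v) hw
    rw [← h1, mul_inv_cancel_right]
  have haQ : ∀ w, (a : MulAut W) w / w ∈ H := by
    intro w
    obtain ⟨k, hk⟩ := P'.2 ⟨a, haP⟩
    have h1 := EssentialShape.step_fixed (p := p) (C := H) (D := ⊤) (by
      rw [Subgroup.relIndex_top_right]
      have h2 := H.card_mul_index
      rw [hHc, hr, pow_succ p 2] at h2
      exact (Nat.eq_of_mul_eq_mul_left (pow_pos hpp.pos 2) h2).le)
      (fun u hu => by rw [haW u hu]; exact hu) (fun u _ => Subgroup.mem_top ((a : MulAut W) u))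
      (α := (a : MulAut W)) (k := k) (congrArg (fun z : (P' : Subgroup Xb) => ((z : Xb) : MulAut W)) hk) w
      (Subgroup.mem_top w)
    rwa [mul_comm, ← div_eq_mul_inv] at h1
  obtain ⟨hPa, u, hu, -, hau, -⟩ :=
    LocalFlavell.MaxClass.Linear.main hWp hr hY hYtop haP ha1 hHc haW haQ
  rw [hPc, hPa, Nat.card_zpowers]
  refine le_of_eq (orderOf_eq_prime (Subtype.ext ?_) ha1)
  have ht : LocalFlavell.MaxClass.Linear.Trans (a : MulAut W) H u := ⟨hu, haW, hau⟩
  simpa using ht.pow_eq hWp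

end Cfsg.Agent.Fusion.RankThree.Normal
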