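import Cfsg.Agent.Lib.Fusion.RankThree.Normal.Basic

/-!
An inversion on an elementary section of order `p ^ 2`.
-/

set_option autoImplicit false
set_option linter.unusedSectionVars false
set_option linter.style.haveILetI false

namespace Cfsg.Agent.Fusion.RankThree.Normal

open Cfsg Cfsg.Agent.Fusion Cfsg.Agent.Fusion.Basic Cfsg.Agent.Fusion.Saturation
open Cfsg.Agent.Fusion.RankThree
open Subgroup (zpowers closure mem_zpowers mem_zpowers_iff)

variable {X : Type*} [Group X] [Finite X] {p : ℕ} [hp : Fact p.Prime] {E : Subgroup X}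

set_option maxHeartbeats 800000 in
/-- Two `p`-elements that do not generate a `p`-group on a section of order `p ^ 2` generate an
inversion of it. -/
theorem exists_inversion_section {N H : Subgroup X} (hN : N ≤ H) (hHE : H ≤ E)
    (hc : ∀ a ∈ H, ∀ b ∈ H, cm a b ∈ N) (hpow : ∀ a ∈ H, a ^ p ∈ N)
    (hcard : Nat.card H = p ^ 2 * Nat.card N) {a b : MulAut E} (haN : ∀ v ∈ N, autFun a v ∈ N)
    (hbN : ∀ v ∈ N, autFun b v ∈ N) (haH : ∀ v ∈ H, autFun a v ∈ H) (hbH : ∀ v ∈ H, autFun b v ∈ H)
    {k l : ℕ} (hak : a ^ p ^ k = 1) (hbl : b ^ p ^ l = 1)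
    (hker : ∀ σ ∈ closure ({a, b} : Set (MulAut E)), (∀ v ∈ H, v⁻¹ * autFun σ v ∈ N) →
      ∃ j : ℕ, σ ^ p ^ j = 1)
    (hne : ¬ IsPGroup p (closure ({a, b} : Set (MulAut E)))) :
    ∃ w ∈ closure ({a, b} : Set (MulAut E)), ∀ v ∈ H, v * autFun w v ∈ N := by
  haveI hn : (N.subgroupOf H).Normal := by
    refine ⟨fun v hv g => ?_⟩
    rw [Subgroup.mem_subgroupOf] at hv ⊢
    have h1 := mul_mem hv (hc v v.2 (g : X)⁻¹ (inv_mem g.2))
    rw [cm_def, show (v : X) * ((v : X)⁻¹ * (g : X)⁻¹⁻¹ * v * (g : X)⁻¹) = g * v * (g : X)⁻¹ by group] at h1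
    simpa using h1
  let Q := H ⧸ N.subgroupOf H
  letI : CommGroup Q :=
    { (inferInstance : Group Q) with
      mul_comm := fun u v => by
        induction u using QuotientGroup.induction_on with
        | H u => induction v using QuotientGroup.induction_on with
          | H v =>
            exact (mk_cm_eq_one_iff.2 (Subgroup.mem_subgroupOf.2 (by
              rw [show ((cm u v : H) : X) = cm (u : X) v from map_cm H.subtype _ _]
              exact hc u u.2 v v.2))).eq }
  set mk := QuotientGroup.mk' (N.subgroupOf H) with hmk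
  have hmkeq : ∀ u v : H, mk u = mk v ↔ (u : X)⁻¹ * v ∈ N := fun u v => by
    rw [hmk, QuotientGroup.mk'_apply, QuotientGroup.mk'_apply, QuotientGroup.eq, Subgroup.mem_subgroupOf]
    rfl
  have hQe : ∀ q : Q, q ^ p = 1 := fun q => by
    obtain ⟨v, rfl⟩ := QuotientGroup.mk'_surjective _ q
    rw [← map_pow, QuotientGroup.mk'_apply, QuotientGroup.eq_one_iff, Subgroup.mem_subgroupOf,
      SubgroupClass.coe_pow]
    exact hpow v v.2
  have hQ2 : Nat.card Q = p ^ 2 := by
    have h1 := (N.subgroupOf H).card_mul_index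
    rw [Nat.card_congr (Subgroup.subgroupOfEquivOfLe hN).toEquiv, hcard, Subgroup.index_eq_card,
      mul_comm] at h1
    exact Nat.eq_of_mul_eq_mul_right Nat.card_pos h1
  set G : Subgroup (MulAut E) := preserve E H ⊓ preserve E N
  have hmap : ∀ σ : G, (N.subgroupOf H).map (restr hHE ⟨σ, σ.2.1⟩).toMonoidHom = N.subgroupOf H := by
    intro σ
    refine Subgroup.eq_of_le_of_card_ge ?_ (by rw [Subgroup.card_map_of_injective (MulEquiv.injective _)])
    rintro _ ⟨v, hv, rfl⟩
    rw [SetLike.mem_coe, Subgroup.mem_subgroupOf] at hv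
    rw [Subgroup.mem_subgroupOf]
    show autFun (σ : MulAut E) v ∈ N
    exact af_mem_preserve σ.2.2 hv
  let res : G →* MulAut Q :=
    { toFun := fun σ => QuotientGroup.congr _ _ (restr hHE ⟨σ, σ.2.1⟩) (hmap σ)
      map_one' := MulEquiv.ext fun q => by
        induction q using QuotientGroup.induction_on with
        | H v =>
          refine congrArg QuotientGroup.mk (Subtype.ext ?_)
          show autFun (1 : MulAut E) v = v
          rw [autFun_one]; rfl
      map_mul' := fun σ τ => MulEquiv.ext fun q => by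
        induction q using QuotientGroup.induction_on with
        | H v =>
          refine congrArg QuotientGroup.mk (Subtype.ext ?_)
          exact autFun_mul _ _ _ }
  have hres : ∀ (σ : G) (v : H), res σ (mk v) = mk ⟨autFun (σ : MulAut E) v, af_mem_preserve σ.2.1 v.2⟩ :=
    fun σ v => rfl
  have hclo : closure ({a, b} : Set (MulAut E)) ≤ G := by
    rw [Subgroup.closure_le]
    rintro _ (rfl | rfl)
    · exact ⟨mem_preserve_of haH, mem_preserve_of haN⟩
    · exact ⟨mem_preserve_of hbH, mem_preserve_of hbN⟩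
  set C := closure ({a, b} : Set (MulAut E))
  let f : C →* MulAut Q := res.comp (Subgroup.inclusion hclo)
  set a' : C := ⟨a, Subgroup.subset_closure (Or.inl rfl)⟩ with ha'
  set b' : C := ⟨b, Subgroup.subset_closure (Or.inr rfl)⟩ with hb'
  have hgen : closure ({a', b'} : Set C) = ⊤ := by
    refine Subgroup.map_injective C.subtype_injective ?_
    rw [MonoidHom.map_closure, Set.image_pair, ← MonoidHom.range_eq_map, Subgroup.range_subtype]
    rfl
  have himg : ∀ σ : C, f σ ∈ closure ({f a', f b'} : Set (MulAut Q)) := fun σ => by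
    rw [← Set.image_pair, ← MonoidHom.map_closure, hgen]
    exact Subgroup.mem_map_of_mem _ (Subgroup.mem_top σ)
  obtain ⟨w, hw, hwv⟩ := Linear.exists_inversion hQe hQ2 (α := f a') (β := f b') (m := k) (n := l)
    (by rw [← map_pow, show a' ^ p ^ k = 1 from Subtype.ext hak, map_one])
    (by rw [← map_pow, show b' ^ p ^ l = 1 from Subtype.ext hbl, map_one]) (fun hp' => hne fun σ => by
      obtain ⟨i, hi⟩ := hp' ⟨f σ, himg σ⟩
      have hi' : f (σ ^ p ^ i) = 1 := by rw [map_pow]; exact congrArg Subtype.val hi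
      obtain ⟨j, hj⟩ := hker _ (σ ^ p ^ i).2 fun v hv => by
        have h1 := hres (Subgroup.inclusion hclo (σ ^ p ^ i)) ⟨v, hv⟩
        change f (σ ^ p ^ i) (mk ⟨v, hv⟩) = _ at h1
        rw [hi', MulAut.one_apply, hmkeq] at h1
        exact h1
      exact ⟨i + j, Subtype.ext (by rw [pow_add, pow_mul, SubgroupClass.coe_pow, hj]; rfl)⟩)
  rw [← Set.image_pair, ← MonoidHom.map_closure, hgen] at hw
  obtain ⟨σ, -, rfl⟩ := hw
  refine ⟨σ, σ.2, fun v hv => ?_⟩
  have h1 := hres (Subgroup.inclusion hclo σ) ⟨v, hv⟩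
  change f σ (mk ⟨v, hv⟩) = _ at h1
  rw [hwv, ← map_inv, hmkeq] at h1
  simpa using h1

end Cfsg.Agent.Fusion.RankThree.Normal
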