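import Cfsg.Agent.Lib.Fusion.RankThree.Normal.CaseInv
import Cfsg.Agent.Lib.Fusion.RankThree.Normal.CaseTower
import Cfsg.Agent.Lib.Fusion.RankThree.Normal.CaseOut

/-!
Saturated fusion systems with trivial core and all essential subgroups normal on a group of
sectional rank three: the group has order `p ^ 4` and a prescribed presentation.
-/

set_option autoImplicit false
set_option linter.unusedSectionVars false
set_option linter.style.haveILetI false

namespace Cfsg.Agent.Fusion.RankThree.Normal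

open Cfsg Cfsg.FusionSystem
open Cfsg.Agent.Fusion Cfsg.Agent.Fusion.Basic Cfsg.Agent.Fusion.Saturation
open Cfsg.Agent.Fusion.RankThree

variable {X : Type*} [Group X] [Finite X] {p : ℕ} [hp : Fact p.Prime] {F : FusionSystem (⊤ : Subgroup X)}

theorem shape (hH : Hyp p F) (hn : ∀ E, F.IsEssential p E → E.Normal) : Shape p F := by
  obtain ⟨E1, hm⟩ := exists_moved hH
  by_cases h : ∃ P Q, F.IsEssential p P ∧ F.IsEssential p Q ∧ ¬ omegaZ p P ≤ Q
  · obtain ⟨P, Q, hP, hQ, hPQ⟩ := h
    exact (pair_shape hH (E1 := P) (E := Q) ⟨hP, hQ, fun h => hPQ (h ▸ omegaZ_le), hn P hP, hn Q hQ⟩ hPQ).1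
  · simp only [not_exists, not_and, not_not] at h
    haveI := hn E1 hm.1
    obtain ⟨E, hE, hne⟩ := exists_other hH hm.1
    have hC : Conf p F E1 E :=
      ⟨hm, ⟨hm.1, hE, hne, hn E1 hm.1, hn E hE⟩, h E1 E hm.1 hE, h E E1 hE hm.1⟩
    exfalso
    by_cases hinv : AInv F E (omegaZ p E1)
    · exact case_inv hH hC hinv
    by_cases hall : ∀ a ∈ F.autGroup E, ∀ u ∈ omegaZ p E1, autFun a u ∈ E ⊓ E1
    · exact case_tower hH hC hinv hall
    · simp only [not_forall] at hall
      obtain ⟨a, ha, u, hu, hout⟩ := hall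
      exact case_out hH hC ha hu hout

end Cfsg.Agent.Fusion.RankThree.Normal
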