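import Cfsg.Agent.Lib.Fusion.RankThree.Normal.Ctx

/-!
Elementary central subgroups of the essential subgroups, and an essential subgroup moving the centre.
-/

set_option autoImplicit false
set_option linter.unusedSectionVars false
set_option linter.style.haveILetI false

namespace Cfsg.Agent.Fusion.RankThree.Normal

open Cfsg Cfsg.FusionSystem
open Cfsg.Agent.Fusion Cfsg.Agent.Fusion.Basic Cfsg.Agent.Fusion.Saturation
open Cfsg.Agent.Fusion.RankThree
open Subgroup (zpowers closure mem_zpowers mem_zpowers_iff normalizer)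

variable {X : Type*} [Group X] [Finite X] {p : ℕ} [hp : Fact p.Prime] {F : FusionSystem (⊤ : Subgroup X)}
  {E : Subgroup X}

/-- The central elements of order dividing `p` of `E`. -/
def omegaZ (p : ℕ) (E : Subgroup X) : Subgroup X where
  carrier := {v | v ∈ E ∧ v ^ p = 1 ∧ ∀ e ∈ E, Commute v e}
  one_mem' := ⟨one_mem _, one_pow p, fun e _ => Commute.one_left e⟩
  mul_mem' := by
    rintro u v ⟨hu, hup, huc⟩ ⟨hv, hvp, hvc⟩
    exact ⟨mul_mem hu hv, by rw [(huc v hv).mul_pow, hup, hvp, one_mul],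
      fun e he => (huc e he).mul_left (hvc e he)⟩
  inv_mem' := by
    rintro u ⟨hu, hup, huc⟩
    exact ⟨inv_mem hu, by rw [inv_pow, hup, inv_one], fun e he => (huc e he).inv_left⟩

theorem mem_omegaZ {v : X} : v ∈ omegaZ p E ↔ v ∈ E ∧ v ^ p = 1 ∧ ∀ e ∈ E, Commute v e := Iff.rfl

theorem elem_omegaZ : Elem p (omegaZ p E) :=
  ⟨fun _ ha b hb => ha.2.2 b hb.1, fun _ ha => ha.2.1⟩

theorem omegaZ_le : omegaZ p E ≤ E := fun _ h => h.1

theorem ainv_omegaZ : AInv F E (omegaZ p E) := by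
  refine ⟨omegaZ_le, fun a _ v hv => ⟨autFun_mem a hv.1, ?_, fun e he => ?_⟩⟩
  · rw [← af_pow a hv.1, hv.2.1, af_one']
  · rw [← autFun_apply_inv a e]
    have he' := autFun_mem a⁻¹ he
    show _ * _ = _ * _
    rw [← af_mul a hv.1 he', ← af_mul a he' hv.1, (hv.2.2 _ he').eq]

/-- The elements of order dividing `p` in the centre. -/
abbrev omegaX (p : ℕ) (X : Type*) [Group X] [Finite X] : Subgroup X := omegaZ p (⊤ : Subgroup X)

theorem omegaX_ne_bot (hX : IsPGroup p X) (hnt : (⊤ : Subgroup X) ≠ ⊥) : omegaX p X ≠ ⊥ := by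
  haveI : Nontrivial X := by
    rw [← not_subsingleton_iff_nontrivial]
    intro h
    exact hnt ((Subgroup.eq_bot_iff_forall _).2 fun v _ => Subsingleton.elim v 1)
  haveI := hX.center_nontrivial
  obtain ⟨z, hz⟩ := exists_prime_orderOf_dvd_card' (G := Subgroup.center X) p (by
    obtain ⟨n, hn⟩ := IsPGroup.iff_card.1 (hX.to_subgroup (Subgroup.center X))
    rw [hn]
    refine dvd_pow_self p fun h0 => ?_
    rw [h0, pow_zero] at hn
    exact absurd hn Finite.one_lt_card.ne')
  intro h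
  have hmem : (z : X) ∈ omegaX p X := ⟨Subgroup.mem_top _, by
    rw [← SubgroupClass.coe_pow, ← hz, pow_orderOf_eq_one]; rfl,
    fun e _ => (Subgroup.mem_center_iff.1 z.2 e).symm⟩
  rw [h, Subgroup.mem_bot] at hmem
  have : orderOf z = 1 := orderOf_eq_one_iff.2 (Subtype.ext hmem)
  rw [hz] at this
  exact hp.out.ne_one this

theorem exists_essential (hH : Hyp p F) : ∃ E, F.IsEssential p E := by
  by_contra hcon
  push Not at hcon
  have htop : (⊤ : Subgroup X) ≠ ⊥ := fun h => hH.nrk (fun H N _ A _ _ => by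
    haveI : Subsingleton X := ⟨fun a b => by
      rw [Subgroup.mem_bot.1 (h.le (Subgroup.mem_top a)), Subgroup.mem_bot.1 (h.le (Subgroup.mem_top b))]⟩
    haveI : Subsingleton (H ⧸ N) := Quot.Subsingleton
    rw [Nat.card_unique]
    exact Nat.one_le_pow _ _ hp.out.pos)
  refine htop (hH.core ⊤ (Normal.normal_of_invariant (hH.grp.to_subgroup ⊤) hH.sat fun P hP => ?_))
  rcases hP with rfl | hP
  · exact ⟨le_rfl, fun α _ => autFun_img α⟩
  · exact (hcon P hP).elim

section Ess

variable (hH : Hyp p F) (hE : F.IsEssential p E)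
include hH hE

theorem omegaX_le : omegaX p X ≤ omegaZ p E := fun v hv =>
  ⟨centralizer_le hH hE fun e _ => (hv.2.2 e (Subgroup.mem_top e)).symm, hv.2.1,
    fun e _ => hv.2.2 e (Subgroup.mem_top e)⟩

variable [hEn : E.Normal]
include hEn

theorem mem_omegaX {u x : X} (hu : u ∈ omegaZ p E) (hx : x ∉ E) (hc : Commute u x) : u ∈ omegaX p X := by
  refine ⟨Subgroup.mem_top u, hu.2.1, fun e _ => ?_⟩
  obtain ⟨v, hv, n, rfl⟩ := decomp hH hE hx e
  exact (hu.2.2 v hv).mul_right (hc.zpow_right n)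

/-- The fixed points of an outer conjugation on a central invariant subgroup are invariant when it
stabilises an invariant series of length two. -/
theorem fixed_inv {x : X} {U I : Subgroup X} (hx : x ∉ E) (hU : AInv F E U) (hI : AInv F E I)
    (hIU : I ≤ U) (hUc : ∀ u ∈ U, ∀ e ∈ E, Commute u e) (h1 : ∀ v ∈ I, Commute v x)
    (h2 : ∀ u ∈ U, u⁻¹ * (x * u * x⁻¹) ∈ I) {a : MulAut E} (ha : a ∈ F.autGroup E) {u : X}
    (hu : u ∈ U) (hux : Commute u x) : Commute (autFun a u) x := by
  set A := F.autGroup E with hA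
  obtain ⟨R, hR⟩ : ∃ R : Sylow p A, (R : Subgroup A) = (autInducedBy (⊤ : Subgroup X) E).subgroupOf A :=
    exists_sylow hH hE
  have hAp : A ≤ preserve E U := fun b hb => mem_preserve_of (hU.2 b hb)
  let ρ : A →* MulAut U := (restr hU.1).comp (Subgroup.inclusion hAp)
  have hρ : ∀ (b : A), ∀ v ∈ U, autFun (ρ b) v = autFun (b : MulAut E) v := fun b v hv =>
    restr_apply hU.1 _ hv
  let ρ' : A →* ρ.range := ρ.rangeRestrict
  set P := R.mapSurjective (MonoidHom.rangeRestrict_surjective ρ) with hP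
  -- the stabiliser of the series
  let St : MulAut E → Prop := fun b =>
    (∀ v ∈ I, autFun b v = v) ∧ ∀ v ∈ U, v⁻¹ * autFun b v ∈ I
  let s : Set A := {b | St b}
  have hsn : ∀ (b c : A), b ∈ s → c * b * c⁻¹ ∈ s := by
    rintro b c ⟨hb1, hb2⟩
    refine ⟨fun v hv => ?_, fun v hv => ?_⟩
    · simp only [Subgroup.coe_mul, Subgroup.coe_inv, autFun_mul]
      rw [hb1 _ (hI.2 _ (inv_mem c.2) v hv), autFun_apply_inv]
    · have hw := hU.2 _ (inv_mem c.2) v hv
      have h3 := hI.2 _ c.2 _ (hb2 _ hw)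
      rw [af_mul _ (inv_mem (hU.1 hw)) (autFun_mem _ (hU.1 hw)), af_inv _ (hU.1 hw), autFun_apply_inv] at h3
      simpa only [Subgroup.coe_mul, Subgroup.coe_inv, autFun_mul] using h3
  have hKn : (Subgroup.normalClosure s).map ρ' ≤ (P : Subgroup ρ.range) := by
    haveI : ((Subgroup.normalClosure s).map ρ').Normal :=
      Subgroup.normalClosure_normal.map _ (MonoidHom.rangeRestrict_surjective ρ)
    refine IsPGroup.le_sylow_of_normal ?_ P
    have hcl : Subgroup.normalClosure s = closure s := by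
      refine le_antisymm ?_ Subgroup.closure_le_normalClosure
      haveI : (closure s).Normal := ⟨fun n hn c => by
        induction hn using Subgroup.closure_induction with
        | mem b hb => exact Subgroup.subset_closure (hsn b c hb)
        | one => rw [mul_one, mul_inv_cancel]; exact one_mem _
        | mul b d _ _ ihb ihd =>
          rw [show c * (b * d) * c⁻¹ = (c * b * c⁻¹) * (c * d * c⁻¹) by group]
          exact mul_mem ihb ihd
        | inv b _ ihb =>
          rw [show c * b⁻¹ * c⁻¹ = (c * b * c⁻¹)⁻¹ by group]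
          exact inv_mem ihb⟩
      exact Subgroup.normalClosure_le_normal Subgroup.subset_closure
    rw [hcl, MonoidHom.map_closure]
    have hst : IsPGroup p (closure (Subtype.val '' (ρ' '' s))) := by
      refine isPGroup_stab2 hH.grp hIU (fun b hb v hv => ?_) (fun b hb v hv => ?_)
      · obtain ⟨_, ⟨c, hc, rfl⟩, rfl⟩ := hb
        show autFun (ρ c) v = v
        rw [hρ c v (hIU hv), hc.1 v hv]
      · obtain ⟨_, ⟨c, hc, rfl⟩, rfl⟩ := hb
        show v⁻¹ * autFun (ρ c) v ∈ I
        rw [hρ c v hv]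
        exact hc.2 v hv
    have h3 : (closure (ρ' '' s)).map ρ.range.subtype = closure (Subtype.val '' (ρ' '' s)) :=
      MonoidHom.map_closure _ _
    exact (IsPGroup.comap_of_injective (ϕ := ρ.range.subtype) hst Subtype.val_injective).to_le
      (Subgroup.map_le_iff_le_comap.1 h3.le)
  set α : A := ⟨cA E x, cA_mem x⟩
  have hαs : α ∈ s := ⟨fun v hv => by
      show autFun (cA E x) v = v
      rw [cA_apply x (hI.1 hv), (h1 v hv).symm.eq, mul_inv_cancel_right],
    fun v hv => by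
      show v⁻¹ * autFun (cA E x) v ∈ I
      rw [cA_apply x (hU.1 hv)]; exact h2 v hv⟩
  set b : A := (⟨a, ha⟩ : A)⁻¹ * α * ⟨a, ha⟩
  have hb : ρ' b ∈ (P : Subgroup ρ.range) :=
    hKn (Subgroup.mem_map_of_mem _ (Subgroup.subset_normalClosure (by simpa using hsn α (⟨a, ha⟩)⁻¹ hαs)))
  rw [hP, Sylow.coe_mapSurjective] at hb
  obtain ⟨r, hr, hrb⟩ := hb
  rw [hR] at hr
  obtain ⟨y, hy⟩ := exists_of_induced (Subgroup.mem_subgroupOf.1 hr)
  have hyu : autFun (r : MulAut E) u = u := by
    obtain ⟨v, hv, n, rfl⟩ := decomp hH hE hx y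
    rw [hy, cA_apply _ (hU.1 hu)]
    have h4 : Commute u (v * x ^ n) := (hUc u hu v hv).mul_right (hux.zpow_right n)
    rw [h4.symm.eq, mul_inv_cancel_right]
  have hbu : autFun (b : MulAut E) u = u := by
    rw [← hρ b u hu, show ρ b = ρ r from (congrArg Subtype.val hrb).symm, hρ r u hu, hyu]
  simp only [b, Subgroup.coe_mul, Subgroup.coe_inv, autFun_mul] at hbu
  have h5 := congrArg (autFun a) hbu
  rw [autFun_apply_inv] at h5
  change autFun (cA E x) (autFun a u) = autFun a u at h5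
  rw [cA_apply x (autFun_mem a (hU.1 hu)), mul_inv_eq_iff_eq_mul] at h5
  exact h5.symm

end Ess

/-! ### The essential subgroup moving the centre -/

/-- An essential subgroup whose automizer moves the elements of order `p` of the centre. -/
def Moved (p : ℕ) (F : FusionSystem (⊤ : Subgroup X)) (E : Subgroup X) : Prop :=
  F.IsEssential p E ∧ ¬ AInv F E (omegaX p X)

theorem exists_moved (hH : Hyp p F) : ∃ E, Moved p F E := by
  by_contra hcon
  simp only [Moved, not_exists, not_and, not_not] at hcon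
  obtain ⟨E0, hE0⟩ := exists_essential hH
  have htop : (⊤ : Subgroup X) ≠ ⊥ := fun h => by
    refine (Alperin.essential_lt (hH.grp.to_subgroup ⊤) hH.sat hE0).ne ?_
    exact le_antisymm le_top (h.le.trans bot_le)
  refine omegaX_ne_bot hH.grp htop (hH.core _ (Normal.normal_of_invariant (hH.grp.to_subgroup ⊤) hH.sat
    fun P hP => ?_))
  have hinv : AInv F P (omegaX p X) := by
    rcases hP with rfl | hP
    · exact ainv_omegaZ
    · exact hcon P hP
  refine ⟨hinv.1, fun α hα => le_antisymm (img_le fun v hv => hinv.2 α hα v hv) fun v hv => ?_⟩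
  rw [← autFun_apply_inv α v]
  exact mem_img_self _ (hinv.2 _ (inv_mem hα) v hv)

section Moved

variable (hH : Hyp p F) (hM : Moved p F E) [hEn : E.Normal]
include hH hM hEn

theorem no_stab {x : X} {I : Subgroup X} (hx : x ∉ E) (hI : AInv F E I) (hIZ : I ≤ omegaX p X)
    (h2 : ∀ u ∈ omegaZ p E, u⁻¹ * (x * u * x⁻¹) ∈ I) : False := by
  refine hM.2 ⟨(omegaX_le hH hM.1).trans omegaZ_le, fun a ha v hv => ?_⟩
  refine mem_omegaX hH hM.1 (ainv_omegaZ.2 a ha v (omegaX_le hH hM.1 hv)) hx ?_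
  exact fixed_inv hH hM.1 hx ainv_omegaZ hI (hIZ.trans (omegaX_le hH hM.1)) (fun u hu e he => hu.2.2 e he)
    (fun w hw => (hIZ hw).2.2 x (Subgroup.mem_top x)) h2 ha (omegaX_le hH hM.1 hv)
    (hv.2.2 x (Subgroup.mem_top x))

theorem omegaX_lt : omegaX p X < omegaZ p E :=
  lt_of_le_of_ne (omegaX_le hH hM.1) fun h => hM.2 (h ▸ ainv_omegaZ)

theorem card_omega :
    (Nat.card (omegaX p X) = p ∧ Nat.card (omegaZ p E) = p ^ 2) ∨ Nat.card (omegaZ p E) = p ^ 3 := by
  have hlt := omegaX_lt hH hM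
  have h1 := mul_card_le (hH.grp.to_subgroup _) hlt
  obtain ⟨n, hn⟩ := IsPGroup.iff_card.1 (hH.grp.to_subgroup (omegaZ p E))
  obtain ⟨m, hm⟩ := IsPGroup.iff_card.1 (hH.grp.to_subgroup (omegaX p X))
  have hn3 : n ≤ 3 := (Nat.pow_le_pow_iff_right hp.out.one_lt).1 (hn ▸ elem_le hH.rank elem_omegaZ)
  have hm0 : m ≠ 0 := fun h0 => by
    rw [h0, pow_zero] at hm
    refine omegaX_ne_bot hH.grp (fun h => ?_) (Subgroup.card_eq_one.1 hm)
    exact (Alperin.essential_lt (hH.grp.to_subgroup ⊤) hH.sat hM.1).ne (le_antisymm le_top (h.le.trans bot_le))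
  rw [hn, hm, ← pow_succ'] at h1
  have hmn := (Nat.pow_le_pow_iff_right hp.out.one_lt).1 h1
  rcases (show n = 3 ∨ (n = 2 ∧ m = 1) by omega) with h | ⟨h, h'⟩
  · exact Or.inr (h ▸ hn)
  · exact Or.inl ⟨by rw [hm, h', pow_one], h ▸ hn⟩

theorem card_omega_ge : p ^ 2 ≤ Nat.card (omegaZ p E) := by
  rcases card_omega hH hM with ⟨-, h⟩ | h <;> rw [h]
  exact Nat.pow_le_pow_right hp.out.pos (by norm_num)

/-- In order `p ^ 2` there is no invariant line. -/
theorem irreducible_two (h2 : Nat.card (omegaZ p E) = p ^ 2) {I : Subgroup X} (hI : AInv F E I)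
    (hIU : I ≤ omegaZ p E) (hI1 : I ≠ ⊥) : I = omegaZ p E := by
  by_contra hne
  have hlt := lt_of_le_of_ne hIU hne
  have h3 := mul_card_le (hH.grp.to_subgroup _) hlt
  rw [h2, pow_two] at h3
  have hIp : Nat.card I = p := by
    obtain ⟨n, hn⟩ := IsPGroup.iff_card.1 (hH.grp.to_subgroup I)
    have h4 : Nat.card I ≤ p := Nat.le_of_mul_le_mul_left h3 hp.out.pos
    have h5 : n ≠ 0 := fun h0 => hI1 (Subgroup.card_eq_one.1 (by rw [hn, h0, pow_zero]))
    rw [hn] at h4 ⊢
    have h6 : n ≤ 1 := (Nat.pow_le_pow_iff_right hp.out.one_lt).1 (by rwa [pow_one])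
    rw [show n = 1 by omega, pow_one]
  obtain ⟨x, hx⟩ := SetLike.exists_not_mem_of_ne_top E
    (Alperin.essential_lt (hH.grp.to_subgroup ⊤) hH.sat hM.1).ne
  obtain ⟨k, hk⟩ := exists_pow_cA hH hM.1 x
  have hstep := step (p := p) (C := ⊥) (D := I) bot_le hI.1 (by rw [Subgroup.relIndex_bot_left, hIp])
    (fun v hv => by rw [Subgroup.mem_bot.1 hv, af_one']; exact one_mem _) (hI.2 _ (cA_mem x)) hk
  have hIZ : I ≤ omegaX p X := fun v hv => mem_omegaX hH hM.1 (hIU hv) hx (by
    have h4 := Subgroup.mem_bot.1 (hstep v hv)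
    rw [inv_mul_eq_one, cA_apply x (hI.1 hv), eq_comm, mul_inv_eq_iff_eq_mul] at h4
    exact h4.symm)
  rcases card_omega hH hM with ⟨hz, -⟩ | h
  · exact hM.2 (Subgroup.eq_of_le_of_card_ge hIZ (hz.trans hIp.symm).le ▸ hI)
  · rw [h2] at h
    exact absurd (Nat.pow_right_injective hp.out.two_le h) (by norm_num)

end Moved

end Cfsg.Agent.Fusion.RankThree.Normal
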