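import Cfsg.Agent.Lib.Fusion.RankThree.Normal.Omega

/-!
A second essential subgroup, and automorphisms that stabilise a series above the Frattini subgroup.
-/

set_option autoImplicit false
set_option linter.unusedSectionVars false
set_option linter.style.haveILetI false

namespace Cfsg.Agent.Fusion.RankThree.Normal

open Cfsg Cfsg.FusionSystem
open Cfsg.Agent.Fusion Cfsg.Agent.Fusion.Basic Cfsg.Agent.Fusion.Saturation
open Cfsg.Agent.Fusion.RankThree
open Subgroup (zpowers closure mem_zpowers mem_zpowers_iff normalizer)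

variable {X : Type*} [Group X] [Finite X] {p : ℕ} [hp : Fact p.Prime] {F : FusionSystem (⊤ : Subgroup X)}
  {E E1 : Subgroup X}

/-- The image of a normal essential subgroup under an automorphism of the group is essential. -/
theorem essential_img (hH : Hyp p F) (hE : F.IsEssential p E) [hEn : E.Normal] {θ : X → X}
    (hθ : IsMap F (⊤ : Subgroup X) θ) : F.IsEssential p (img θ E) := by
  have hS := hH.grp.to_subgroup (⊤ : Subgroup X)
  have hlt := Alperin.essential_lt hS hH.sat hE
  set Q := img θ E with hQ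
  have hm := hθ.restrict (le_top : E ≤ (⊤ : Subgroup X))
  have hsurj : ∀ y, ∃ x, θ x = y := fun y =>
    Finite.surjective_of_injective (f := θ)
      (fun a b h => hθ.inj (Subgroup.mem_top a) (Subgroup.mem_top b) h) y
  have hQn : Q.Normal := ⟨fun v hv g => by
    obtain ⟨u, hu, rfl⟩ := hm.mem_img.1 hv
    obtain ⟨h, rfl⟩ := hsurj g
    rw [← hθ.map_conj (Subgroup.mem_top h) (Subgroup.mem_top u)]
    exact mem_img_self θ (hEn.conj_mem u hu h)⟩
  have hQfn : F.IsFullyNormalized Q := ⟨le_top, fun R _ => by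
    rw [show normalizerIn (⊤ : Subgroup X) Q = ⊤ from top_le_iff.1 fun g _ =>
      ⟨Subgroup.mem_top g, (Subgroup.normalizer_eq_top (H := Q)).symm ▸ Subgroup.mem_top g⟩]
    exact Subgroup.card_le_of_le le_top⟩
  have hQlt : Q < (⊤ : Subgroup X) := lt_of_le_of_ne le_top fun h => hlt.ne (Subgroup.eq_top_of_le_card _
    (le_of_eq (by
      have h1 := hm.card_img
      rw [← hQ, h] at h1
      rw [← h1]
      exact Subgroup.card_top.symm)))
  rw [Alperin.essential_iff hS hH.sat hQlt hQfn]
  intro heq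
  refine (Alperin.essential_iff hS hH.sat hlt hE.2.1).1 hE (le_antisymm (Alperin.extGroup_le le_top)
    fun α hα => ?_)
  obtain ⟨e, he⟩ := hm.exists_autEquiv
  have key : ∀ β ∈ Alperin.extGroup F Q, ∃ α' ∈ Alperin.extGroup F E,
      ∀ x ∈ E, autFun β (θ x) = θ (autFun α' x) := by
    intro β hβ
    induction hβ using Subgroup.closure_induction with
    | mem β hβ =>
      obtain ⟨Q', f, hQQ, hf, hfe⟩ := hβ
      have hβA : β ∈ F.autGroup Q := Alperin.extGroup_le le_top (Subgroup.subset_closure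
        ⟨Q', f, hQQ, hf, hfe⟩)
      obtain ⟨α', hα'⟩ := e.surjective ⟨β, hβA⟩
      obtain ⟨k, hk, hkimg, hkθ, hθk⟩ := hθ.exists_inv
      have htop : img θ (⊤ : Subgroup X) = ⊤ := top_le_iff.1 fun y _ => by
        obtain ⟨x, rfl⟩ := hsurj y
        exact mem_img_self θ (Subgroup.mem_top x)
      rw [htop] at hk
      refine ⟨α', Subgroup.subset_closure ⟨img k Q', fun x => k (f (θ x)), ?_, ?_, fun x hx => ?_⟩,
        fun x hx => ?_⟩
      · refine SetLike.lt_iff_le_and_exists.2 ⟨fun x hx => ?_, ?_⟩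
        · have h1 := mem_img_self k (hQQ.le (mem_img_self θ hx))
          rwa [hkθ x (Subgroup.mem_top x)] at h1
        · obtain ⟨y, hy, hyQ⟩ := SetLike.exists_of_lt hQQ
          refine ⟨k y, mem_img_self k hy, fun h => hyQ ?_⟩
          obtain ⟨x, rfl⟩ := hsurj y
          rw [hkθ x (Subgroup.mem_top x)] at h
          exact mem_img_self θ h
      · refine hk.comp (hf.comp (hθ.restrict le_top) fun x hx => ?_) fun x _ => Subgroup.mem_top _
        obtain ⟨y, hy, rfl⟩ := (hk.restrict le_top).mem_img.1 hx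
        obtain ⟨z, rfl⟩ := hsurj y
        rwa [hkθ z (Subgroup.mem_top z)]
      · show k (f (θ x)) = autFun (α' : MulAut E) x
        rw [hfe _ (mem_img_self θ hx), show β = ((e α' : F.autGroup Q) : MulAut Q) by rw [hα'], he α' x hx,
          hkθ _ (Subgroup.mem_top _)]
      · rw [show β = ((e α' : F.autGroup Q) : MulAut Q) by rw [hα'], he α' x hx]
    | one => exact ⟨1, one_mem _, fun x _ => by rw [autFun_one, autFun_one]; rfl⟩
    | mul β γ _ _ ihb ihc =>
      obtain ⟨a, ha, hae⟩ := ihb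
      obtain ⟨b, hb, hbe⟩ := ihc
      exact ⟨a * b, mul_mem ha hb, fun x hx => by
        rw [autFun_mul, autFun_mul, hbe x hx, hae _ (autFun_mem b hx)]⟩
    | inv β _ ihb =>
      obtain ⟨a, ha, hae⟩ := ihb
      refine ⟨a⁻¹, inv_mem ha, fun x hx => ?_⟩
      conv_lhs => rw [← autFun_apply_inv a x, ← hae _ (autFun_mem a⁻¹ hx), autFun_inv_apply]
  obtain ⟨α', hα', hαe⟩ := key (e ⟨α, hα⟩ : MulAut Q) (heq.ge (e ⟨α, hα⟩).2)
  have : α' = α := autFun_ext fun x hx => by
    have h1 := hαe x hx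
    rw [he ⟨α, hα⟩ x hx] at h1
    exact (hθ.inj (Subgroup.mem_top _) (Subgroup.mem_top _) h1).symm
  exact this ▸ hα'

theorem exists_other (hH : Hyp p F) (hE : F.IsEssential p E1) [E1.Normal] : ∃ E, F.IsEssential p E ∧ E ≠ E1 := by
  by_contra hcon
  push Not at hcon
  have hS := hH.grp.to_subgroup (⊤ : Subgroup X)
  refine (?_ : E1 ≠ ⊥) (hH.core E1 (Normal.normal_of_invariant hS hH.sat fun P hP => ?_))
  · intro h
    refine (Alperin.essential_lt hS hH.sat hE).ne (le_antisymm le_top fun g _ => ?_)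
    exact centralizer_le hH hE fun v hv => by
      rw [h, Subgroup.mem_bot] at hv
      rw [hv]; exact Commute.one_left g
  rcases hP with rfl | hP
  · refine ⟨le_top, fun α hα => ?_⟩
    have h1 := hcon _ (essential_img hH hE (isMap_of_mem_autGroup le_rfl hα))
    exact h1
  · rw [hcon P hP]
    exact ⟨le_rfl, fun α _ => autFun_img α⟩

/-- Two essential subgroups. -/
structure Two (p : ℕ) (F : FusionSystem (⊤ : Subgroup X)) (E1 E : Subgroup X) : Prop where
  left : F.IsEssential p E1
  right : F.IsEssential p E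
  ne : E ≠ E1
  leftN : E1.Normal
  rightN : E.Normal

section Two

variable (hH : Hyp p F) (hT : Two p F E1 E)
include hH hT

theorem Two.symm : Two p F E E1 := ⟨hT.right, hT.left, hT.ne.symm, hT.rightN, hT.leftN⟩

theorem Two.exists_notMem : ∃ x, x ∈ E1 ∧ x ∉ E := by
  haveI := hT.leftN
  haveI := hT.rightN
  by_contra h
  push Not at h
  refine hT.ne (Subgroup.eq_of_le_of_card_ge (fun v hv => h v hv) ?_).symm
  have h1 := E.card_mul_index
  rw [← E1.card_mul_index, index_p hH hT.left, index_p hH hT.right] at h1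
  exact (Nat.eq_of_mul_eq_mul_right hp.out.pos h1).le

theorem Two.sup : E ⊔ E1 = ⊤ := by
  haveI := hT.leftN
  haveI := hT.rightN
  obtain ⟨x, hx1, hx⟩ := hT.exists_notMem hH
  exact top_le_iff.1 ((sup_eq_top hH hT.right hx).ge.trans
    (sup_le_sup_left (Subgroup.zpowers_le.2 hx1) E))

theorem Two.relIndex_inf : (E ⊓ E1).relIndex E = p := by
  haveI := hT.leftN
  haveI := hT.rightN
  rw [inf_comm, Subgroup.inf_relIndex_right]
  have h := Subgroup.relIndex_sup_right (H := E) (K := E1)
  rw [hT.sup hH, Subgroup.relIndex_top_right, index_p hH hT.left] at h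
  exact h.symm

theorem Two.card_inf : Nat.card E = p * Nat.card (E ⊓ E1 : Subgroup X) := by
  have h := Subgroup.relIndex_mul_relIndex (⊥ : Subgroup X) (E ⊓ E1) E bot_le inf_le_left
  rw [Subgroup.relIndex_bot_left, Subgroup.relIndex_bot_left, hT.relIndex_inf hH] at h
  rw [← h, mul_comm]

theorem Two.decomp_inf {e : X} (he : e ∈ E) (he1 : e ∉ E1) {v : X} (hv : v ∈ E) :
    ∃ t ∈ E ⊓ E1, ∃ n : ℤ, v = t * e ^ n := by
  haveI := hT.leftN
  haveI := hT.rightN
  obtain ⟨t, ht, n, rfl⟩ := decomp hH hT.left he1 v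
  refine ⟨t, ⟨?_, ht⟩, n, rfl⟩
  have := mul_mem hv (inv_mem (zpow_mem he n))
  rwa [mul_inv_cancel_right] at this

end Two

/-- Automorphisms trivial on `H` modulo the Frattini subgroup and on `E` modulo `H` are inner. -/
theorem mem_inn_of_stab_phi (hH : Hyp p F) (hE : F.IsEssential p E) [E.Normal] {H : Subgroup X} (hI : AInv F E H)
    {σ : MulAut E} (hσ : σ ∈ F.autGroup E)
    (h1 : ∀ v ∈ H, v⁻¹ * autFun σ v ∈ phi p E) (h2 : ∀ v ∈ E, v⁻¹ * autFun σ v ∈ H) : σ ∈ Inn E := by
  haveI hΦn : (phi p E).Normal := phi_normal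
  set π := QuotientGroup.mk' (phi p E) with hπ
  have hmk : ∀ u v : X, π u = π v ↔ u⁻¹ * v ∈ phi p E := fun u v => QuotientGroup.eq
  let s : Set (MulAut E) := {b | b ∈ F.autGroup E ∧ (∀ v ∈ H, π (autFun b v) = π v) ∧
    ∀ v ∈ E, v⁻¹ * autFun b v ∈ H}
  have hΦinv : ∀ b ∈ F.autGroup E, ∀ u v : X, u ∈ E → v ∈ E → π u = π v → π (autFun b u) = π (autFun b v) := by
    intro b hb u v hu hv h
    rw [hmk] at h ⊢
    rw [← af_inv b hu, ← af_mul b (inv_mem hu) hv]
    exact ainv_phi.2 b hb _ h
  let K : Subgroup (MulAut E) :=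
    { carrier := s
      one_mem' := ⟨one_mem _, fun v _ => by rw [autFun_one]; rfl,
        fun v _ => by rw [autFun_one, id, inv_mul_cancel]; exact one_mem _⟩
      mul_mem' := by
        rintro a b ⟨ha, ha1, ha2⟩ ⟨hb, hb1, hb2⟩
        refine ⟨mul_mem ha hb, fun v hv => ?_, fun v hv => ?_⟩
        · rw [autFun_mul, ha1 _ (hI.2 b hb v hv), hb1 v hv]
        · rw [autFun_mul]
          have h3 := mul_mem (hb2 v hv) (ha2 _ (autFun_mem b hv))
          rwa [mul_assoc, mul_inv_cancel_left] at h3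
      inv_mem' := by
        rintro a ⟨ha, ha1, ha2⟩
        refine ⟨inv_mem ha, fun v hv => ?_, fun v hv => ?_⟩
        · have h3 := ha1 _ (hI.2 _ (inv_mem ha) v hv)
          rw [autFun_apply_inv] at h3
          exact h3.symm
        · have h3 := inv_mem (ha2 _ (autFun_mem a⁻¹ hv))
          rwa [autFun_apply_inv, mul_inv_rev, inv_inv] at h3 }
  have hKn : ∀ a ∈ F.autGroup E, ∀ k ∈ K, a * k * a⁻¹ ∈ K := by
    rintro a ha k ⟨hk, hk1, hk2⟩
    refine ⟨mul_mem (mul_mem ha hk) (inv_mem ha), fun v hv => ?_, fun v hv => ?_⟩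
    · have hw := hI.2 _ (inv_mem ha) v hv
      have h3 := hΦinv a ha _ _ (autFun_mem k (hI.1 hw)) (hI.1 hw) (hk1 _ hw)
      rw [autFun_mul, autFun_mul]
      rwa [autFun_apply_inv] at h3
    · have hw := autFun_mem a⁻¹ hv
      have h3 := hI.2 a ha _ (hk2 _ hw)
      rw [af_mul a (inv_mem hw) (autFun_mem k hw), af_inv a hw, autFun_apply_inv] at h3
      rwa [autFun_mul, autFun_mul]
  have hpow : ∀ a ∈ K, ∀ v ∈ E, π (autFun (a ^ p) v) = π v := by
    rintro a ⟨ha, ha1, ha2⟩ v hv
    obtain ⟨c, hc, hce⟩ := af_eq_of_step a (ha2 v hv)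
    have hn : ∀ n : ℕ, π (autFun (a ^ n) v) = π v * π c ^ n := by
      intro n
      induction n with
      | zero => rw [pow_zero, autFun_one, pow_zero, mul_one]; rfl
      | succ n ih =>
        rw [pow_succ', autFun_mul]
        have hmem : v * c ^ n ∈ E := mul_mem hv (pow_mem (hI.1 hc) n)
        rw [hΦinv a ha _ _ (autFun_mem _ hv) hmem (by rw [ih, map_mul, map_pow]),
          af_mul a hv (pow_mem (hI.1 hc) n), map_mul, ha1 _ (pow_mem hc n), hce, map_mul, map_pow,
          pow_succ', mul_assoc]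
    have hcp : π c ^ p = 1 := by
      rw [← map_pow]
      exact (QuotientGroup.eq_one_iff _).2 (pow_mem_phi (hI.1 hc))
    rw [hn, hcp, mul_one]
  obtain ⟨n, hn⟩ := IsPGroup.iff_card.1 (hH.grp.to_subgroup E)
  obtain ⟨r, hr⟩ := IsPGroup.iff_card.1 ((hH.grp.to_subgroup E).to_quotient (frattini E))
  have hKp : IsPGroup p K := by
    have hK0 : ∀ a : MulAut E, (∀ v ∈ E, π (autFun a v) = π v) → ∃ j : ℕ, a ^ p ^ j = 1 := by
      intro a ha
      have hst : ∀ b ∈ closure ({a} : Set (MulAut E)), ∀ v ∈ E, π (autFun b v) = π v := by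
        intro b hb
        induction hb using Subgroup.closure_induction with
        | mem b hb => rw [Set.mem_singleton_iff.1 hb]; exact ha
        | one => intro v _; rw [autFun_one]; rfl
        | mul b c _ _ ihb ihc => intro v hv; rw [autFun_mul, ihb _ (autFun_mem c hv), ihc v hv]
        | inv b _ ihb =>
          intro v hv
          have h3 := ihb _ (autFun_mem b⁻¹ hv)
          rw [autFun_apply_inv] at h3
          exact h3.symm
      have hdvd := GroupStructure3.FrattiniAut.card_stab_dvd (r := r) hn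
        (by rw [Subgroup.index_eq_card]; exact hr) (closure ({a} : Set (MulAut E))) (fun b hb v => by
          rw [← Subgroup.mem_map_iff_mem E.subtype_injective (K := frattini E),
            map_frattini (hH.grp.to_subgroup E)]
          have h3 := hst b hb v v.2
          rw [autFun_apply] at h3
          have h4 : π (((b v : E) : X) * (v : X)⁻¹) = 1 := by rw [map_mul, map_inv, h3, mul_inv_cancel]
          exact (QuotientGroup.eq_one_iff _).1 h4)
      obtain ⟨i, -, hi⟩ := (Nat.dvd_prime_pow hp.out).1 hdvd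
      obtain ⟨j, hj⟩ := IsPGroup.of_card hi ⟨a, Subgroup.subset_closure rfl⟩
      exact ⟨j, congrArg Subtype.val hj⟩
    intro a
    obtain ⟨j, hj⟩ := hK0 ((a : MulAut E) ^ p) (hpow a a.2)
    exact ⟨j + 1, Subtype.ext (by rw [pow_succ', pow_mul, SubgroupClass.coe_pow, SubgroupClass.coe_pow, hj]; rfl)⟩
  refine mem_inn_of_normal hH hE (fun a ha => (show a ∈ s from ha).1) hKp hKn ⟨hσ, fun v hv => ?_, h2⟩
  exact ((hmk _ _).2 (h1 v hv)).symm

end Cfsg.Agent.Fusion.RankThree.Normal
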