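import Cfsg.Agent.Lib.Fusion.RankThree.Normal.Other
import Cfsg.Agent.Lib.Fusion.RankThree.Normal.Inversion

/-!
The product of a Heisenberg group and a group of order `p` carries no fusion system without a normal subgroup.
-/

set_option autoImplicit false
set_option linter.unusedSectionVars false
set_option linter.style.haveILetI false

namespace Cfsg.Agent.Fusion.RankThree.Normal

open Cfsg Cfsg.FusionSystem
open Cfsg.Agent.Fusion Cfsg.Agent.Fusion.Basic Cfsg.Agent.Fusion.Saturation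
open Cfsg.Agent.Fusion.RankThree
open Subgroup (zpowers closure mem_zpowers mem_zpowers_iff normalizer)

variable {X : Type*} [Group X] [Finite X] {p : ℕ} [hp : Fact p.Prime] {F : FusionSystem (⊤ : Subgroup X)}

/-- `X` has exponent `p`, the centre `T` has order `p ^ 2` and contains the derived group `⟨w⟩`. -/
structure Heis (p : ℕ) (T : Subgroup X) (w : X) : Prop where
  card : Nat.card X = p ^ 4
  exp : ∀ v : X, v ^ p = 1
  cardT : Nat.card T = p ^ 2
  cen : ∀ t ∈ T, ∀ v : X, Commute t v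
  top : ∀ v : X, (∀ u : X, Commute v u) → v ∈ T
  wT : w ∈ T
  der : ∀ u v : X, cm u v ∈ zpowers w
  w1 : w ≠ 1
  wcm : ∃ u v : X, cm u v = w

variable {T : Subgroup X} {w : X}

section

variable (hH : Hyp p F) (hT : Heis p T w)
include hH hT

theorem heis_orderW : Nat.card (zpowers w) = p := by
  rw [Nat.card_zpowers, orderOf_eq_prime (hT.exp w) hT.w1]

/-- An automorphism of the group preserves the centre. -/
theorem heis_map_mem {θ : X → X} (hθ : IsMap F (⊤ : Subgroup X) θ) {t : X} (ht : t ∈ T) : θ t ∈ T := by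
  refine hT.top _ fun u => ?_
  obtain ⟨y, rfl⟩ := Finite.surjective_of_injective (f := θ)
    (fun a b h => hθ.inj (Subgroup.mem_top a) (Subgroup.mem_top b) h) u
  show θ t * θ y = θ y * θ t
  rw [← hθ.map_mul (Subgroup.mem_top _) (Subgroup.mem_top _),
    ← hθ.map_mul (Subgroup.mem_top _) (Subgroup.mem_top _), (hT.cen t ht y).eq]

/-- Every essential subgroup is normal. -/
theorem heis_normal {E : Subgroup X} (hE : F.IsEssential p E) : E.Normal := by
  refine ⟨fun v hv g => ?_⟩
  have hmem : cm v g⁻¹ ∈ E := centralizer_le hH hE fun u _ =>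
    (hT.cen _ ((Subgroup.zpowers_le.2 hT.wT) (hT.der v g⁻¹)) u).symm
  have := mul_mem hv hmem
  rwa [cm_def, inv_inv, show v * (v⁻¹ * g * v * g⁻¹) = g * v * g⁻¹ by group] at this

theorem heis_essential {E : Subgroup X} (hE : F.IsEssential p E) :
    T ≤ E ∧ Nat.card E = p ^ 3 ∧ (∀ u ∈ E, ∀ v ∈ E, Commute u v) ∧
      ∀ x, x ∉ E → ∀ v ∈ E, Commute v x → v ∈ T := by
  have hTE : T ≤ E := fun t ht => centralizer_le hH hE fun v _ => (hT.cen t ht v).symm
  haveI := heis_normal hH hT hE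
  have hEc : Nat.card E = p ^ 3 := by
    have h := E.card_mul_index
    rw [index_p hH hE, hT.card, pow_succ p 3] at h
    exact Nat.eq_of_mul_eq_mul_right hp.out.pos h
  obtain ⟨y, hy, hyT⟩ : ∃ y ∈ E, y ∉ T := SetLike.not_le_iff_exists.1 fun hle => by
    have := Subgroup.card_le_of_le hle
    rw [hEc, hT.cardT] at this
    have := (Nat.pow_le_pow_iff_right hp.out.one_lt).1 this
    omega
  have hgen : E = T ⊔ zpowers y := (Subgroup.eq_of_le_of_card_ge (sup_le hTE (Subgroup.zpowers_le.2 hy)) (by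
    refine le_trans (le_of_eq ?_) (mul_card_le_sup hH.grp hyT)
    rw [hEc, hT.cardT]; ring)).symm
  have hab : ∀ u ∈ E, ∀ v ∈ E, Commute u v := by
    rw [hgen, ← Subgroup.closure_eq T, Subgroup.zpowers_eq_closure, ← Subgroup.closure_union]
    refine (elem_closure (p := p) ?_ fun v _ => hT.exp v).1
    rintro a (ha | rfl) b (hb | rfl)
    exacts [hT.cen a ha b, hT.cen a ha _, (hT.cen b hb _).symm, Commute.refl _]
  refine ⟨hTE, hEc, hab, fun x hx v hv hvx => hT.top v fun u => ?_⟩
  obtain ⟨u', hu', n, rfl⟩ := decomp hH hE hx u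
  exact (hab v hv u' hu').mul_right (hvx.zpow_right n)

theorem heis_inn {E : Subgroup X} (hE : F.IsEssential p E) {σ : MulAut E} (hσ : σ ∈ Inn E) : σ = 1 := by
  obtain ⟨n, hn, he⟩ := mem_inn_iff.1 hσ
  refine autFun_ext fun v hv => ?_
  rw [he v hv, autFun_one, cj_apply, ((heis_essential hH hT hE).2.2.1 n hn v hv).eq, mul_inv_cancel_right]
  rfl

/-- Automorphisms of the group that agree on `w` and on `T` modulo `w` agree on `T`. -/
theorem heis_rigid {a b : MulAut (⊤ : Subgroup X)} (ha : a ∈ F.autGroup (⊤ : Subgroup X))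
    (hb : b ∈ F.autGroup (⊤ : Subgroup X)) (hw : autFun a w = autFun b w)
    (hm : ∀ t ∈ T, (autFun a t)⁻¹ * autFun b t ∈ zpowers w)
    (haw : ∀ v ∈ zpowers w, autFun a⁻¹ v ∈ zpowers w) :
    ∀ t ∈ T, autFun a t = autFun b t := by
  set A := F.autGroup (⊤ : Subgroup X) with hA
  set σ := a⁻¹ * b with hσd
  have hσA : σ ∈ A := mul_mem (inv_mem ha) hb
  have hσw : autFun σ w = w := by rw [hσd, autFun_mul, ← hw, autFun_inv_apply]
  have hσt : ∀ t ∈ T, t⁻¹ * autFun σ t ∈ zpowers w := by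
    intro t ht
    have h1 := haw _ (hm t ht)
    rwa [af_mul _ (Subgroup.mem_top _) (Subgroup.mem_top _), af_inv _ (Subgroup.mem_top _), autFun_inv_apply,
      ← autFun_mul] at h1
  -- a `p`-power fixes `T`
  obtain ⟨k, hk⟩ := exists_pow_fix (p := p) hH.grp (le_top : T ≤ (⊤ : Subgroup X))
    (C := fun i => match i with | 0 => ⊥ | 1 => zpowers w | _ => T) (n := 2) rfl rfl
    (fun i hi => by
      interval_cases i
      exacts [bot_le, Subgroup.zpowers_le.2 hT.wT])
    (fun i hi => by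
      interval_cases i
      exacts [bot_le, Subgroup.zpowers_le.2 hT.wT, le_rfl])
    (s := {σ})
    (fun c hc t ht => by
      rw [Set.mem_singleton_iff.1 hc]
      have := mul_mem ht (Subgroup.zpowers_le.2 hT.wT (hσt t ht))
      rwa [mul_inv_cancel_left] at this)
    (fun c hc i hi v hv => by
      rw [Set.mem_singleton_iff.1 hc]
      interval_cases i
      · obtain ⟨n, rfl⟩ := mem_zpowers_iff.1 hv
        rw [af_zpow σ (Subgroup.mem_top w), hσw, inv_mul_cancel]
        exact one_mem _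
      · exact hσt v hv) σ (Subgroup.subset_closure rfl)
  -- a prime to `p` power of `σ` is inner
  obtain ⟨R, hR⟩ := (fullyNormalized_fullyAutomized (hH.grp.to_subgroup ⊤) hH.sat
    (⟨le_rfl, fun Q hQ => le_of_eq (by rw [Alperin.eq_top_of_card le_rfl hQ rfl])⟩ :
      F.IsFullyNormalized (⊤ : Subgroup X))).2
  have hRinn : ∀ r : A, r ∈ (R : Subgroup A) → ∀ t ∈ T, autFun (r : MulAut (⊤ : Subgroup X)) t = t := by
    intro r hr t ht
    rw [hR, Subgroup.mem_subgroupOf] at hr
    obtain ⟨g, -, he⟩ := mem_autInducedBy_iff'.1 hr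
    rw [he t (Subgroup.mem_top t), cj_apply, ← (hT.cen t ht g).eq, mul_inv_cancel_right]
  haveI hRn : (R : Subgroup A).Normal := by
    have h1 : (R : Subgroup A) = (Inn (⊤ : Subgroup X)).subgroupOf A := by
      rw [hR]
      congr 1
      refine le_antisymm (fun α hα => ?_) (inn_le_autInducedBy le_rfl)
      obtain ⟨g, hg, he⟩ := mem_autInducedBy_iff'.1 hα
      exact mem_inn_iff.2 ⟨g, hg.1, he⟩
    rw [h1]
    exact Alperin.inn_normal F _
  haveI : Finite A := Finite.of_injective (fun c : A => ((c : MulAut (⊤ : Subgroup X)) : _ → _))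
    fun c d h => Subtype.ext (DFunLike.coe_injective h)
  set σ' : A := ⟨σ, hσA⟩
  set n := orderOf σ'
  set m := ordCompl[p] n
  have hpm : IsPGroup p (zpowers (σ' ^ m)) := by
    refine IsPGroup.of_card (n := n.factorization p) ?_
    rw [Nat.card_zpowers, orderOf_pow' _ (Nat.ordCompl_pos p (orderOf_pos σ').ne').ne',
      Nat.gcd_eq_right (Nat.ordCompl_dvd n p)]
    exact Nat.div_eq_of_eq_mul_left (Nat.ordCompl_pos p (orderOf_pos σ').ne')
      (Nat.ordProj_mul_ordCompl_eq_self n p).symm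
  have hmem : σ' ^ m ∈ (R : Subgroup A) := by
    rw [← R.3 (R.2.to_sup_of_normal_left hpm) le_sup_left]
    exact Subgroup.mem_sup_right (mem_zpowers _)
  have hm' : ∀ t ∈ T, autFun (σ ^ m) t = t := fun t ht => by
    have := hRinn _ hmem t ht
    rwa [SubgroupClass.coe_pow] at this
  intro t ht
  obtain ⟨u, v, huv⟩ : ∃ u v : ℤ, u * (p ^ k : ℕ) + v * (m : ℕ) = 1 := by
    have hco : Nat.Coprime (p ^ k) m :=
      (hp.out.coprime_iff_not_dvd.2 (Nat.not_dvd_ordCompl hp.out (orderOf_pos σ').ne')).pow_left k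
    exact ⟨Nat.gcdA (p ^ k) m, Nat.gcdB (p ^ k) m, by
      have := Nat.gcd_eq_gcd_ab (p ^ k) m
      rw [hco] at this
      push_cast at this ⊢
      linarith⟩
  have hfix : ∀ (c : MulAut (⊤ : Subgroup X)) (i : ℤ), (∀ t ∈ T, autFun c t = t) →
      ∀ t ∈ T, autFun (c ^ i) t = t := by
    intro c i hc t ht
    rw [autFun_of_mem _ (Subgroup.mem_top t)]
    refine congrArg Subtype.val
      ((MulAction.stabilizer (MulAut (⊤ : Subgroup X)) (⟨t, Subgroup.mem_top t⟩ : (⊤ : Subgroup X))).zpow_mem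
        (show c ∈ _ from ?_) i)
    exact Subtype.ext (show (c ⟨t, Subgroup.mem_top t⟩ : X) = t by rw [← autFun_apply]; exact hc t ht)
  have hσ1 : autFun σ t = t := by
    conv_lhs => rw [← zpow_one σ, ← huv, zpow_add, autFun_mul, mul_comm u, mul_comm v, zpow_mul, zpow_mul,
      zpow_natCast, zpow_natCast]
    rw [hfix _ v hm' t ht, hfix _ u hk t ht]
  have := congrArg (autFun a) hσ1
  rw [hσd, autFun_mul, autFun_apply_inv] at this
  exact this.symm

theorem heis_map_w {a : MulAut (⊤ : Subgroup X)} {v : X} (hv : v ∈ zpowers w) :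
    autFun a v ∈ zpowers w := by
  obtain ⟨i, rfl⟩ := mem_zpowers_iff.1 hv
  obtain ⟨u, u', hu⟩ := hT.wcm
  rw [af_zpow a (Subgroup.mem_top w), ← hu, af_cm a (Subgroup.mem_top u) (Subgroup.mem_top u'), hu]
  exact zpow_mem (hT.der _ _) i

set_option maxHeartbeats 1000000 in
/-- The involution of the centre given by an essential subgroup and one of its pairs. -/
theorem heis_involution {E : Subgroup X} (hE : F.IsEssential p E) {x : X} (hx : x ∉ E) {g : MulAut E}
    (hg : g ∈ F.autGroup E) (hgR : g * cA E x * g⁻¹ ∉ autInducedBy (⊤ : Subgroup X) E) :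
    ∃ θ ∈ F.autGroup (⊤ : Subgroup X), autFun θ w = w⁻¹ ∧
      (∀ t ∈ T, t⁻¹ * autFun θ t ∈ zpowers w) ∧
      ∀ t ∈ T, (autFun θ t = t ↔ autFun g⁻¹ t ∈ T) := by
  haveI := heis_normal hH hT hE
  obtain ⟨hTE, hEc, hab, hfixT⟩ := heis_essential hH hT hE
  set α := cA E x with hα
  set β := g * α * g⁻¹ with hβ
  have hαA : α ∈ F.autGroup E := cA_mem x
  have hβA : β ∈ F.autGroup E := mul_mem (mul_mem hg hαA) (inv_mem hg)
  have hαT : ∀ t ∈ T, autFun α t = t := fun t ht => by
    rw [hα, cA_apply x (hTE ht), ← (hT.cen t ht x).eq, mul_inv_cancel_right]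
  have hαfix : ∀ v ∈ E, autFun α v = v → v ∈ T := fun v hv h => by
    refine hfixT x hx v hv ?_
    rw [hα, cA_apply x hv, mul_inv_eq_iff_eq_mul] at h
    exact h.symm
  obtain ⟨k, hk⟩ := exists_pow_cA hH hE x
  have hk' : β ^ p ^ k = 1 := by rw [hβ, conj_pow, hk, mul_one, mul_inv_cancel]
  have hβfix : ∀ v ∈ E, (autFun β v = v ↔ autFun g⁻¹ v ∈ T) := by
    intro v hv
    constructor
    · intro h
      refine hαfix _ (autFun_mem _ hv) ?_
      conv_rhs => rw [← h, hβ, autFun_mul, autFun_mul, autFun_inv_apply]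
    · intro h
      rw [hβ, autFun_mul, autFun_mul, hαT _ h, autFun_apply_inv]
  -- the fixed line
  have hm : IsMap F T (autFun g) := (isMap_of_mem_autGroup le_top hg).restrict hTE
  set T' := img (autFun g) T with hT'
  have hT'E : T' ≤ E := img_le fun v hv => autFun_mem g (hTE hv)
  have hT'mem : ∀ v ∈ E, (v ∈ T' ↔ autFun g⁻¹ v ∈ T) := by
    intro v hv
    rw [hT', hm.mem_img]
    constructor
    · rintro ⟨u, hu, rfl⟩; rwa [autFun_inv_apply]
    · exact fun h => ⟨_, h, autFun_apply_inv g v⟩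
  have hTT' : ¬ T ≤ T' := fun hle => by
    refine pair_not_pgroup hH hE hx hg hgR (isPGroup_stab2 hH.grp hTE ?_ ?_)
    · rintro c (rfl | rfl) v hv
      · exact hαT v hv
      · exact (hβfix v (hTE hv)).2 ((hT'mem v (hTE hv)).1 (hle hv))
    · have hidx : T.relIndex E ≤ p := by
        have h := Subgroup.relIndex_mul_relIndex (⊥ : Subgroup X) T E bot_le hTE
        rw [Subgroup.relIndex_bot_left, Subgroup.relIndex_bot_left, hT.cardT, hEc, pow_succ p 2] at h
        exact (Nat.eq_of_mul_eq_mul_left (pow_pos hp.out.pos 2) h).le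
      rintro c (rfl | rfl) v hv
      · exact step hTE le_rfl hidx (fun v hv => by rw [hαT v hv]; exact hv) (fun v hv => autFun_mem _ hv)
          hk v hv
      · exact step hTE le_rfl hidx
          (fun v hv => by rw [(hβfix v (hTE hv)).2 ((hT'mem v (hTE hv)).1 (hle hv))]; exact hv)
          (fun v hv => autFun_mem _ hv) hk' v hv
  set C := T ⊓ T' with hC
  have hCα : ∀ v ∈ C, autFun α v = v := fun v hv => hαT v hv.1
  have hCβ : ∀ v ∈ C, autFun β v = v := fun v hv => (hβfix v (hTE hv.1)).2 ((hT'mem v (hTE hv.1)).1 hv.2)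
  have hidx : T.relIndex E ≤ p := by
    have h := Subgroup.relIndex_mul_relIndex (⊥ : Subgroup X) T E bot_le hTE
    rw [Subgroup.relIndex_bot_left, Subgroup.relIndex_bot_left, hT.cardT, hEc, pow_succ p 2] at h
    exact (Nat.eq_of_mul_eq_mul_left (pow_pos hp.out.pos 2) h).le
  have hCc : Nat.card C = p := by
    have h1 : C < T := lt_of_le_of_ne inf_le_left fun h => hTT' (h ▸ inf_le_right)
    have h2 := mul_card_le (hH.grp.to_subgroup T) h1
    rw [hT.cardT, pow_two] at h2
    have h4 := Nat.le_of_mul_le_mul_left h2 hp.out.pos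
    refine le_antisymm h4 ?_
    have h5 : C.relIndex T' ≤ p := by
      rw [hC, Subgroup.inf_relIndex_right]
      exact (Subgroup.relIndex_le_of_le_right hT'E Subgroup.index_ne_zero_of_finite).trans hidx
    have h6 := Subgroup.relIndex_mul_relIndex (⊥ : Subgroup X) C T' bot_le inf_le_right
    rw [Subgroup.relIndex_bot_left, Subgroup.relIndex_bot_left, hT', hm.card_img, hT.cardT, pow_two] at h6
    exact Nat.le_of_mul_le_mul_right (h6 ▸ Nat.mul_le_mul_left _ h5) hp.out.pos
  -- the kernel on `E / C` is trivial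
  have hKer : ∀ σ ∈ closure ({α, β} : Set (MulAut E)), (∀ v ∈ E, v⁻¹ * autFun σ v ∈ C) → σ = 1 := by
    intro σ hσ hσE
    have hCE : C ≤ E := inf_le_left.trans hTE
    have hclA : closure ({α, β} : Set (MulAut E)) ≤ F.autGroup E :=
      (Subgroup.closure_le _).2 (by rintro _ (rfl | rfl); exacts [hαA, hβA])
    have hclfix : ∀ c ∈ closure ({α, β} : Set (MulAut E)), ∀ v ∈ C, autFun c v = v := by
      intro c hc
      induction hc using Subgroup.closure_induction with
      | mem c hc => rcases hc with rfl | rfl; exacts [hCα, hCβ]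
      | one => intro v _; rw [autFun_one]; rfl
      | mul c d _ _ ihc ihd => intro v hv; rw [autFun_mul, ihd v hv, ihc v hv]
      | inv c _ ihc => intro v hv; conv_lhs => rw [← ihc v hv, autFun_inv_apply]
    let s : Set (MulAut E) :=
      {c | c ∈ closure ({α, β} : Set (MulAut E)) ∧ ∀ v ∈ E, v⁻¹ * autFun c v ∈ C}
    set K := closure s with hK
    have hKle : K ≤ F.autGroup E := (Subgroup.closure_le _).2 fun c hc => hclA hc.1
    have hKp : IsPGroup p K := isPGroup_stab2 hH.grp hCE (fun c hc => hclfix c hc.1) fun c hc => hc.2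
    have hnorm : ∀ d ∈ closure ({α, β} : Set (MulAut E)), ∀ c ∈ K, d * c * d⁻¹ ∈ K := by
      intro d hd c hc
      induction hc using Subgroup.closure_induction with
      | mem c hc =>
        refine Subgroup.subset_closure ⟨mul_mem (mul_mem hd hc.1) (inv_mem hd), fun v hv => ?_⟩
        have hw := autFun_mem d⁻¹ hv
        have h1 := hc.2 _ hw
        have h2 := hclfix d hd _ h1
        rw [af_mul d (inv_mem hw) (autFun_mem c hw), af_inv d hw, autFun_apply_inv] at h2
        rw [autFun_mul, autFun_mul, h2]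
        exact h1
      | one => rw [mul_one, mul_inv_cancel]; exact one_mem _
      | mul b c _ _ ihb ihc =>
        rw [show d * (b * c) * d⁻¹ = (d * b * d⁻¹) * (d * c * d⁻¹) by group]
        exact mul_mem ihb ihc
      | inv b _ ihb =>
        rw [show d * b⁻¹ * d⁻¹ = (d * b * d⁻¹)⁻¹ by group]
        exact inv_mem ihb
    refine heis_inn hH hT hE (pgroup_le_inn hH hE hx hg hgR hKle hKp
      (hnorm _ (Subgroup.subset_closure (Or.inl rfl))) (hnorm _ (Subgroup.subset_closure (Or.inr rfl)))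
      (Subgroup.subset_closure ⟨hσ, hσE⟩))
  have hsect : ∀ u ∈ E, ∀ v ∈ E, cm u v ∈ C := fun u hu v hv => by
    rw [cm_eq_one_iff.2 (hab u hu v hv)]; exact one_mem _
  obtain ⟨θ', hθ', hinv⟩ := exists_inversion_section (inf_le_left.trans hTE : C ≤ E) le_rfl hsect
    (fun v _ => by rw [hT.exp v]; exact one_mem _) (by rw [hEc, hCc]; ring)
    (a := α) (b := β) (k := k) (l := k)
    (fun v hv => by rw [hCα v hv]; exact hv) (fun v hv => by rw [hCβ v hv]; exact hv)
    (fun v hv => autFun_mem _ hv) (fun v hv => autFun_mem _ hv) hk hk'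
    (fun σ hσ h => ⟨0, by rw [hKer σ hσ h, one_pow]⟩) (pair_not_pgroup hH hE hx hg hgR)
  have hclC : ∀ c ∈ closure ({α, β} : Set (MulAut E)), ∀ v ∈ C, autFun c v = v := by
    intro c hc
    induction hc using Subgroup.closure_induction with
    | mem c hc => rcases hc with rfl | rfl; exacts [hCα, hCβ]
    | one => intro v _; rw [autFun_one]; rfl
    | mul c d _ _ ihc ihd => intro v hv; rw [autFun_mul, ihd v hv, ihc v hv]
    | inv c _ ihc => intro v hv; conv_lhs => rw [← ihc v hv, autFun_inv_apply]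
  have hθC := hclC θ' hθ'
  have hCE : C ≤ E := inf_le_left.trans hTE
  -- the inversion commutes with `α`
  have hcomm : θ' * α = α * θ' := by
    have hαcl : α ∈ closure ({α, β} : Set (MulAut E)) := Subgroup.subset_closure (Or.inl rfl)
    have h1 : (α * θ')⁻¹ * (θ' * α) = 1 := by
      refine hKer _ (mul_mem (inv_mem (mul_mem hαcl hθ')) (mul_mem hθ' hαcl)) fun v hv => ?_
      have e1 := hinv _ (autFun_mem α hv)
      have hw : autFun θ' v ∈ E := autFun_mem θ' hv
      have e2 := hclC α hαcl _ (hinv v hv)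
      rw [af_mul α hv hw] at e2
      have e2' : autFun α v * autFun α (autFun θ' v) ∈ C := e2 ▸ hinv v hv
      set δ := (autFun α (autFun θ' v))⁻¹ * autFun θ' (autFun α v) with hδ
      have hδC : δ ∈ C := by
        have h3 := mul_mem (inv_mem e2') e1
        rw [mul_inv_rev, mul_assoc, inv_mul_cancel_left] at h3
        exact h3
      have hδe : autFun θ' (autFun α v) = autFun α (autFun θ' v) * δ := by rw [hδ, mul_inv_cancel_left]
      rw [autFun_mul, autFun_mul θ', hδe, af_mul _ (autFun_mem _ hw) (hCE hδC),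
        ← autFun_mul α, autFun_inv_apply, hclC _ (inv_mem (mul_mem hαcl hθ')) δ hδC, inv_mul_cancel_left]
      exact hδC
    rw [inv_mul_eq_one] at h1
    exact h1.symm
  have hθA : θ' ∈ F.autGroup E :=
    (Subgroup.closure_le _).2 (by rintro _ (rfl | rfl); exacts [hαA, hβA]) hθ'
  have hαfun : ∀ v ∈ E, autFun θ' (x * v * x⁻¹) = x * autFun θ' v * x⁻¹ := fun v hv => by
    rw [← cA_apply x hv, ← hα, ← cA_apply x (autFun_mem θ' hv), ← hα, ← autFun_mul, hcomm, autFun_mul]
  have hm' : IsMap F E (autFun θ') := isMap_of_mem_autGroup le_top hθA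
  obtain ⟨f, hf, hfe⟩ := exists_extension (hH.grp.to_subgroup ⊤) hH.sat hm'
    (by rw [autFun_img]; exact fullyNormalized_fullyCentralized (hH.grp.to_subgroup ⊤) hH.sat hE.2.1)
  have hnS : nSub (⊤ : Subgroup X) E (autFun θ') = ⊤ := top_le_iff.1 fun y _ => by
    rw [← (sup_eq_top hH hE hx)] at *
    revert y
    intro y _
    have hle : E ⊔ zpowers x ≤ nSub (E ⊔ zpowers x) E (autFun θ') := sup_le
      (fun u hu => mem_nSub.2 ⟨Subgroup.mem_sup_left hu, Subgroup.le_normalizer hu, autFun θ' u,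
        Subgroup.mem_sup_left (autFun_mem θ' hu), fun v hv => by
          rw [af_mul θ' (mul_mem hu hv) (inv_mem hu), af_mul θ' hu hv, af_inv θ' hu]⟩)
      (Subgroup.zpowers_le.2 (mem_nSub.2 ⟨Subgroup.mem_sup_right (mem_zpowers x),
        Subgroup.normalizer_eq_top (H := E) ▸ Subgroup.mem_top x, x,
        Subgroup.mem_sup_right (mem_zpowers x), hαfun⟩))
    exact hle (by assumption)
  rw [hnS] at hf
  have himg : img f ⊤ = ⊤ := Subgroup.eq_top_of_le_card _ (le_of_eq (by rw [hf.card_img]; exact Subgroup.card_top.symm))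
  obtain ⟨θ, hθ, hθe⟩ := hf.exists_aut himg
  have hθf : ∀ v ∈ E, autFun θ v = autFun θ' v := fun v hv => by
    rw [hθe v (Subgroup.mem_top v), hfe v hv]
  have hsplit : zpowers w ⊓ C = ⊥ := by
    by_contra hne
    obtain ⟨v, hv, hv1⟩ := (Subgroup.bot_or_exists_ne_one _).resolve_left hne
    have hwC : zpowers w ≤ C := by
      have h0 : zpowers v ≤ zpowers w := Subgroup.zpowers_le.2 hv.1
      have h1 : zpowers v = zpowers w := Subgroup.eq_of_le_of_card_ge h0 (by
        rw [heis_orderW hH hT, Nat.card_zpowers, orderOf_eq_prime (hT.exp v) hv1])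
      exact h1 ▸ Subgroup.zpowers_le.2 hv.2
    have h1 : α = 1 := hKer α (Subgroup.subset_closure (Or.inl rfl)) fun v hv => by
      rw [hα, cA_apply x hv]
      refine hwC ?_
      have := hT.der v x⁻¹
      rwa [cm_def, inv_inv, mul_assoc _ v, mul_assoc v⁻¹, ← mul_assoc x] at this
    exact hx ((cA_inn_iff hH hE).1 (by rw [← hα, h1]; exact one_mem _))
  have hθw : autFun θ w = w⁻¹ := by
    obtain ⟨n, hn⟩ := mem_zpowers_iff.1 (heis_map_w hH hT (a := θ) (mem_zpowers w))
    have h1 := hinv w (hTE hT.wT)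
    rw [← hθf w (hTE hT.wT), ← hn] at h1
    have h2 : w * w ^ n ∈ zpowers w ⊓ C := ⟨mul_mem (mem_zpowers w) (zpow_mem (mem_zpowers w) n), h1⟩
    rw [hsplit, Subgroup.mem_bot] at h2
    rw [← hn]
    exact eq_inv_of_mul_eq_one_right h2
  have hCT : zpowers w ⊔ C = T := by
    refine Subgroup.eq_of_le_of_card_ge (sup_le (Subgroup.zpowers_le.2 hT.wT) inf_le_left) ?_
    have hlt : zpowers w < zpowers w ⊔ C := lt_of_le_of_ne le_sup_left fun h => by
      have hle : C ≤ zpowers w ⊓ C := le_inf (h.ge.trans' le_sup_right) le_rfl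
      rw [hsplit] at hle
      have := Subgroup.card_le_of_le hle
      rw [hCc, Subgroup.card_bot] at this
      exact absurd this (not_le.2 hp.out.one_lt)
    have := mul_card_le (hH.grp.to_subgroup _) hlt
    rw [heis_orderW hH hT] at this
    rw [hT.cardT, pow_two]
    exact this
  have hTdec : ∀ t ∈ T, ∃ i : ℤ, ∃ u ∈ C, t = w ^ i * u := fun t ht => by
    haveI : (zpowers w).Normal := ⟨fun v hv y => by
      rw [← (hT.cen v (Subgroup.zpowers_le.2 hT.wT hv) y).eq, mul_inv_cancel_right]; exact hv⟩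
    obtain ⟨v, hv, u, hu, rfl⟩ := Subgroup.mem_sup_of_normal_left.1 (hCT.ge ht)
    obtain ⟨i, rfl⟩ := mem_zpowers_iff.1 hv
    exact ⟨i, u, hu, rfl⟩
  refine ⟨θ, hθ, hθw, fun t ht => ?_, fun t ht => ⟨fun h => ?_, fun h => ?_⟩⟩
  · obtain ⟨i, u, hu, rfl⟩ := hTdec t ht
    rw [af_mul θ (Subgroup.mem_top _) (Subgroup.mem_top _), af_zpow θ (Subgroup.mem_top w), hθw,
      hθf u (hCE hu), hθC u hu, mul_inv_rev, inv_zpow', mul_assoc, ← mul_assoc (w ^ i)⁻¹,
      ← zpow_neg, ← zpow_add, (hT.cen (w ^ (-i + -i)) (zpow_mem hT.wT _) u).eq, inv_mul_cancel_left]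
    exact zpow_mem (mem_zpowers w) _
  · obtain ⟨i, u, hu, rfl⟩ := hTdec t ht
    rw [af_mul θ (Subgroup.mem_top _) (Subgroup.mem_top _), af_zpow θ (Subgroup.mem_top w), hθw,
      hθf u (hCE hu), hθC u hu, mul_left_inj, inv_zpow] at h
    have h2 : (w ^ i) ^ 2 = 1 := by rw [pow_two]; nth_rewrite 1 [← h]; exact inv_mul_cancel _
    have h3 : w ^ i = 1 := by
      have h4 := orderOf_dvd_of_pow_eq_one h2
      have h5 := orderOf_dvd_of_pow_eq_one (hT.exp (w ^ i))
      have h6 : (Nat.gcd 2 p) = 1 := (Nat.coprime_primes Nat.prime_two hp.out).2 hH.odd.symm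
      exact orderOf_eq_one_iff.1 (Nat.dvd_one.1 (h6 ▸ Nat.dvd_gcd h4 h5))
    rw [h3, one_mul]
    exact (hT'mem u (hCE hu)).1 hu.2
  · rw [hθf t (hTE ht), hθC t ⟨ht, (hT'mem t (hTE ht)).2 h⟩]

/-- There is no fusion system without a normal subgroup on such a group. -/
theorem heis_false : False := by
  obtain ⟨E0, hE0⟩ := exists_essential hH
  haveI := heis_normal hH hT hE0
  obtain ⟨x0, hx0⟩ := SetLike.exists_not_mem_of_ne_top E0
    (Alperin.essential_lt (hH.grp.to_subgroup ⊤) hH.sat hE0).ne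
  obtain ⟨g0, hg0, hg0R⟩ := exists_conj hH hE0 hx0
  obtain ⟨θ0, hθ0, hθ0w, hθ0m, hθ0f⟩ := heis_involution hH hT hE0 hx0 hg0 hg0R
  let C0 : Subgroup X :=
    { carrier := {t | t ∈ T ∧ autFun θ0 t = t}
      one_mem' := ⟨one_mem _, af_one' _⟩
      mul_mem' := by
        rintro u v ⟨hu, hu'⟩ ⟨hv, hv'⟩
        exact ⟨mul_mem hu hv, by rw [af_mul _ (Subgroup.mem_top u) (Subgroup.mem_top v), hu', hv']⟩
      inv_mem' := by
        rintro u ⟨hu, hu'⟩
        exact ⟨inv_mem hu, by rw [af_inv _ (Subgroup.mem_top u), hu']⟩ }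
  have hwinv : ∀ a : MulAut (⊤ : Subgroup X), ∀ v ∈ zpowers w, autFun a⁻¹ v ∈ zpowers w :=
    fun a v hv => heis_map_w hH hT hv
  have hne : C0 ≠ ⊥ := by
    intro h0
    have hle : T ≤ zpowers w := fun t ht => by
      set s := t * autFun θ0 t with hs
      have hsT : s ∈ T := mul_mem ht (heis_map_mem hH hT (isMap_of_mem_autGroup le_rfl hθ0) ht)
      obtain ⟨k, hk⟩ := mem_zpowers_iff.1 (hθ0m t ht)
      have hθt : autFun θ0 t = t * w ^ k := by rw [hk, mul_inv_cancel_left]
      have hfix : s ∈ C0 := by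
        refine ⟨hsT, ?_⟩
        rw [hs, hθt, af_mul _ (Subgroup.mem_top _) (Subgroup.mem_top _), af_mul _ (Subgroup.mem_top _)
          (Subgroup.mem_top _), hθt, af_zpow _ (Subgroup.mem_top w), hθ0w, inv_zpow, mul_inv_cancel_right, mul_assoc]
        exact congrArg (t * ·) (hT.cen _ (zpow_mem hT.wT k) t).eq
      rw [h0, Subgroup.mem_bot, hs, hθt, ← mul_assoc, ← pow_two] at hfix
      have h2 : t ^ 2 ∈ zpowers w := by
        rw [eq_inv_of_mul_eq_one_left hfix]
        exact inv_mem (zpow_mem (mem_zpowers w) k)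
      obtain ⟨m, hm⟩ := hp.out.odd_of_ne_two hH.odd
      have h3 : t = (t ^ 2) ^ (m + 1) := by
        rw [← pow_mul, show 2 * (m + 1) = p + 1 by omega, pow_succ, hT.exp t, one_mul]
      rw [h3]
      exact pow_mem h2 _
    have := Subgroup.card_le_of_le hle
    rw [heis_orderW hH hT, hT.cardT] at this
    exact absurd this (not_le.2 (lt_self_pow₀ hp.out.one_lt one_lt_two))
  refine hne (hH.core C0 (Normal.normal_of_invariant (hH.grp.to_subgroup ⊤) hH.sat fun P hP => ?_))
  suffices h : C0 ≤ P ∧ ∀ α ∈ F.autGroup P, ∀ v ∈ C0, autFun α v ∈ C0 by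
    refine ⟨h.1, fun α hα => le_antisymm (img_le fun v hv => h.2 α hα v hv) fun v hv => ?_⟩
    rw [← autFun_apply_inv α v]
    exact mem_img_self _ (h.2 _ (inv_mem hα) v hv)
  rcases hP with rfl | hP
  · refine ⟨le_top, fun θ hθ v hv => ?_⟩
    have hmap : ∀ t ∈ T, autFun θ t ∈ T := fun t ht => heis_map_mem hH hT (isMap_of_mem_autGroup le_rfl hθ) ht
    refine ⟨hmap v hv.1, ?_⟩
    have hrig := heis_rigid hH hT (mul_mem hθ hθ0) (mul_mem hθ0 hθ) ?_ ?_ (hwinv _) v hv.1
    · rwa [autFun_mul, autFun_mul, hv.2, eq_comm] at hrig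
    · obtain ⟨n, hn⟩ := mem_zpowers_iff.1 (heis_map_w hH hT (a := θ) (mem_zpowers w))
      rw [autFun_mul, autFun_mul, hθ0w, af_inv θ (Subgroup.mem_top w), ← hn, af_zpow θ0 (Subgroup.mem_top w),
        hθ0w, inv_zpow]
    · intro t ht
      obtain ⟨k, hk⟩ := mem_zpowers_iff.1 (hθ0m t ht)
      obtain ⟨l, hl⟩ := mem_zpowers_iff.1 (hθ0m _ (hmap t ht))
      have e1 : autFun θ0 t = t * w ^ k := by rw [hk, mul_inv_cancel_left]
      have e2 : autFun θ0 (autFun θ t) = autFun θ t * w ^ l := by rw [hl, mul_inv_cancel_left]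
      rw [autFun_mul, autFun_mul, e1, e2, af_mul θ (Subgroup.mem_top _) (Subgroup.mem_top _), mul_inv_rev,
        mul_assoc, inv_mul_cancel_left]
      exact mul_mem (inv_mem (heis_map_w hH hT (zpow_mem (mem_zpowers w) k))) (zpow_mem (mem_zpowers w) l)
  · haveI := heis_normal hH hT hP
    obtain ⟨hTP, -, -, -⟩ := heis_essential hH hT hP
    obtain ⟨x, hx⟩ := SetLike.exists_not_mem_of_ne_top P
      (Alperin.essential_lt (hH.grp.to_subgroup ⊤) hH.sat hP).ne
    obtain ⟨g1, hg1, hg1R⟩ := exists_conj hH hP hx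
    have key : ∀ g ∈ F.autGroup P, ∀ v ∈ C0, autFun g⁻¹ v ∈ T := by
      intro g hg v hv
      by_cases hR : g * cA P x * g⁻¹ ∈ autInducedBy (⊤ : Subgroup X) P
      · obtain ⟨y, hy⟩ := exists_of_induced hR
        obtain ⟨u, hu, n, rfl⟩ := decomp hH hP hx y
        have hβ1 : g * cA P x * g⁻¹ = cA P x ^ n := by
          rw [hy, cA_mul, cA_zpow, heis_inn hH hT hP ((cA_inn_iff hH hP).2 hu), one_mul]
        have hwT : autFun g⁻¹ v ∈ P := autFun_mem _ (hTP hv.1)
        refine (heis_essential hH hT hP).2.2.2 x hx _ hwT ?_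
        have h1 : autFun (g * cA P x * g⁻¹) v = v := by
          rw [hβ1, ← cA_zpow, cA_apply _ (hTP hv.1), ← (hT.cen v hv.1 _).eq, mul_inv_cancel_right]
        rw [autFun_mul, autFun_mul, cA_apply x hwT] at h1
        have h2 := congrArg (autFun g⁻¹) h1
        rw [autFun_inv_apply, mul_inv_eq_iff_eq_mul] at h2
        exact h2.symm
      · obtain ⟨θ, hθ, hθw, hθm, hθf⟩ := heis_involution hH hT hP hx hg hR
        refine (hθf v hv.1).1 ?_
        refine (heis_rigid hH hT hθ hθ0 (hθw.trans hθ0w.symm) (fun t ht => ?_) (hwinv θ) v hv.1).trans hv.2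
        have := mul_mem (inv_mem (hθm t ht)) (hθ0m t ht)
        rwa [mul_inv_rev, inv_inv, mul_assoc, mul_inv_cancel_left] at this
    refine ⟨fun v hv => hTP hv.1, fun a ha v hv => ?_⟩
    have haT : autFun a v ∈ T := by
      have := key a⁻¹ (inv_mem ha) v hv
      rwa [inv_inv] at this
    refine ⟨haT, ?_⟩
    obtain ⟨θ1, hθ1, hθ1w, hθ1m, hθ1f⟩ := heis_involution hH hT hP hx hg1 hg1R
    have h1 : autFun θ1 (autFun a v) = autFun a v := by
      refine (hθ1f _ haT).2 ?_
      rw [← autFun_mul]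
      have := key _ (mul_mem (inv_mem ha) hg1) v hv
      rwa [mul_inv_rev, inv_inv] at this
    refine (heis_rigid hH hT hθ0 hθ1 (hθ0w.trans hθ1w.symm) (fun t ht => ?_) (hwinv θ0) _ haT).trans h1
    have := mul_mem (inv_mem (hθ0m t ht)) (hθ1m t ht)
    rwa [mul_inv_rev, inv_inv, mul_assoc, mul_inv_cancel_left] at this

end

end Cfsg.Agent.Fusion.RankThree.Normal
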