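import Cfsg.Agent.Lib.Fusion.RankThree.Normal.Main
import Cfsg.Agent.Lib.Fusion.RankThree.Normal.Unmoved.Outer

/-!
Two normal essential subgroups invariant under the automorphisms of the group determine its shape.
-/

set_option autoImplicit false
set_option linter.unusedSectionVars false

namespace Cfsg.Agent.Fusion.RankThree.Normal

open Cfsg Cfsg.FusionSystem
open Cfsg.Agent.Fusion Cfsg.Agent.Fusion.Basic Cfsg.Agent.Fusion.Saturation
open Cfsg.Agent.Fusion.RankThree

variable {X : Type*} [Group X] [Finite X] {p : ℕ} [hp : Fact p.Prime] {F : FusionSystem (⊤ : Subgroup X)}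
  {E1 E2 : Subgroup X}

theorem conf_false (hH : Hyp p F) (hC : Conf p F E1 E2) : False := by
  by_cases hinv : AInv F E2 (omegaZ p E1)
  · exact case_inv hH hC hinv
  by_cases hall : ∀ a ∈ F.autGroup E2, ∀ u ∈ omegaZ p E1, autFun a u ∈ E2 ⊓ E1
  · exact case_tower hH hC hinv hall
  · simp only [not_forall] at hall
    obtain ⟨a, ha, u, hu, hout⟩ := hall
    exact case_out hH hC ha hu hout

theorem pair_main (hH : Hyp p F) (hT : Two p F E1 E2)
    (hinv1 : ∀ θ : X → X, IsMap F (⊤ : Subgroup X) θ → ∀ v ∈ E1, θ v ∈ E1)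
    (hinv2 : ∀ θ : X → X, IsMap F (⊤ : Subgroup X) θ → ∀ v ∈ E2, θ v ∈ E2) :
    Shape p F ∧ (PairData p E1 E2 ∨ PairData p E2 E1) := by
  by_cases h1 : omegaZ p E1 ≤ E2
  · by_cases h2 : omegaZ p E2 ≤ E1
    · exfalso
      rcases Unmoved.moved_pair hH hT hinv1 hinv2 with h | h
      · exact conf_false hH ⟨h, hT, h1, h2⟩
      · exact conf_false hH ⟨h, hT.symm hH, h2, h1⟩
    · exact ⟨(pair_shape hH (hT.symm hH) h2).1, Or.inr (pair_shape hH (hT.symm hH) h2).2⟩
  · exact ⟨(pair_shape hH hT h1).1, Or.inl (pair_shape hH hT h1).2⟩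

end Cfsg.Agent.Fusion.RankThree.Normal
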