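import Cfsg.Agent.Lib.Fusion.RankThree.Normal.Block
import Cfsg.Agent.Lib.Fusion.RankThree.Normal.PairHeis

/-!
Two essential subgroups, the block of one not contained in the other: the shape of the group.
-/

set_option autoImplicit false
set_option linter.unusedSectionVars false
set_option linter.style.haveILetI false

namespace Cfsg.Agent.Fusion.RankThree.Normal

open Cfsg Cfsg.FusionSystem
open Cfsg.Agent.Fusion Cfsg.Agent.Fusion.Basic Cfsg.Agent.Fusion.Saturation
open Cfsg.Agent.Fusion.RankThree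
open Subgroup (zpowers closure mem_zpowers mem_zpowers_iff normalizer)

variable {X : Type*} [Group X] [Finite X] {p : ℕ} [hp : Fact p.Prime] {F : FusionSystem (⊤ : Subgroup X)}
  {E E1 : Subgroup X}

/-- Generators of a Sylow subgroup of the symplectic group of degree four. -/
structure SpGen (p : ℕ) {G : Type*} [Group G] (z e w c : G) : Prop where
  zp : z ^ p = 1
  ep : e ^ p = 1
  wp : w ^ p = 1
  cp : c ^ p = 1
  zw : Commute z w
  zc : Commute z c
  wc : Commute w c
  ec : Commute e c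
  ez : cm e z = w
  ew : cm e w = c

/-- A subgroup with no proper supplement to its Frattini subgroup. -/
theorem eq_of_le_sup_phi (hX : IsPGroup p X) {H C : Subgroup X} (hH : H ≤ C) (h : C ≤ H ⊔ phi p C) :
    H = C := by
  have hC := hX.to_subgroup C
  have h1 : H.subgroupOf C ⊔ frattini C = ⊤ := by
    refine Subgroup.map_injective C.subtype_injective ?_
    rw [Subgroup.map_sup, Subgroup.map_subgroupOf_eq_of_le hH, map_frattini hC, ← MonoidHom.range_eq_map,
      Subgroup.range_subtype]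
    exact le_antisymm (sup_le hH phi_le) h
  exact le_antisymm hH (Subgroup.subgroupOf_eq_top.1 (frattini_nongenerating h1))

/-- An elementary section from generators. -/
theorem sect_gen {N : Subgroup X} [N.Normal] {s : Set X} (hc : ∀ a ∈ s, ∀ b ∈ s, cm a b ∈ N)
    (hpow : ∀ a ∈ s, a ^ p ∈ N) :
    (∀ a ∈ closure s, ∀ b ∈ closure s, cm a b ∈ N) ∧ ∀ a ∈ closure s, a ^ p ∈ N := by
  rw [← elem_map_iff, MonoidHom.map_closure]
  refine elem_closure ?_ ?_
  · rintro _ ⟨a, ha, rfl⟩ _ ⟨b, hb, rfl⟩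
    exact mk_cm_eq_one_iff.2 (hc a ha b hb)
  · rintro _ ⟨a, ha, rfl⟩
    rw [← map_pow, QuotientGroup.mk'_apply, QuotientGroup.eq_one_iff]
    exact hpow a ha

/-- The conclusion of the pair analysis. -/
def Shape (p : ℕ) (F : FusionSystem (⊤ : Subgroup X)) : Prop :=
  Nat.card X = p ^ 4 ∧ (∃ z e w c : X, SpGen p z e w c ∧ c ≠ 1 ∧ closure {z, e, w, c} = ⊤) ∧
    ∃ E, F.IsEssential p E ∧ Nat.card E = p ^ 3 ∧ (∀ v ∈ E, v ^ p = 1) ∧ ∃ u ∈ E, ∃ v ∈ E, ¬ Commute u v

/-- The two essential subgroups of the pair. -/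
def PairData (p : ℕ) (E1 E : Subgroup X) : Prop :=
  Nat.card E = p ^ 3 ∧ (∀ v ∈ E, v ^ p = 1) ∧ (∃ u ∈ E, ∃ v ∈ E, ¬ Commute u v) ∧
    Nat.card E1 = p ^ 3 ∧ Elem p E1

set_option maxHeartbeats 2000000 in
/-- The first step of the analysis: generators. -/
theorem pair_shape (hH : Hyp p F) (hT : Two p F E1 E) (hU : ¬ omegaZ p E1 ≤ E) :
    Shape p F ∧ PairData p E1 E := by
  have hE := hT.right
  have hE1 := hT.left
  haveI hEn := hT.rightN
  haveI hE1n := hT.leftN
  haveI hUn : (omegaZ p E1).Normal := ainv_omegaZ.normal (F := F)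
  obtain ⟨z1, hz1U, hz1E⟩ := SetLike.not_le_iff_exists.1 hU
  have hz1p : z1 ^ p = 1 := hz1U.2.1
  set T := E ⊓ E1 with hTdef
  have hTE : T ≤ E := inf_le_left
  set α := cA E z1 with hα
  have hαA : α ∈ F.autGroup E := cA_mem z1
  have hαT : ∀ t ∈ T, autFun α t = t := fun t ht => by
    rw [hα, cA_apply z1 ht.1, (hz1U.2.2 t ht.2).eq, mul_inv_cancel_right]
  obtain ⟨g, hg, hgR⟩ := exists_conj hH hE hz1E
  set β := g * α * g⁻¹ with hβ
  obtain ⟨k, hk⟩ := exists_pow_cA hH hE z1
  have hk' : β ^ p ^ k = 1 := by rw [hβ, conj_pow, hk, mul_one, mul_inv_cancel]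
  have hm : IsMap F T (autFun g) := (isMap_of_mem_autGroup le_top hg).restrict hTE
  set T' := img (autFun g) T with hT'
  have hT'E : T' ≤ E := img_le fun v hv => autFun_mem g (hTE hv)
  have hβT' : ∀ v ∈ T', autFun β v = v := by
    intro v hv
    rw [hT', hm.mem_img] at hv
    obtain ⟨t, ht, rfl⟩ := hv
    rw [hβ, autFun_mul, autFun_inv_apply, autFun_mul, hαT t ht]
  have hcardT' : Nat.card T' = Nat.card T := hm.card_img
  have hTidx : T.relIndex E ≤ p := (hT.relIndex_inf hH).le
  have hcardE : Nat.card E = p * Nat.card T := hT.card_inf hH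
  have hT'idx : T'.relIndex E ≤ p := by
    have h := Subgroup.relIndex_mul_relIndex (⊥ : Subgroup X) T' E bot_le hT'E
    rw [Subgroup.relIndex_bot_left, Subgroup.relIndex_bot_left, hcardT', hcardE, mul_comm p] at h
    exact (Nat.eq_of_mul_eq_mul_left Nat.card_pos h).le
  have hαstepE : ∀ v ∈ E, v⁻¹ * autFun α v ∈ T := step hTE le_rfl hTidx
    (fun v hv => by rw [hαT v hv]; exact hv) (fun v hv => autFun_mem _ hv) hk
  have hβstepE : ∀ v ∈ E, v⁻¹ * autFun β v ∈ T' := step hT'E le_rfl hT'idx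
    (fun v hv => by rw [hβT' v hv]; exact hv) (fun v hv => autFun_mem _ hv) hk'
  haveI hTn : T.Normal := inferInstanceAs (E ⊓ E1).Normal
  -- `T'` differs from `T`
  have hTT' : T' ≠ T := fun heq => by
    refine pair_not_pgroup hH hE hz1E hg hgR (isPGroup_stab2 hH.grp hTE ?_ ?_)
    · rintro c (rfl | rfl) v hv
      · exact hαT v hv
      · exact hβT' v (heq ▸ hv)
    · rintro c (rfl | rfl) v hv
      · exact hαstepE v hv
      · exact heq ▸ hβstepE v hv
  set C := T ⊓ T' with hC
  have hT'T : ¬ T' ≤ T := fun h => hTT' (Subgroup.eq_of_le_of_card_ge h hcardT'.ge)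
  have hTT'' : ¬ T ≤ T' := fun h => hTT' (Subgroup.eq_of_le_of_card_ge h hcardT'.le).symm
  have hCidx : C.relIndex T' ≤ p := by
    rw [hC, Subgroup.inf_relIndex_right]
    exact (Subgroup.relIndex_le_of_le_right hT'E Subgroup.index_ne_zero_of_finite).trans hTidx
  have hcardC : Nat.card T = p * Nat.card C := by
    have h1 : C < T := lt_of_le_of_ne inf_le_left fun h => hTT'' (h ▸ inf_le_right)
    have h2 := mul_card_le (hH.grp.to_subgroup T) h1
    refine le_antisymm ?_ h2
    have h6 := Subgroup.relIndex_mul_relIndex (⊥ : Subgroup X) C T' bot_le inf_le_right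
    rw [Subgroup.relIndex_bot_left, Subgroup.relIndex_bot_left, hcardT', mul_comm] at h6
    exact h6 ▸ Nat.mul_le_mul_right _ hCidx
  have hCidx' : C.relIndex T ≤ p := by
    have h := Subgroup.relIndex_mul_relIndex (⊥ : Subgroup X) C T bot_le inf_le_left
    rw [Subgroup.relIndex_bot_left, Subgroup.relIndex_bot_left, hcardC, mul_comm p] at h
    exact (Nat.eq_of_mul_eq_mul_left Nat.card_pos h).le
  have hCα : ∀ v ∈ C, autFun α v = v := fun v hv => hαT v hv.1
  have hCβ : ∀ v ∈ C, autFun β v = v := fun v hv => hβT' v hv.2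
  -- an element of `T'` moved across `C` by the second automorphism
  obtain ⟨u, huT, huT'⟩ := SetLike.not_le_iff_exists.1 hTT''
  set e := u⁻¹ * autFun β u with he
  have heT' : e ∈ T' := hβstepE u (hTE huT)
  have heE : e ∈ E := hT'E heT'
  have hsup' : ∀ v ∈ T, ∃ d ∈ C, ∃ n : ℤ, v = d * u ^ n := by
    intro v hv
    haveI : (C.subgroupOf T).Normal := ⟨fun a ha b => by
      rw [Subgroup.mem_subgroupOf] at ha ⊢
      refine Subgroup.mem_inf.2 ⟨mul_mem (mul_mem b.2 ha.1) (inv_mem b.2), ?_⟩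
      rw [Subgroup.coe_mul, Subgroup.coe_mul, Subgroup.coe_inv]
      have hb' := autFun_mem g⁻¹ (hTE b.2)
      have hmem : (a : X) ∈ T' := ha.2
      rw [hT', hm.mem_img] at hmem
      obtain ⟨a', ha', hae⟩ := hmem
      rw [← hae, hT', hm.mem_img]
      refine ⟨autFun g⁻¹ b * a' * (autFun g⁻¹ b)⁻¹, hTn.conj_mem a' ha' _, ?_⟩
      rw [af_mul g (mul_mem hb' (hTE ha')) (inv_mem hb'), af_mul g hb' (hTE ha'), af_inv g hb',
        autFun_apply_inv]⟩
    have htop : C.subgroupOf T ⊔ zpowers (⟨u, huT⟩ : T) = ⊤ := by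
      refine Subgroup.eq_top_of_le_card _ ?_
      rw [hcardC, ← Nat.card_congr (Subgroup.subgroupOfEquivOfLe (inf_le_left : C ≤ T)).toEquiv]
      exact mul_card_le_sup (hH.grp.to_subgroup T) fun h => huT' (Subgroup.mem_subgroupOf.1 h).2
    obtain ⟨d, hd, y, hy, hdy⟩ := Subgroup.mem_sup_of_normal_left.1 (htop.ge (Subgroup.mem_top ⟨v, hv⟩))
    obtain ⟨n, rfl⟩ := mem_zpowers_iff.1 hy
    exact ⟨d, Subgroup.mem_subgroupOf.1 hd, n, by
      have := congrArg Subtype.val hdy
      rw [Subgroup.coe_mul, Subgroup.coe_zpow] at this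
      exact this.symm⟩
  have heC : e ∉ C := fun heC => by
    have hβT : ∀ v ∈ T, autFun β v ∈ T := by
      intro v hv
      obtain ⟨d, hd, n, rfl⟩ := hsup' v hv
      rw [af_mul β (hTE hd.1) (zpow_mem (hTE huT) n), hCβ d hd, af_zpow β (hTE huT),
        show autFun β u = u * e by rw [he, mul_inv_cancel_left]]
      exact mul_mem hd.1 (zpow_mem (mul_mem huT heC.1) n)
    refine pair_not_pgroup hH hE hz1E hg hgR (isPGroup_stab3 hH.grp (inf_le_left : C ≤ T) hTE ?_ ?_ ?_)
    · rintro c (rfl | rfl) v hv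
      · exact hCα v hv
      · exact hCβ v hv
    · rintro c (rfl | rfl) v hv
      · rw [hαT v hv, inv_mul_cancel]; exact one_mem _
      · exact step ((inf_le_left : C ≤ T).trans hTE) hTE hCidx'
          (fun v hv => by rw [hCβ v hv]; exact hv) hβT hk' v hv
    · rintro c (rfl | rfl) v hv
      · exact hαstepE v hv
      · exact step hTE le_rfl hTidx hβT (fun v hv => autFun_mem _ hv) hk' v hv
  have heT : e ∉ T := fun h => heC ⟨h, heT'⟩
  have heE1 : e ∉ E1 := fun h => heT ⟨heE, h⟩
  -- `e` is the image of a central element of `T`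
  obtain ⟨s, hsU, hsT, hes⟩ : ∃ s, s ∈ omegaZ p E1 ∧ s ∈ T ∧ e = autFun g s := by
    have hu' := autFun_mem g⁻¹ (hTE huT)
    refine ⟨(autFun g⁻¹ u)⁻¹ * autFun α (autFun g⁻¹ u), ?_, hαstepE _ hu', ?_⟩
    · rw [hα, cA_apply z1 hu']
      have h2 := mul_mem (hUn.conj_mem z1 hz1U (autFun g⁻¹ u)⁻¹) (inv_mem hz1U)
      simpa [mul_assoc] using h2
    · rw [af_mul g (inv_mem hu') (autFun_mem α hu'), af_inv g hu', autFun_apply_inv, he, hβ, autFun_mul,
        autFun_mul]
  have hep : e ^ p = 1 := by rw [hes, ← af_pow g (hTE hsT), hsU.2.1, af_one']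
  have hecen : ∀ v ∈ T', Commute e v := by
    intro v hv
    rw [hT', hm.mem_img] at hv
    obtain ⟨t, ht, rfl⟩ := hv
    show e * _ = _ * e
    rw [hes, ← af_mul g (hTE hsT) (hTE ht), ← af_mul g (hTE ht) (hTE hsT), (hsU.2.2 t ht.2).eq]
  set z := z1⁻¹ with hz
  have hzU : z ∈ omegaZ p E1 := inv_mem hz1U
  have hzE : z ∉ E := fun h => hz1E (by simpa [hz] using inv_mem h)
  set w := cm e z with hw
  have hwα : w = e⁻¹ * autFun α e := by rw [hw, hα, cA_apply z1 heE, hz, cm_def, inv_inv]; group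
  have hwT : w ∈ T := hwα ▸ hαstepE e heE
  have hwU : w ∈ omegaZ p E1 := by
    rw [hw, cm_swap]
    exact inv_mem (cm_mem hzU e)
  have hT'dec : ∀ v ∈ T', ∃ d ∈ C, ∃ n : ℤ, v = d * e ^ n := by
    intro v hv
    obtain ⟨t, ht, n, rfl⟩ := hT.decomp_inf hH heE heE1 (hT'E hv)
    refine ⟨t, ⟨ht, ?_⟩, n, rfl⟩
    have := mul_mem hv (inv_mem (zpow_mem heT' n))
    rwa [mul_inv_cancel_right] at this
  have hwC : w ∉ C := fun hwC => by
    have hαT' : ∀ v ∈ T', autFun α v ∈ T' := by
      intro v hv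
      obtain ⟨d, hd, n, rfl⟩ := hT'dec v hv
      rw [af_mul α (hTE hd.1) (zpow_mem heE n), hCα d hd, af_zpow α heE,
        show autFun α e = e * w by rw [hwα, mul_inv_cancel_left]]
      exact mul_mem hd.2 (zpow_mem (mul_mem heT' hwC.2) n)
    refine pair_not_pgroup hH hE hz1E hg hgR (isPGroup_stab3 hH.grp (inf_le_right : C ≤ T') hT'E ?_ ?_ ?_)
    · rintro c (rfl | rfl) v hv
      · exact hCα v hv
      · exact hCβ v hv
    · rintro c (rfl | rfl) v hv
      · exact step ((inf_le_right : C ≤ T').trans hT'E) hT'E hCidx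
          (fun v hv => by rw [hCα v hv]; exact hv) hαT' hk v hv
      · rw [hβT' v hv, inv_mul_cancel]; exact one_mem _
    · rintro c (rfl | rfl) v hv
      · exact step hT'E le_rfl hT'idx hαT' (fun v hv => autFun_mem _ hv) hk v hv
      · exact hβstepE v hv
  -- `C` is central
  have hCT : C ⊔ zpowers w = T := Subgroup.eq_of_le_of_card_ge
    (sup_le inf_le_left (Subgroup.zpowers_le.2 hwT)) (hcardC ▸ mul_card_le_sup hH.grp hwC)
  have hCw : ∀ d ∈ C, Commute w d := fun d hd => hwU.2.2 d hd.1.2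
  have hCz : ∀ d ∈ C, Commute z d := fun d hd => hzU.2.2 d hd.1.2
  have hCe : ∀ d ∈ C, Commute e d := fun d hd => hecen d hd.2
  have hzE1 : z ∈ E1 := hzU.1
  have hXdec : ∀ v : X, v ∈ closure ((C : Set X) ∪ {z, e, w}) := by
    intro v
    obtain ⟨y, hy, n, rfl⟩ := decomp hH hE hzE v
    obtain ⟨t, ht, m, rfl⟩ := hT.decomp_inf hH heE heE1 hy
    refine mul_mem (mul_mem ?_ (zpow_mem (Subgroup.subset_closure (by simp)) m))
      (zpow_mem (Subgroup.subset_closure (by simp)) n)
    have hle : C ⊔ zpowers w ≤ closure ((C : Set X) ∪ {z, e, w}) :=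
      sup_le (fun d hd => Subgroup.subset_closure (Or.inl hd))
        (Subgroup.zpowers_le.2 (Subgroup.subset_closure (by simp)))
    exact hle (hCT.ge ht)
  haveI hCn : C.Normal := by
    refine ⟨fun d hd v => ?_⟩
    have key : ∀ v ∈ closure ((C : Set X) ∪ {z, e, w}), ∀ d ∈ C, v * d * v⁻¹ ∈ C ∧ v⁻¹ * d * v ∈ C := by
      intro v hv
      induction hv using Subgroup.closure_induction with
      | mem v hv =>
        intro d hd
        rcases hv with hv | rfl | rfl | rfl
        · exact ⟨mul_mem (mul_mem hv hd) (inv_mem hv), mul_mem (mul_mem (inv_mem hv) hd) hv⟩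
        · rw [(hCz d hd).eq, mul_inv_cancel_right, mul_assoc, ← (hCz d hd).eq, inv_mul_cancel_left]
          exact ⟨hd, hd⟩
        · rw [(hCe d hd).eq, mul_inv_cancel_right, mul_assoc, ← (hCe d hd).eq, inv_mul_cancel_left]
          exact ⟨hd, hd⟩
        · rw [(hCw d hd).eq, mul_inv_cancel_right, mul_assoc, ← (hCw d hd).eq, inv_mul_cancel_left]
          exact ⟨hd, hd⟩
      | one => intro d hd; simpa using hd
      | mul a b _ _ iha ihb =>
        intro d hd
        refine ⟨?_, ?_⟩
        · have := (iha _ (ihb d hd).1).1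
          simpa [mul_assoc] using this
        · have := (ihb _ (iha d hd).2).2
          simpa [mul_assoc] using this
      | inv a _ iha =>
        intro d hd
        rw [inv_inv]
        exact ⟨(iha d hd).2, (iha d hd).1⟩
    exact (key v (hXdec v) d hd).1
  haveI : (phi p C).Normal := phi_normal
  -- `C` is cyclic
  have hzT : z ∉ T := fun h => hzE h.1
  have hzp : z ^ p = 1 := hzU.2.1
  have hwp : w ^ p = 1 := hwU.2.1
  obtain ⟨a, ha, hCa⟩ : ∃ a ∈ C, zpowers a = C := by
    by_contra hcon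
    push Not at hcon
    set N := phi p C with hN
    set H := closure ((C : Set X) ∪ {z, w}) with hHdef
    have hNH : N ≤ H := fun v hv => Subgroup.subset_closure (Or.inl (phi_le hv))
    obtain ⟨hc, hpow⟩ := sect_gen (N := N) (s := (C : Set X) ∪ {z, w}) (p := p) (by
      rintro x (hx | rfl | rfl) y (hy | rfl | rfl)
      all_goals first
        | exact cm_mem_phi hx hy
        | (rw [cm_self]; exact one_mem _)
        | (rw [cm_eq_one_iff.2 (hCz _ hx).symm]; exact one_mem _)
        | (rw [cm_eq_one_iff.2 (hCw _ hx).symm]; exact one_mem _)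
        | (rw [cm_eq_one_iff.2 (hCz _ hy)]; exact one_mem _)
        | (rw [cm_eq_one_iff.2 (hCw _ hy)]; exact one_mem _)
        | (rw [cm_eq_one_iff.2 (hzU.2.2 w hwT.2)]; exact one_mem _)
        | (rw [cm_eq_one_iff.2 (hzU.2.2 w hwT.2).symm]; exact one_mem _)) (by
      rintro x (hx | rfl | rfl)
      · exact pow_mem_phi hx
      · rw [hzp]; exact one_mem _
      · rw [hwp]; exact one_mem _)
    obtain ⟨c1, hc1, hc1N⟩ : ∃ c1 ∈ C, c1 ∉ N := SetLike.not_le_iff_exists.1 fun hle => by
      refine hcon 1 (one_mem _) ?_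
      rw [Subgroup.zpowers_one_eq_bot]
      exact eq_of_le_sup_phi hH.grp bot_le (hle.trans le_sup_right)
    obtain ⟨c2, hc2, hc2N⟩ : ∃ c2 ∈ C, c2 ∉ zpowers c1 ⊔ N := SetLike.not_le_iff_exists.1 fun hle =>
      hcon c1 hc1 (eq_of_le_sup_phi hH.grp (Subgroup.zpowers_le.2 hc1) hle)
    have hle1 : N ⊔ zpowers c1 ⊔ zpowers c2 ≤ C :=
      sup_le (sup_le phi_le (Subgroup.zpowers_le.2 hc1)) (Subgroup.zpowers_le.2 hc2)
    refine sect_four hH.grp hH.rank hNH hc hpow (Subgroup.subset_closure (Or.inl hc1))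
      (Subgroup.subset_closure (Or.inl hc2)) (Subgroup.subset_closure (Or.inr (Or.inr rfl)))
      (Subgroup.subset_closure (Or.inr (Or.inl rfl))) hc1N (by rw [sup_comm]; exact hc2N)
      (fun h => hwC (hle1 h)) fun h => hzT ?_
    exact sup_le (hle1.trans inf_le_left) (Subgroup.zpowers_le.2 hwT) h
  have hCab : ∀ d ∈ C, ∀ d' ∈ C, Commute d d' := by
    intro d hd d' hd'
    rw [← hCa] at hd hd'
    obtain ⟨i, rfl⟩ := mem_zpowers_iff.1 hd
    obtain ⟨j, rfl⟩ := mem_zpowers_iff.1 hd'
    exact (Commute.refl a).zpow_zpow i j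
  have hCcen : ∀ d ∈ C, ∀ v : X, Commute d v := by
    intro d hd v
    induction hXdec v using Subgroup.closure_induction with
    | mem v hv =>
      rcases hv with hv | rfl | rfl | rfl
      exacts [hCab d hd v hv, (hCz d hd).symm, (hCe d hd).symm, (hCw d hd).symm]
    | one => exact Commute.one_right d
    | mul x y _ _ ihx ihy => exact ihx.mul_right ihy
    | inv x _ ih => exact ih.inv_right
  -- the commutator of `e` and `w`
  set c := cm e w with hc
  have hcC : c ∈ C := by
    refine Subgroup.mem_inf.2 ⟨cm_mem' e hwT, ?_⟩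
    have hwe : w⁻¹ * e * w ∈ T' := by
      have hb' := autFun_mem g⁻¹ (hTE hwT)
      rw [hes, hT', hm.mem_img]
      refine ⟨(autFun g⁻¹ w)⁻¹ * s * autFun g⁻¹ w, by
        have := hTn.conj_mem s hsT (autFun g⁻¹ w)⁻¹
        rwa [inv_inv] at this, ?_⟩
      rw [af_mul g (mul_mem (inv_mem hb') (hTE hsT)) hb', af_mul g (inv_mem hb') (hTE hsT), af_inv g hb',
        autFun_apply_inv]
    rw [hc, cm_def, mul_assoc _ e, mul_assoc e⁻¹, ← mul_assoc w⁻¹]
    exact mul_mem (inv_mem heT') hwe
  have hcp : c ^ p = 1 := by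
    have h1 := cm_pow_right (a := e) (b := w) (hCcen c hcC w) (p : ℤ)
    rw [zpow_natCast, hwp, cm_one_right, zpow_natCast] at h1
    exact h1.symm
  have hsX : ∀ v : X, v ∈ closure ({a, z, e, w} : Set X) := by
    intro v
    refine (Subgroup.closure_le _).2 ?_ (hXdec v)
    rintro x (hx | rfl | rfl | rfl)
    · rw [← hCa] at hx
      obtain ⟨i, rfl⟩ := mem_zpowers_iff.1 hx
      exact zpow_mem (Subgroup.subset_closure (by simp)) i
    all_goals exact Subgroup.subset_closure (by simp)
  -- `C` has order `p`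
  have hap : a ^ p = 1 := by
    by_contra hap
    set Q := zpowers (a ^ p) with hQ
    have hQC : Q ≤ C := Subgroup.zpowers_le.2 (pow_mem ha p)
    haveI : Q.Normal := ⟨fun d hd v => by
      rw [← (hCcen d (hQC hd) v).eq, mul_inv_cancel_right]; exact hd⟩
    have hcQ : c ∈ Q := by
      obtain ⟨i, hi⟩ := mem_zpowers_iff.1 (hCa.ge hcC)
      obtain ⟨m, hm'⟩ := IsPGroup.iff_orderOf.1 hH.grp a
      have hm2 : 2 ≤ m := by
        by_contra h
        exact hap (orderOf_dvd_iff_pow_eq_one.1 (hm' ▸ pow_dvd_pow p (show m ≤ 1 by omega) |>.trans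
          (pow_one p).dvd))
      have h1 : ((p : ℤ) ^ m) ∣ i * p := by
        have h2 : a ^ (i * (p : ℤ)) = 1 := by rw [zpow_mul, hi, zpow_natCast, hcp]
        have := orderOf_dvd_iff_zpow_eq_one.2 h2
        rwa [hm', Nat.cast_pow] at this
      obtain ⟨m', rfl⟩ := Nat.exists_eq_add_of_le hm2
      have h3 : (p : ℤ) ∣ i := by
        have h4 : (p : ℤ) * p ∣ i * p := dvd_trans ⟨(p : ℤ) ^ m', by ring⟩ h1
        exact Int.dvd_of_mul_dvd_mul_right (by exact_mod_cast hp.out.ne_zero) h4
      obtain ⟨j, rfl⟩ := h3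
      rw [← hi, hQ, zpow_mul, zpow_natCast]
      exact zpow_mem (mem_zpowers _) j
    -- all powers lie in `Q`
    have hall : ∀ v : X, v ^ p ∈ Q := by
      set π := QuotientGroup.mk' Q with hπ
      have hπ1 : ∀ d ∈ Q, π d = 1 := fun d hd => (QuotientGroup.eq_one_iff d).2 hd
      have hwcen : ∀ x : X, x ∈ ({a, z, e, w} : Set X) → Commute (π w) (π x) := by
        rintro x (rfl | rfl | rfl | rfl)
        · exact (hCw x ha).map π
        · exact ((hzU.2.2 w hwT.2).symm).map π
        · refine (cm_eq_one_iff.1 ?_).symm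
          rw [← map_cm π]; exact hπ1 _ hcQ
        · exact Commute.refl _
      have hNe : Elem p (zpowers (π w)) := by
        refine ⟨fun x hx y hy => ?_, fun x hx => ?_⟩
        · obtain ⟨i, rfl⟩ := mem_zpowers_iff.1 hx
          obtain ⟨j, rfl⟩ := mem_zpowers_iff.1 hy
          exact (Commute.refl _).zpow_zpow i j
        · obtain ⟨i, rfl⟩ := mem_zpowers_iff.1 hx
          rw [← map_zpow, ← map_pow, ← zpow_natCast, ← zpow_mul, mul_comm, zpow_mul, zpow_natCast, hwp,
            one_zpow, map_one]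
      have key := pow_closure (X := X ⧸ Q) hH.odd (s := π '' ({a, z, e, w} : Set X)) hNe
        (by
          rintro n hn _ ⟨x, hx, rfl⟩
          obtain ⟨i, rfl⟩ := mem_zpowers_iff.1 hn
          exact (hwcen x hx).zpow_left i)
        (by
          rintro _ ⟨x, hx, rfl⟩ _ ⟨y, hy, rfl⟩
          rw [← map_cm π]
          rcases hx with rfl | rfl | rfl | rfl <;> rcases hy with rfl | rfl | rfl | rfl
          all_goals first
            | (rw [cm_self, map_one]; exact one_mem _)
            | (rw [cm_eq_one_iff.2 (hCcen _ ha _), map_one]; exact one_mem _)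
            | (rw [cm_eq_one_iff.2 (hCcen _ ha _).symm, map_one]; exact one_mem _)
            | exact mem_zpowers _
            | (rw [cm_swap, map_inv]; exact inv_mem (mem_zpowers _))
            | (rw [hπ1 _ hcQ]; exact one_mem _)
            | (rw [cm_swap, map_inv, hπ1 _ hcQ, inv_one]; exact one_mem _)
            | (rw [cm_eq_one_iff.2 (hzU.2.2 w hwT.2), map_one]; exact one_mem _)
            | (rw [cm_eq_one_iff.2 (hzU.2.2 w hwT.2).symm, map_one]; exact one_mem _))
        (by
          rintro _ ⟨x, hx, rfl⟩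
          rw [← map_pow]
          rcases hx with rfl | rfl | rfl | rfl
          · exact hπ1 _ (mem_zpowers _)
          · rw [hzp, map_one]
          · rw [hep, map_one]
          · rw [hwp, map_one])
      intro v
      have h1 := key (π v) (by rw [← MonoidHom.map_closure]; exact Subgroup.mem_map_of_mem _ (hsX v))
      rwa [← map_pow, QuotientGroup.mk'_apply, QuotientGroup.eq_one_iff] at h1
    have hCP : ∀ P, F.IsEssential p P → C ≤ P := fun P hP d hd =>
      centralizer_le hH hP fun v _ => (hCcen d hd v).symm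
    refine hap (Subgroup.zpowers_eq_bot.1 (hH.core Q (Normal.normal_of_invariant (hH.grp.to_subgroup ⊤) hH.sat
      fun P hP => ?_)))
    have hCP' : C ≤ P := by
      rcases hP with rfl | hP
      exacts [le_top, hCP P hP]
    have haut : ∀ α : MulAut P, ∀ v ∈ Q, autFun α v ∈ Q := by
      intro α v hv
      obtain ⟨i, rfl⟩ := mem_zpowers_iff.1 hv
      rw [af_zpow α (pow_mem (hCP' ha) p), af_pow α (hCP' ha)]
      exact zpow_mem (hall _) i
    refine ⟨hQC.trans hCP', fun α _ => le_antisymm (img_le fun v hv => haut α v hv) fun v hv => ?_⟩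
    rw [← autFun_apply_inv α v]
    exact mem_img_self _ (haut _ v hv)
  -- orders
  have hX3 : Nat.card X = p ^ 3 * Nat.card C := by
    rw [← E.card_mul_index, index_p hH hE, hcardE, hcardC]; ring
  have ha1 : a ≠ 1 := by
    rintro rfl
    rw [← hCa, Subgroup.zpowers_one_eq_bot, Subgroup.card_bot, mul_one] at hX3
    refine hH.nrk fun H N _ A hA hAp => ?_
    by_contra hlt
    push Not at hlt
    obtain ⟨i, hi⟩ := IsPGroup.iff_card.1 (((hH.grp.to_subgroup H).to_quotient N).to_subgroup A)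
    have h1 := A.card_le_card_group
    have h2 : Nat.card (H ⧸ N) ≤ Nat.card H := Nat.card_le_card_of_surjective _ (QuotientGroup.mk'_surjective N)
    have h3 := H.card_le_card_group
    rw [hX3] at h3
    have h4 : p ^ 3 ≤ Nat.card A := by
      rw [hi] at hlt ⊢
      exact Nat.pow_le_pow_right hp.out.pos ((Nat.pow_lt_pow_iff_right hp.out.one_lt).1 hlt)
    have hA : A = ⊤ := Subgroup.eq_top_of_le_card _ (h2.trans (h3.trans h4))
    have hHt : H = ⊤ := Subgroup.eq_top_of_le_card _ (hX3 ▸ h4.trans (h1.trans h2))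
    have hinj : Function.Injective (QuotientGroup.mk' N) :=
      ((QuotientGroup.mk'_surjective N).bijective_of_nat_card_le (h3.trans (h4.trans h1))).1
    have he' : e ∈ H := hHt ▸ Subgroup.mem_top e
    have hz' : z ∈ H := hHt ▸ Subgroup.mem_top z
    have h5 := hinj (a₁ := (⟨e, he'⟩ : H) * ⟨z, hz'⟩) (a₂ := (⟨z, hz'⟩ : H) * ⟨e, he'⟩) (by
      rename_i hcomm _
      rw [map_mul, map_mul]
      have hm1 : QuotientGroup.mk' N ⟨e, he'⟩ ∈ A := hA ▸ Subgroup.mem_top _
      have hm2 : QuotientGroup.mk' N ⟨z, hz'⟩ ∈ A := hA ▸ Subgroup.mem_top _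
      exact congrArg Subtype.val (mul_comm' (⟨_, hm1⟩ : A) ⟨_, hm2⟩))
    exact hwC (by rw [hw, cm_eq_one_iff.2 (show Commute e z from congrArg Subtype.val h5)]; exact one_mem _)
  have hCc : Nat.card C = p := by rw [← hCa, Nat.card_zpowers, orderOf_eq_prime hap ha1]
  have hX4 : Nat.card X = p ^ 4 := by rw [hX3, hCc]; ring
  by_cases hc1 : c = 1
  · have hwall : ∀ v : X, Commute w v := fun v => by
      induction hsX v using Subgroup.closure_induction with
      | mem x hx =>
        rcases hx with rfl | rfl | rfl | rfl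
        exacts [hCw _ ha, (hzU.2.2 w hwT.2).symm, (cm_eq_one_iff.1 hc1).symm, Commute.refl _]
      | one => exact Commute.one_right w
      | mul x y _ _ ihx ihy => exact ihx.mul_right ihy
      | inv x _ ih => exact ih.inv_right
    have hws : ∀ x ∈ ({a, z, e, w} : Set X), ∀ y ∈ ({a, z, e, w} : Set X), cm x y ∈ zpowers w := by
      intro x hx y hy
      rcases hx with rfl | rfl | rfl | rfl <;> rcases hy with rfl | rfl | rfl | rfl
      all_goals first
        | (rw [cm_self]; exact one_mem _)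
        | (rw [cm_eq_one_iff.2 (hCcen _ ha _)]; exact one_mem _)
        | (rw [cm_eq_one_iff.2 (hCcen _ ha _).symm]; exact one_mem _)
        | (rw [cm_eq_one_iff.2 (hwall _)]; exact one_mem _)
        | (rw [cm_eq_one_iff.2 (hwall _).symm]; exact one_mem _)
        | exact mem_zpowers _
        | (rw [cm_swap]; exact inv_mem (mem_zpowers _))
    have hNc : ∀ n ∈ zpowers w, ∀ x ∈ ({a, z, e, w} : Set X), Commute n x := fun n hn x _ => by
      obtain ⟨i, rfl⟩ := mem_zpowers_iff.1 hn
      exact (hwall x).zpow_left i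
    refine (heis_false hH (T := T) (w := w) ⟨hX4, ?_, by rw [hcardC, hCc, pow_two], ?_, ?_, hwT, ?_,
      fun h => hwC (h ▸ one_mem _), ⟨e, z, rfl⟩⟩).elim
    · have hNe : Elem p (zpowers w) := by
        refine ⟨fun x hx y hy => ?_, fun x hx => ?_⟩
        · obtain ⟨i, rfl⟩ := mem_zpowers_iff.1 hx
          exact (hwall y).zpow_left i
        · obtain ⟨i, rfl⟩ := mem_zpowers_iff.1 hx
          rw [← zpow_natCast, ← zpow_mul, mul_comm, zpow_mul, zpow_natCast, hwp, one_zpow]
      refine fun v => pow_closure hH.odd hNe hNc hws ?_ v (hsX v)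
      rintro x (rfl | rfl | rfl | rfl)
      exacts [hap, hzp, hep, hwp]
    · intro t ht v
      rw [← hCT] at ht
      obtain ⟨d, hd, y, hy, rfl⟩ := Subgroup.mem_sup_of_normal_left.1 ht
      obtain ⟨i, rfl⟩ := mem_zpowers_iff.1 hy
      exact (hCcen d hd v).mul_left ((hwall v).zpow_left i)
    · intro v hv
      exact ⟨centralizer_le hH hE fun u _ => (hv u).symm, centralizer_le hH hE1 fun u _ => (hv u).symm⟩
    · exact fun u v => cm_closure_mem hNc hws u (hsX u) v (hsX v)
  · have hca : C = zpowers c := (Subgroup.eq_of_le_of_card_ge (Subgroup.zpowers_le.2 hcC) (by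
      rw [hCc, Nat.card_zpowers, orderOf_eq_prime hcp hc1])).symm
    suffices h : (∀ v ∈ E, v ^ p = 1) ∧ ∀ v : X, v ∈ closure ({z, e, w, c} : Set X) by
      have hEc : Nat.card E = p ^ 3 := by rw [hcardE, hcardC, hCc]; ring
      have hEn' : ∃ u ∈ E, ∃ v ∈ E, ¬ Commute u v :=
        ⟨e, heE, w, hTE hwT, fun h => hc1 (cm_eq_one_iff.2 h)⟩
      have hE1c : Nat.card E1 = p ^ 3 := by
        refine Nat.eq_of_mul_eq_mul_right hp.out.pos ?_
        rw [← pow_succ, ← hX4, ← E1.card_mul_index, index_p hH hE1]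
      refine ⟨⟨hX4, ⟨z, e, w, c, ⟨hzp, hep, hwp, hcp, hzU.2.2 w hwT.2, hCz c hcC, hCw c hcC, hCe c hcC, rfl,
        rfl⟩, hc1, top_le_iff.1 fun v _ => h.2 v⟩, E, hE, hEc, h.1, hEn'⟩, hEc, h.1, hEn', hE1c, ?_⟩
      have hB1 := (elem_omegaZ (p := p) (E := E1))
      -- `E1` is generated by central elements of order `p`
      have hle : C ⊔ zpowers w ⊔ zpowers z ≤ omegaZ p E1 := by
        refine sup_le (sup_le ?_ (Subgroup.zpowers_le.2 hwU)) (Subgroup.zpowers_le.2 hzU)
        rw [← hCa, Subgroup.zpowers_le]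
        exact ⟨ha.1.2, hap, fun v _ => hCcen a ha v⟩
      have hcd := mul_card_le_sup hH.grp (x := z) (fun h => hzT (hCT.le h))
      rw [hCT, hcardC, hCc] at hcd
      have heq : omegaZ p E1 = E1 := Subgroup.eq_of_le_of_card_ge omegaZ_le (by
        rw [hE1c, pow_succ', pow_two]
        refine hcd.trans (le_trans ?_ (Subgroup.card_le_of_le hle))
        rw [hCT])
      exact heq ▸ hB1
    refine ⟨?_, fun v => (Subgroup.closure_le _).2 ?_ (hXdec v)⟩
    rotate_left
    · rintro x (hx | rfl | rfl | rfl)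
      · rw [hca] at hx
        obtain ⟨i, rfl⟩ := mem_zpowers_iff.1 hx
        exact zpow_mem (Subgroup.subset_closure (by simp)) i
      all_goals exact Subgroup.subset_closure (by simp)
    · intro v hv
      refine pow_closure hH.odd (N := zpowers c) (s := ({e, w, c} : Set X)) ?_ ?_ ?_ ?_ v ?_
      · refine ⟨fun x hx y hy => hCab x (hca ▸ hx) y (hca ▸ hy), fun x hx => ?_⟩
        obtain ⟨i, rfl⟩ := mem_zpowers_iff.1 hx
        rw [← zpow_natCast, ← zpow_mul, mul_comm, zpow_mul, zpow_natCast, hcp, one_zpow]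
      · exact fun n hn x _ => hCcen n (hca ▸ hn) x
      · intro x hx y hy
        rcases hx with rfl | rfl | rfl <;> rcases hy with rfl | rfl | rfl
        all_goals first
          | (rw [cm_self]; exact one_mem _)
          | (rw [cm_eq_one_iff.2 (hCcen _ hcC _)]; exact one_mem _)
          | (rw [cm_eq_one_iff.2 (hCcen _ hcC _).symm]; exact one_mem _)
          | exact mem_zpowers _
          | (rw [cm_swap]; exact inv_mem (mem_zpowers _))
      · rintro x (rfl | rfl | rfl)
        exacts [hep, hwp, hcp]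
      · obtain ⟨t, ht, n, rfl⟩ := hT.decomp_inf hH heE heE1 hv
        refine mul_mem ?_ (zpow_mem (Subgroup.subset_closure (by simp)) n)
        refine sup_le ?_ (Subgroup.zpowers_le.2 (Subgroup.subset_closure (by simp))) (hCT.ge ht)
        rw [hca]
        exact Subgroup.zpowers_le.2 (Subgroup.subset_closure (by simp))

end Cfsg.Agent.Fusion.RankThree.Normal
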