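import Cfsg.Agent.Lib.Fusion.RankThree.Normal.PairShape
import Cfsg.Agent.Lib.Fusion.SympBlocks
import Cfsg.Agent.Lib.Classical.Symplectic

/-!
A group with the presentation `SpGen` is a Sylow `p`-subgroup of `Sp(4, p)`.
-/

set_option autoImplicit false
set_option linter.unusedSectionVars false
set_option linter.style.haveILetI false

namespace Cfsg.Agent.Fusion.RankThree.Normal

open Cfsg Cfsg.Agent.Fusion Cfsg.Agent.Fusion.Saturation Cfsg.Agent.Fusion.RankThree
open Subgroup (zpowers closure mem_zpowers mem_zpowers_iff normalizer)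
open Pointwise

section

variable {G : Type*} [Group G] [Finite G] {p : ℕ} [hp : Fact p.Prime]

theorem card_adjoin {A : Subgroup G} {x : G} (hx : x ^ p = 1) (hn : x ∈ normalizer (A : Set G))
    (hxA : x ∉ A) : Nat.card (A ⊔ zpowers x : Subgroup G) = p * Nat.card A := by
  have hx1 : x ≠ 1 := fun h => hxA (h ▸ one_mem A)
  have hcx : Nat.card (zpowers x) = p := by rw [Nat.card_zpowers, orderOf_eq_prime hx hx1]
  have hd : Disjoint A (zpowers x) := by
    rw [disjoint_iff]
    have hdvd := Subgroup.card_dvd_of_le (inf_le_right : A ⊓ zpowers x ≤ zpowers x)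
    rw [hcx, Nat.dvd_prime hp.out] at hdvd
    rcases hdvd with h | h
    · exact Subgroup.card_eq_one.1 h
    · exact absurd ((Subgroup.eq_of_le_of_card_ge (inf_le_right : A ⊓ zpowers x ≤ zpowers x)
        (by rw [h, hcx])).ge (mem_zpowers x)).1 hxA
  have hcoe : ((A ⊔ zpowers x : Subgroup G) : Set G) = (A : Set G) * (zpowers x : Set G) :=
    Subgroup.coe_mul_of_right_le_normalizer_left A (zpowers x) (Subgroup.zpowers_le.2 hn)
  refine (Nat.card_eq_of_bijective (fun v : A × zpowers x =>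
    (⟨v.1 * v.2, mul_mem (Subgroup.mem_sup_left v.1.2) (Subgroup.mem_sup_right v.2.2)⟩ :
      (A ⊔ zpowers x : Subgroup G))) ⟨fun v w h => ?_, fun y => ?_⟩).symm.trans ?_
  · exact Subgroup.mul_injective_of_disjoint hd (congrArg Subtype.val h)
  · obtain ⟨a, ha, b, hb, he⟩ := Set.mem_mul.1 (hcoe.le y.2)
    exact ⟨(⟨a, ha⟩, ⟨b, hb⟩), Subtype.ext he⟩
  · rw [Nat.card_prod, hcx, mul_comm]

variable {z e w c : G}

theorem SpGen.card (h : SpGen p z e w c) (hc : c ≠ 1) :
    Nat.card (closure ({z, e, w, c} : Set G) : Subgroup G) = p ^ 4 := by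
  have hfix : ∀ {a x : G}, Commute a x → x ∈ normalizer (zpowers a : Set G) := fun hax =>
    mem_normalizer_of_forall fun v hv => by
      obtain ⟨i, rfl⟩ := mem_zpowers_iff.1 hv
      rw [(hax.zpow_left i).symm.eq, mul_inv_cancel_right]
      exact zpow_mem (mem_zpowers _) i
  have hB : Nat.card (zpowers c) = p := by rw [Nat.card_zpowers, orderOf_eq_prime h.cp hc]
  have hwB : w ∉ zpowers c := fun hw => hc <| by
    obtain ⟨i, hi⟩ := mem_zpowers_iff.1 hw
    rw [← h.ew, cm_def, ← hi, show e⁻¹ * (c ^ i)⁻¹ * e * c ^ i = e⁻¹ * ((c ^ i)⁻¹ * e) * c ^ i by group,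
      ((h.ec.zpow_right i).inv_right).symm.eq]
    group
  set B := zpowers c ⊔ zpowers w with hBd
  have hBc : Nat.card B = p * p := by
    rw [hBd, card_adjoin h.wp (hfix h.wc.symm) hwB, hB]
  have hdecB : ∀ v ∈ B, ∃ j i : ℤ, v = c ^ j * w ^ i := fun v hv => by
    have hcoe : ((B : Subgroup G) : Set G) = (zpowers c : Set G) * (zpowers w : Set G) :=
      Subgroup.coe_mul_of_right_le_normalizer_left _ _ (Subgroup.zpowers_le.2 (hfix h.wc.symm))
    obtain ⟨a, ha, b, hb, rfl⟩ := Set.mem_mul.1 (hcoe.le hv)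
    obtain ⟨j, rfl⟩ := mem_zpowers_iff.1 ha
    obtain ⟨i, rfl⟩ := mem_zpowers_iff.1 hb
    exact ⟨j, i, rfl⟩
  set φ := (MulAut.conj e⁻¹).toMonoidHom with hφ
  have φc : φ c = c := by
    show e⁻¹ * c * e⁻¹⁻¹ = c
    rw [inv_inv, mul_assoc, h.ec.symm.eq, inv_mul_cancel_left]
  have φw : φ w = w * c⁻¹ := by
    show e⁻¹ * w * e⁻¹⁻¹ = w * c⁻¹
    rw [← h.ew, cm_def]; group
  have φz : φ z = z * w⁻¹ := by
    show e⁻¹ * z * e⁻¹⁻¹ = z * w⁻¹
    rw [← h.ez, cm_def]; group
  have hzB : z ∉ B := fun hz => hwB <| by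
    obtain ⟨j, i, hji⟩ := hdecB z hz
    have h1 := congrArg φ hji
    rw [map_mul, map_zpow, map_zpow, φc, φw, φz, h.wc.inv_right.mul_zpow, ← mul_assoc, ← hji,
      mul_right_inj] at h1
    have h2 := congrArg (·⁻¹) h1
    simp only [inv_inv] at h2
    rw [h2]
    exact inv_mem (zpow_mem (inv_mem (mem_zpowers c)) i)
  have hzn : z ∈ normalizer (B : Set G) := mem_normalizer_of_forall fun v hv => by
    obtain ⟨j, i, rfl⟩ := hdecB v hv
    rw [((h.zc.zpow_right j).mul_right (h.zw.zpow_right i)).eq, mul_inv_cancel_right]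
    exact hv
  set A := B ⊔ zpowers z with hAd
  have hAc : Nat.card A = p * (p * p) := by rw [hAd, card_adjoin h.zp hzn hzB, hBc]
  have hzA : z ∈ A := Subgroup.mem_sup_right (mem_zpowers z)
  have hwA : w ∈ A := Subgroup.mem_sup_left (Subgroup.mem_sup_right (mem_zpowers w))
  have hcA : c ∈ A := Subgroup.mem_sup_left (Subgroup.mem_sup_left (mem_zpowers c))
  have hen : e ∈ normalizer (A : Set G) := by
    have hle : A ≤ A.comap φ := by
      rw [hAd, hBd, sup_le_iff, sup_le_iff, Subgroup.zpowers_le, Subgroup.zpowers_le, Subgroup.zpowers_le]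
      refine ⟨⟨?_, ?_⟩, ?_⟩ <;> rw [Subgroup.mem_comap]
      · rw [φc]; exact hcA
      · rw [φw]; exact mul_mem hwA (inv_mem hcA)
      · rw [φz]; exact mul_mem hzA (inv_mem hwA)
    rw [← inv_mem_iff]
    exact mem_normalizer_of_forall fun v hv => hle hv
  have heA : e ∉ A := fun he => hc <| by
    have hle : A ≤ Subgroup.centralizer ({w} : Set G) := by
      rw [hAd, hBd, sup_le_iff, sup_le_iff, Subgroup.zpowers_le, Subgroup.zpowers_le, Subgroup.zpowers_le]
      exact ⟨⟨Subgroup.mem_centralizer_singleton_iff.2 h.wc.symm.eq,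
        Subgroup.mem_centralizer_singleton_iff.2 rfl⟩, Subgroup.mem_centralizer_singleton_iff.2 h.zw.eq⟩
    have hcomm : Commute e w := Subgroup.mem_centralizer_singleton_iff.1 (hle he)
    rw [← h.ew, cm_def, mul_assoc e⁻¹, hcomm.inv_right.symm.eq, inv_mul_cancel_left, inv_mul_cancel]
  have htop : closure ({z, e, w, c} : Set G) = A ⊔ zpowers e := by
    refine le_antisymm ?_ ?_
    · rw [Subgroup.closure_le]
      rintro v (rfl | rfl | rfl | rfl)
      exacts [Subgroup.mem_sup_left hzA, Subgroup.mem_sup_right (mem_zpowers _), Subgroup.mem_sup_left hwA,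
        Subgroup.mem_sup_left hcA]
    · rw [hAd, hBd]
      refine sup_le (sup_le (sup_le ?_ ?_) ?_) ?_ <;> rw [Subgroup.zpowers_le] <;>
        exact Subgroup.subset_closure (by simp)
  rw [htop, card_adjoin h.ep hen heA, hAc]
  ring

theorem SpGen.prod {H : Type*} [Group H] {z' e' w' c' : H} (h : SpGen p z e w c) (h' : SpGen p z' e' w' c') :
    SpGen p (z, z') (e, e') (w, w') (c, c') :=
  ⟨Prod.ext h.zp h'.zp, Prod.ext h.ep h'.ep, Prod.ext h.wp h'.wp, Prod.ext h.cp h'.cp,
    Commute.prod h.zw h'.zw, Commute.prod h.zc h'.zc, Commute.prod h.wc h'.wc, Commute.prod h.ec h'.ec,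
    Prod.ext h.ez h'.ez, Prod.ext h.ew h'.ew⟩

/-- Two such groups are isomorphic. -/
theorem SpGen.equiv {H : Type*} [Group H] [Finite H] {z' e' w' c' : H} (h : SpGen p z e w c)
    (hc : c ≠ 1) (h' : SpGen p z' e' w' c') (hc' : c' ≠ 1) :
    Nonempty (↥(closure ({z, e, w, c} : Set G)) ≃* ↥(closure ({z', e', w', c'} : Set H))) := by
  set K := closure ({(z, z'), (e, e'), (w, w'), (c, c')} : Set (G × H)) with hK
  have hKc : Nat.card K = p ^ 4 := (h.prod h').card fun hh => hc (congrArg Prod.fst hh)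
  have hl : K.map (MonoidHom.fst G H) = closure ({z, e, w, c} : Set G) := by
    rw [hK, MonoidHom.map_closure]; simp [Set.image_insert_eq]
  have hr : K.map (MonoidHom.snd G H) = closure ({z', e', w', c'} : Set H) := by
    rw [hK, MonoidHom.map_closure]; simp [Set.image_insert_eq]
  have e1 := MulEquiv.ofBijective _ (((MonoidHom.fst G H).subgroupMap_surjective K).bijective_of_nat_card_le
    (by rw [hKc, hl, h.card hc]))
  have e2 := MulEquiv.ofBijective _ (((MonoidHom.snd G H).subgroupMap_surjective K).bijective_of_nat_card_le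
    (by rw [hKc, hr, h'.card hc']))
  exact ⟨((MulEquiv.subgroupCongr hl).symm.trans e1.symm).trans (e2.trans (MulEquiv.subgroupCongr hr))⟩

end

section

open Matrix Cfsg.Agent.Fusion.SympBlocks

variable {p : ℕ} [hp : Fact p.Prime]

theorem isSymm_two (a b d : ZMod p) : (!![a, b; b, d] : Matrix (Fin 2) (Fin 2) (ZMod p)).IsSymm := by
  ext i j; fin_cases i <;> fin_cases j <;> rfl

/-- Symmetric unipotent elements. -/
def sy (a b d : ZMod p) : Matrix.symplecticGroup (Fin 2) (ZMod p) := symM !![a, b; b, d] (isSymm_two a b d)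

theorem sy_mul (a b d a' b' d' : ZMod p) : sy a b d * sy a' b' d' = sy (a + a') (b + b') (d + d') := by
  rw [sy, sy, sy, symM_mul]
  exact symM_congr (by ext i j; fin_cases i <;> fin_cases j <;> rfl)

theorem sy_zero : sy (p := p) 0 0 0 = 1 := by
  rw [sy, ← symM_zero]
  exact symM_congr (by ext i j; fin_cases i <;> fin_cases j <;> rfl)

theorem sy_pow (a b d : ZMod p) (n : ℕ) : sy a b d ^ n = sy ((n : ZMod p) * a) ((n : ZMod p) * b) ((n : ZMod p) * d) := by
  induction n with
  | zero => simp [sy_zero]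
  | succ n ih =>
    rw [pow_succ, ih, sy_mul]
    congr 1 <;> push_cast <;> ring

theorem sy_inv (a b d : ZMod p) : (sy a b d)⁻¹ = sy (-a) (-b) (-d) := by
  refine inv_eq_of_mul_eq_one_right ?_
  rw [sy_mul, ← sy_zero]; congr 1 <;> ring

/-- The Levi unipotent. -/
def shear (n : ZMod p) : GL (Fin 2) (ZMod p) :=
  ⟨!![1, n; 0, 1], !![1, -n; 0, 1], by ext i j; fin_cases i <;> fin_cases j <;> simp [Matrix.mul_apply],
    by ext i j; fin_cases i <;> fin_cases j <;> simp [Matrix.mul_apply]⟩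

theorem shear_pow (n : ℕ) : shear (p := p) 1 ^ n = shear (n : ZMod p) := by
  induction n with
  | zero =>
    refine Units.ext ?_
    ext i j; fin_cases i <;> fin_cases j <;> simp [shear]
  | succ n ih =>
    rw [pow_succ, ih]
    refine Units.ext ?_
    ext i j; fin_cases i <;> fin_cases j <;> simp [shear, Matrix.mul_apply, add_comm]

theorem shear_conj (a b d : ZMod p) :
    glM (shear 1) * sy a b d * (glM (shear 1))⁻¹ = sy (a + 2 * b + d) (b + d) d := by
  rw [sy, sy, glM_conj]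
  refine symM_congr ?_
  ext i j; fin_cases i <;> fin_cases j <;> simp [shear, Matrix.mul_apply, Fin.sum_univ_two] <;> ring

theorem sylow_sp (hp2 : p ≠ 2) {X : Type*} [Group X] [Finite X] {z e w c : X} (h : SpGen p z e w c)
    (hc : c ≠ 1) (htop : closure ({z, e, w, c} : Set X) = ⊤) :
    ∃ P : Sylow p ↥(Matrix.symplecticGroup (Fin 2) (ZMod p)),
      Nonempty (X ≃* ↥(P : Subgroup ↥(Matrix.symplecticGroup (Fin 2) (ZMod p)))) := by
  set g := glM (shear (p := p) 1) with hg
  have hcm : ∀ a b d : ZMod p, cm g⁻¹ (sy a b d) = sy (-(2 * b + d)) (-d) 0 := fun a b d => by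
    rw [cm_def, inv_inv, sy_inv, shear_conj, sy_mul]
    congr 1 <;> ring
  have hcomm : ∀ a b d a' b' d' : ZMod p, Commute (sy a b d) (sy a' b' d') := fun a b d a' b' d' => by
    show _ = _
    rw [sy_mul, sy_mul]; congr 1 <;> ring
  have hpow : ∀ a b d : ZMod p, sy a b d ^ p = 1 := fun a b d => by
    rw [sy_pow]; simp [sy_zero]
  have hgen : SpGen p (sy (p := p) 0 0 1) g⁻¹ (sy (-1) (-1) 0) (sy 2 0 0) := by
    refine ⟨hpow _ _ _, ?_, hpow _ _ _, hpow _ _ _, hcomm _ _ _ _ _ _, hcomm _ _ _ _ _ _,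
      hcomm _ _ _ _ _ _, ?_, ?_, ?_⟩
    · rw [inv_pow, inv_eq_one, hg, ← map_pow, shear_pow, show ((p : ZMod p)) = 0 from ZMod.natCast_self p]
      have : shear (p := p) 0 = 1 := by
        refine Units.ext ?_
        ext i j; fin_cases i <;> fin_cases j <;> simp [shear]
      rw [this, map_one]
    · refine Commute.inv_left ?_
      have h1 := shear_conj (p := p) 2 0 0
      rw [mul_inv_eq_iff_eq_mul] at h1
      show _ = _
      rw [h1]; congr 2 <;> ring
    · rw [hcm]; congr 1 <;> ring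
    · rw [hcm]; congr 1 <;> ring
  have hne : sy (p := p) 2 0 0 ≠ 1 := fun h1 => by
    rw [← sy_zero] at h1
    have h2 := congrArg (fun M : Matrix.symplecticGroup (Fin 2) (ZMod p) =>
      (M : Matrix (Fin 2 ⊕ Fin 2) (Fin 2 ⊕ Fin 2) (ZMod p)) (Sum.inr 0) (Sum.inl 0)) h1
    simp [sy, symM_coe] at h2
    have h3 : p ∣ 2 := (CharP.cast_eq_zero_iff (ZMod p) p 2).1 (by exact_mod_cast h2) 
    exact hp2 ((Nat.prime_dvd_prime_iff_eq hp.out Nat.prime_two).1 h3)
  have hK := hgen.card hne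
  have hfac : (Nat.card (Matrix.symplecticGroup (Fin 2) (ZMod p))).factorization p = 4 := by
    rw [Classical.Symplectic.natCard_sp, ZMod.card]
    have h2 : ∀ n, 0 < n → ¬ p ∣ p ^ n - 1 := fun n hn hd => by
      have h3 : p ∣ p ^ n := dvd_pow_self p hn.ne'
      have h4 := Nat.dvd_sub h3 hd
      rw [Nat.sub_sub_self (Nat.one_le_pow _ _ hp.out.pos)] at h4
      exact hp.out.ne_one (Nat.dvd_one.1 h4)
    have hne0 : ∀ n, 0 < n → p ^ n - 1 ≠ 0 := fun n hn h0 => h2 n hn (h0 ▸ dvd_zero p)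
    simp only [Finset.prod_range_succ, Finset.prod_range_zero, one_mul]
    rw [Nat.factorization_mul (pow_ne_zero _ hp.out.ne_zero) (mul_ne_zero (hne0 _ (by norm_num)) (hne0 _ (by norm_num))),
      Nat.factorization_mul (hne0 _ (by norm_num)) (hne0 _ (by norm_num))]
    simp [Nat.factorization_eq_zero_of_not_dvd, h2, hp.out.factorization_self]
  obtain ⟨f⟩ := h.equiv hc hgen hne
  refine ⟨Sylow.ofCard (closure _) (by rw [hK, hfac]), ⟨?_⟩⟩
  exact (Subgroup.topEquiv.symm.trans (MulEquiv.subgroupCongr htop.symm)).trans f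

end

end Cfsg.Agent.Fusion.RankThree.Normal
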