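import Cfsg.Agent.Lib.Fusion.RankThree.Normal.Main
import Cfsg.Agent.Lib.Fusion.PushEssential
import Cfsg.Agent.LocalFlavell.MaxClass.Push

/-!
The hypotheses of the analysis for a system over `S ≤ Ω`, transported to `↥S`.
-/

set_option autoImplicit false
set_option linter.unusedSectionVars false
set_option linter.style.haveILetI false

namespace Cfsg.Agent.Fusion.RankThree.Normal

open Cfsg Cfsg.FusionSystem
open Cfsg.Agent.Fusion Cfsg.Agent.Fusion.Basic Cfsg.Agent.Fusion.Saturation Cfsg.Agent.Fusion.Transport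

variable {Ω : Type*} [Group Ω] {S : Subgroup Ω} [Finite S] {p : ℕ} [Fact p.Prime] {F : FusionSystem S}

theorem shape_push (hp : Odd p) (hS : IsPGroup p S)
    (hsr : SectionalPRankLE p 3 ↥S ∧ ¬ SectionalPRankLE p 2 ↥S) (hF : F.IsSaturated p) (hO : F.core = ⊥)
    (hn : ∀ E : Subgroup Ω, F.IsEssential p E → S ≤ Subgroup.normalizer (E : Set Ω)) :
    Shape p (push (LocalFlavell.MaxClass.Push.iso S) F) := by
  set e := LocalFlavell.MaxClass.Push.iso S with he
  refine shape ⟨hS, fun h => ?_, push_saturated e hS hF, hsr.1, hsr.2,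
    fun Q hQ => PushEssential.eq_bot_of_core e hO hQ⟩ fun E hE => ⟨fun v hv g => ?_⟩
  · subst h; exact absurd hp (by decide)
  · have h1 := PushEssential.essential e.symm (hS.to_subgroup ⊤) (push_saturated e hS hF) hE
    rw [push_push, e.symm_fwd, LocalFlavell.MaxClass.Push.im_bwd] at h1
    obtain ⟨u, hu, hue⟩ := (Subgroup.mem_normalizer_iff.1 (hn _ h1 g.2) (v : Ω)).1 ⟨v, hv, rfl⟩
    have : u = g * v * g⁻¹ := Subtype.ext hue
    exact this ▸ hu

theorem essential_of_push (hS : IsPGroup p S) (hF : F.IsSaturated p) {E : Subgroup ↥S}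
    (hE : (push (LocalFlavell.MaxClass.Push.iso S) F).IsEssential p E) :
    F.IsEssential p (E.map S.subtype) := by
  have h1 := PushEssential.essential (LocalFlavell.MaxClass.Push.iso S).symm (hS.to_subgroup ⊤)
    (push_saturated _ hS hF) hE
  rwa [push_push, Iso.symm_fwd, LocalFlavell.MaxClass.Push.im_bwd] at h1

end Cfsg.Agent.Fusion.RankThree.Normal
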